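import Cfsg.Agent.Lib.OE.ID
import Cfsg.Agent.Lib.Perm.AltAut

/-!
# Package AS of plan OE: almost simple groups with socle `A₅` or `A₆`
-/

set_option autoImplicit false

namespace Cfsg.Agent.OE

open Subgroup Cfsg.Agent.OO Cfsg.Agent.Coprime GW GW2 Equiv Equiv.Perm
open scoped Pointwise

universe u

namespace As

variable {X : Type u} [Group X] [Finite X] {N : Subgroup X} {s t : X} {n : ℕ}

/-- the four-groups of a dihedral Sylow subgroup of order eight are not swapped -/
theorem no_swap (hE : E6 X) (hN : N.Normal) (hs : s ∈ N) (ht : t ∈ N) (s2 : s * s = 1)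
    (t2 : t * t = 1) (h2 : s * t * (s * t) ≠ 1) (h4 : (s * t) ^ 2 ^ 2 = 1) (hc : ¬ 16 ∣ ♯N) :
    ∃ S, Syl 2 S ⊤ ∧ ∀ x ∈ S, x * (s * t * (s * t)) * x⁻¹ = s * t * (s * t) ∧
      (x * s * x⁻¹ = s ∨ x * s * x⁻¹ = s * (s * t * (s * t))) := by
  classical
  have := Fact.mk Nat.prime_two
  have ho : orderOf (s * t) = 2 ^ 2 := orderOf_eq_prime_pow (by rwa [pow_one, sq]) h4
  have h1 := Core.isPGroup_two_closure_pair_involutions s2 t2 h4
  have k1 : s ∈ closure ({s, t} : Set X) := subset_closure (by simp)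
  have k2 : s * t ∈ closure ({s, t} : Set X) := mul_mem k1 (subset_closure (by simp))
  have inv : ∀ y ∈ zpowers (s * t), s * y * s = y⁻¹ := by
    rintro _ ⟨j, rfl⟩
    nth_rw 3 [← inv_eq_of_sq s2]
    rw [← conj_zpow, ← inv_zpow, mul_inv_rev, inv_eq_of_sq s2, inv_eq_of_sq t2, ← mul_assoc, s2,
      one_mul]
  have dec : ∀ x ∈ closure ({s, t} : Set X), x ∉ zpowers (s * t) →
      ∃ y ∈ zpowers (s * t), x = s * y := fun x hx e =>
    ⟨_, (Core.mem_closure_pair_involutions s2 t2 hx).resolve_left e, by rw [← mul_assoc, s2, one_mul]⟩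
  have hle : closure ({s, t} : Set X) ≤ N := (closure_le _).2 (by
    rintro _ (rfl | rfl) <;> assumption)
  generalize s * t = r at *
  generalize closure ({s, t} : Set X) = T at *
  have hn : s ∉ zpowers r := fun e => h2 (by
    rw [mul_eq_one_iff_eq_inv, ← inv r (mem_zpowers r), ← mem_cent1.1
      (cent1_le_of_mem_zpowers e (mem_cent1_self r)), mul_assoc, s2, mul_one])
  have h3 : zpowers r < T := lt_of_le_of_ne (zpowers_le.2 k2) fun e => hn (e ▸ k1)
  have hT : Syl 2 T N := ⟨hle, h1, fun e => hc (by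
    obtain ⟨j, hj⟩ := h1.exists_card_eq
    have h4 := card_lt h3
    rw [Nat.card_zpowers, ho, hj, Nat.pow_lt_pow_iff_right one_lt_two] at h4
    rw [← card_mul_relIndex hle, hj]
    exact Nat.mul_dvd_mul (pow_dvd_pow 2 h4) e)⟩
  obtain ⟨S, hS, k3⟩ := exists_syl_ge le_top h1
  have k4 : T = S ⊓ N := hT.eq_of_le_syl (hS.inf_normal (normalIn_top.2 hN)) (le_inf k3 hle)
  have k5 : S ≤ 𝐍(T) := k4 ▸ le_norm_inf (le_norm_self S) (le_top.trans (normalIn_top.2 hN).norm)
  have r4 : r * r * (r * r) = 1 := hE.pow4 h1 k2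
  have zp : ∀ y ∈ zpowers r, y = 1 ∨ y = r ∨ y = r * r ∨ y = r⁻¹ := fun y hy => by
    obtain ⟨i, hi, rfl⟩ := Finset.mem_image.1 (mem_zpowers_iff_mem_range_orderOf.1 hy)
    rw [ho, Finset.mem_range] at hi
    interval_cases i
    exacts [.inl (pow_zero r), .inr (.inl (pow_one r)), .inr (.inr (.inl (sq r))),
      .inr (.inr (.inr (eq_inv_of_mul_eq_one_left (by rw [← r4, pow_three']; simp only [mul_assoc]))))]
  have rr : r⁻¹ * r⁻¹ = r * r := by rw [← mul_inv_rev, inv_eq_of_sq r4]
  refine ⟨S, hS, fun x hx => ?_⟩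
  have k6 : x * r * x⁻¹ * (x * r * x⁻¹) ≠ 1 := by rw [conj_mul]; exact conj_ne_one h2 x
  have k7 : x * r * x⁻¹ = r ∨ x * r * x⁻¹ = r⁻¹ := by
    by_cases e : x * r * x⁻¹ ∈ zpowers r
    · rcases zp _ e with e | e | e | e
      exacts [absurd (by rw [e, one_mul]) k6, .inl e, absurd (by rw [e, r4]) k6, .inr e]
    · obtain ⟨y, hy, e⟩ := dec _ (conj_mem_of_norm (k5 hx) k2) e
      exact absurd (by rw [e, ← mul_assoc, inv y hy, inv_mul_cancel]) k6
  have k8 : x * x * r * (x * x)⁻¹ = r := by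
    rw [show x * x * r * (x * x)⁻¹ = x * (x * r * x⁻¹) * x⁻¹ by group]
    rcases k7 with e | e <;> rw [e]
    exacts [e, by rw [← conj_inv, e, inv_inv]]
  refine ⟨by rw [← conj_mul]; rcases k7 with e | e <;> rw [e]; exact rr, ?_⟩
  obtain ⟨y, hy, e⟩ := dec _ (conj_mem_of_norm (k5 hx) k1) fun e => hn (by
    have k9 : x ∈ 𝐍(zpowers r) := conj_eq_self_iff.1 (by
      rw [conj_zpowers]; rcases k7 with e | e <;> rw [e]; exact zpowers_inv)
    simpa [mul_assoc] using conj_mem_of_norm' k9 e)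
  have k9 := hE.pow4 hS.isPGroup (mul_mem (k3 k1) hx)
  rw [show s * x * (s * x) = s * (x * s * x⁻¹) * (x * x) by group, e, ← mul_assoc s, s2, one_mul,
    show y * (x * x) * (y * (x * x)) = y * (x * x * y * (x * x)⁻¹) * (x * x * (x * x)) by
      generalize x * x = w; group,
    hE.pow4 hS.isPGroup hx, mul_one,
    mem_cent1_iff_conj.1 (cent1_le_of_mem_zpowers hy (mem_cent1_iff_conj.2 k8))] at k9
  rcases zp y hy with rfl | rfl | rfl | rfl
  exacts [.inl (by rw [e, mul_one]), absurd k9 h2, .inr e, absurd (rr ▸ k9) h2]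

variable [N.Normal] (e : N ≃* alternatingGroup (Fin n))

/-- the action of `X` on the alternating group -/
def act : X →* MulAut (alternatingGroup (Fin n)) :=
  (MulAut.congr e).toMonoidHom.comp MulAut.conjNormal

omit [Finite X] in
theorem act_apply (x : X) (g : alternatingGroup (Fin n)) :
    (e.symm (act e x g) : X) = x * e.symm g * x⁻¹ := by
  simp [act]

theorem iso_perm (hn : 5 ≤ n) (hC : 𝐂(N) = ⊥) (hne : N ≠ ⊤)
    (h : ∀ x, ∃ σ : Perm (Fin n), MulAut.conjNormal σ = act e x) : Nonempty (X ≃* Perm (Fin n)) := by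
  have h1 := AltAut.conjNormal_injective (α := Fin n) (by simp; omega)
  let φ := (MonoidHom.ofInjective h1).symm.toMonoidHom.comp ((act e).codRestrict _ h)
  have h2 : Function.Injective φ := (injective_iff_map_eq_one _).2 fun x hx => by
    have h3 : act e x = 1 := congrArg Subtype.val ((map_eq_one_iff _ (MonoidHom.ofInjective h1).symm.injective).1
      hx : (act e).codRestrict _ h x = 1)
    refine mem_bot.1 (hC ▸ mem_cent_iff_conj.2 fun y hy => ?_)
    simpa [h3] using (act_apply e x (e ⟨y, hy⟩)).symm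
  have : Nontrivial (Fin n) := Fin.nontrivial_iff_two_le.2 (by omega)
  refine ⟨.ofBijective φ ((Nat.bijective_iff_injective_and_card _).2 ⟨h2, le_antisymm
    (Nat.card_le_card_of_injective _ h2) ?_⟩)⟩
  rw [← two_mul_nat_card_alternatingGroup, ← Nat.card_congr e.toEquiv, ← N.index_mul_card]
  exact Nat.mul_le_mul_right _ (by
    have := index_ne_zero_of_finite (H := N)
    have := index_eq_one.not.2 hne
    omega)

theorem three_of_one (hn : 5 ≤ n) (β : MulAut (alternatingGroup (Fin n)))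
    {c : alternatingGroup (Fin n)} (hc : (c : Perm (Fin n)).IsThreeCycle)
    (h : (β c : Perm (Fin n)).support.card < 6) : ∃ σ : Perm (Fin n), MulAut.conjNormal σ = β := by
  have h1 : (β c : Perm (Fin n)).IsThreeCycle := (AltAut.type_of_card hc (by
    rw [MulEquiv.orderOf_eq, ← orderOf_coe, hc.orderOf]) (AltAut.card_cent_aut β c)).resolve_right
      fun e => by rw [← sum_cycleType, e] at h; exact absurd h (by decide)
  refine AltAut.exists_conj_of_three (by simp; omega) β fun g hg => ?_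
  exact (isConj_iff_cycleType_eq.1 ((alternatingGroup _).subtype.map_isConj (β.toMonoidHom.map_isConj
    (alternatingGroup.isThreeCycle_isConj (by simpa) hc hg)))).symm.trans h1

theorem three5 : (swap 1 2 * swap 1 3 : Perm (Fin 5)).IsThreeCycle :=
  isThreeCycle_swap_mul_swap_same (by decide) (by decide) (by decide)

theorem three6 : (swap 1 2 * swap 1 3 : Perm (Fin 6)).IsThreeCycle :=
  isThreeCycle_swap_mul_swap_same (by decide) (by decide) (by decide)

/-- the involution `(0 2) (1 3)` -/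
def s6 : alternatingGroup (Fin 6) := ⟨swap 0 2 * swap 1 3, mem_alternatingGroup.2 (by decide)⟩

/-- the involution `(2 3) (4 5)` -/
def t6 : alternatingGroup (Fin 6) := ⟨swap 2 3 * swap 4 5, mem_alternatingGroup.2 (by decide)⟩

/-- the cycle `(1 3 2)` -/
def c6 : alternatingGroup (Fin 6) := ⟨_, three6.mem_alternatingGroup⟩

theorem six (β : MulAut (alternatingGroup (Fin 6)))
    (h1 : β (s6 * t6 * (s6 * t6)) = s6 * t6 * (s6 * t6))
    (h2 : β s6 = s6 ∨ β s6 = s6 * (s6 * t6 * (s6 * t6))) :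
    ∃ σ : Perm (Fin 6), MulAut.conjNormal σ = β := by
  refine three_of_one (by omega) β (c := c6) three6 ?_
  have h3 := congrArg β (show s6 * t6 * (s6 * t6) * c6 = c6 * s6 by decide)
  have h4 := congrArg β (show c6 * c6 * c6 = 1 by decide)
  rw [map_mul, map_mul β c6, h1] at h3
  rw [map_mul, map_mul, map_one] at h4
  generalize β c6 = g at h3 h4
  generalize β s6 = b at h2 h3
  have h5 : ∀ i : Fin 6, (s6 * t6 * (s6 * t6)).1 i = i → i = 4 ∨ i = 5 := by decide
  have h6 : ∀ i, i = 4 ∨ i = 5 → b.1 i = i := by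
    rcases h2 with rfl | rfl <;> decide
  have h7 : ∀ i, i = 4 ∨ i = 5 → g.1 i = 4 ∨ g.1 i = 5 := fun i hi => h5 _ (by
    have := congrArg (fun y : alternatingGroup (Fin 6) => y.1 i) h3
    generalize s6 * t6 * (s6 * t6) = z at this ⊢
    change z.1 (g.1 i) = g.1 (b.1 i) at this
    rwa [h6 i hi] at this)
  have h8 : g.1 4 = 4 := (h7 4 (.inl rfl)).resolve_right fun e => by
    have k1 := (h7 5 (.inr rfl)).resolve_right fun e' => absurd (g.1.injective (e.trans e'.symm)) (by decide)
    have : g.1 (g.1 (g.1 4)) = 4 := congrArg (fun y : alternatingGroup (Fin 6) => y.1 4) h4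
    rw [e, k1, e] at this
    exact absurd this (by decide)
  exact (Finset.card_lt_univ_of_notMem (notMem_support.2 h8)).trans_eq (by simp)

end As

open As

theorem as0 : AS.{u} := fun X _ _ N hE hN hK hC hne => by
  rcases hK with ⟨⟨e⟩⟩ | ⟨⟨e⟩⟩
  · exact .inl (iso_perm e le_rfl hC hne fun x => three_of_one le_rfl _
      (c := ⟨_, three5.mem_alternatingGroup⟩) three5 ((Finset.card_le_univ _).trans_lt (by simp)))
  refine .inr (iso_perm e (by omega) hC hne fun x => ?_)
  have := Fact.mk Nat.prime_two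
  have inj : ∀ {a b}, (e.symm a : X) = e.symm b → a = b := fun h => e.symm.injective (Subtype.ext h)
  obtain ⟨S, hS, h⟩ := no_swap hE hN (e.symm s6).2 (e.symm t6).2
    (by rw [← Subgroup.coe_mul, ← map_mul, show s6 * s6 = 1 by decide, map_one, Subgroup.coe_one])
    (by rw [← Subgroup.coe_mul, ← map_mul, show t6 * t6 = 1 by decide, map_one, Subgroup.coe_one])
    (fun k => absurd (inj (a := s6 * t6 * (s6 * t6)) (b := 1) (by simpa using k)) (by decide))
    (by rw [← Subgroup.coe_mul, ← Subgroup.coe_pow, ← map_mul, ← map_pow, show (s6 * t6) ^ 2 ^ 2 = 1 by decide, map_one,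
      Subgroup.coe_one]) (by rw [Nat.card_congr e.toEquiv, Idn.card_A6]; norm_num)
  let Y := (MulAut.conjNormal : Perm (Fin 6) →* _).range.comap (act e)
  have h1 : ∀ y, y * y ∈ Y := fun y => AltAut.exists_conj_of_three (by simp) _ fun g hg => by
    rw [map_mul]; exact AltAut.three_sq (by simp) _ g hg
  have h2 : S ≤ Y := fun y hy => six _ (inj (by simpa [act_apply] using (h y hy).1))
    ((h y hy).2.imp (fun k => inj (by rwa [act_apply])) fun k => inj (by simpa [act_apply] using k))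
  obtain ⟨g, -, h3⟩ := hS.exists_conj_le le_top (isPGroup_zpowers_iff.2 (piElt_constt {2} x))
  refine mem_of_constt_mem (H := Y) (π := {2}) ?_ (AltAut.exists_conj_of_odd (by simp) _
    (Odd.of_dvd_nat (Nat.not_even_iff_odd.1 fun k => (isPiNum_compl_singleton Nat.prime_two).1
      (piElt_constt _ x) k.two_dvd) (orderOf_map_dvd _ _)))
  have h4 := h2 (h3 (conj_mem_conj (mem_zpowers _)))
  generalize constt {2} x = y at h4
  have h5 := mul_mem (mul_mem (h1 g) (h1 (g⁻¹ * y))) (inv_mem (h1 y))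
  rw [show g * g * (g⁻¹ * y * (g⁻¹ * y)) * (y * y)⁻¹ = g * y * g⁻¹ * y⁻¹ by group,
    mul_mem_cancel_left h4] at h5
  exact inv_mem_iff.1 h5

end Cfsg.Agent.OE
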