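import Cfsg.Agent.Lib.OE.Basic

/-!
# Groups whose element orders are at most six: forbidden actions
-/

set_option autoImplicit false
set_option linter.unusedSectionVars false

namespace Cfsg.Agent.OE

open Subgroup Cfsg.Agent.OO Cfsg.Agent.Coprime GW GW2
open scoped Pointwise commutatorElement

universe u

variable {G : Type u} [Group G] {A Q R T Z : Subgroup G} {a b c e f g q r s t v w x y z : G}

theorem mem_zpowers_three (g3 : g ^ 3 = 1) (hx : x ∈ zpowers g) : x = 1 ∨ x = g ∨ x = g⁻¹ := by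
  have := ZN.mem_cases (C := ⊥) (x := g) (by rw [norm_bot]; trivial) (by simpa using g3) (mem_sup_left hx)
  simpa [mul_inv_eq_one, mul_eq_one_iff_eq_inv] using this

theorem two_zpowers (s4 : s ^ 4 = 1) [Finite G] : IsPGroup 2 (zpowers s) := isPGroup_zpowers_iff.2
  ((isPiNum_singleton_pow Nat.prime_two 2).of_dvd (orderOf_dvd_of_pow_eq_one s4))

theorem three_zpowers (s3 : s ^ 3 = 1) [Finite G] : IsPGroup 3 (zpowers s) :=
  have := Fact.mk Nat.prime_three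
  isPGroup_zpowers_iff.2
    ((isPiNum_singleton_pow Nat.prime_three 1).of_dvd (orderOf_dvd_of_pow_eq_one s3))

theorem five_zpowers (s5 : s ^ 5 = 1) [Finite G] : IsPGroup 5 (zpowers s) :=
  have := Fact.mk Nat.prime_five
  isPGroup_zpowers_iff.2
    ((isPiNum_singleton_pow Nat.prime_five 1).of_dvd (orderOf_dvd_of_pow_eq_one s5))

variable [Finite G]

theorem E6.norm3 (h : E6 G) (hR : IsPGroup 3 R) (y3 : y ^ 3 = 1) (hy : y ∈ 𝐍(R)) (hr : r ∈ R) :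
    r * (y * r * y⁻¹) * (y * (y * r * y⁻¹) * y⁻¹) = 1 := by
  have := h.pow3 (isPGroup_sup hR (three_zpowers y3) (.inr (zpowers_le.2 hy)))
    (mul_mem_sup hr (mem_zpowers y))
  rw [← this, ← mul_one (_ * _ * _), ← y3]
  simp only [pow_succ, pow_zero, one_mul, mul_assoc, inv_mul_cancel_left]

theorem E6.norm4 (h : E6 G) (hQ : IsPGroup 2 Q) (s4 : s ^ 4 = 1) (hs : s ∈ 𝐍(Q)) (hv : v ∈ Q) :
    v * (s * v * s⁻¹) * (s * (s * v * s⁻¹) * s⁻¹) * (s * (s * (s * v * s⁻¹) * s⁻¹) * s⁻¹) = 1 := by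
  have := h.pow4' (isPGroup_sup hQ (two_zpowers s4) (.inr (zpowers_le.2 hs)))
    (mul_mem_sup hv (mem_zpowers s))
  rw [← this, ← mul_one (_ * _ * _ * _), ← s4]
  simp only [pow_succ, pow_zero, one_mul, mul_assoc, inv_mul_cancel_left]

theorem E6.a4_aux (h : E6 G) (hR : IsPGroup 3 R) (p : F4 e f) (ρ : Rot e f y) (y3 : y ^ 3 = 1)
    (hf : f ∈ 𝐍(R)) (hy : y ∈ 𝐍(R)) : R ⊓ 𝐂[e] ≤ 𝐂[f] := fun s hs => by
  obtain ⟨r, hr⟩ : ∃ r, r = s * (f * s * f⁻¹)⁻¹ := ⟨_, rfl⟩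
  have hrR : r ∈ R := hr ▸ mul_mem hs.1 (inv_mem (conj_mem_of_norm hf hs.1))
  have h1 : e * r * e⁻¹ = r := mem_cent1_iff_conj.1 (mem_cent1_comm.1 (hr ▸ mul_mem hs.2
    (inv_mem (mul_mem (mul_mem p.e_mem hs.2) (inv_mem p.e_mem)))))
  have h2 : f * r * f⁻¹ = r⁻¹ := by
    rw [hr, show f * (s * (f * s * f⁻¹)⁻¹) * f⁻¹ = f * s * f⁻¹ * (f * f * s * (f * f)⁻¹)⁻¹ by group,
      p.e2]; group
  have h3 : e * f * r * (e * f)⁻¹ = r⁻¹ := by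
    rw [mul_cj, h2, show e * r⁻¹ * e⁻¹ = (e * r * e⁻¹)⁻¹ by group, h1]
  have cj : ∀ {g u u' : G}, g * u * g⁻¹ = u' →
      y * g * y⁻¹ * (y * u * y⁻¹) * (y * g * y⁻¹)⁻¹ = y * u' * y⁻¹ := fun e => by rw [← e]; group
  have k1 := cj h3
  have k2 := cj (cj h2)
  rw [ρ.ρte p] at k1
  rw [ρ.ρe, ρ.ρte p] at k2
  have n := h.norm3 hR y3 hy hrR
  have r1 := conj_mem_of_norm hy hrR
  rw [show y * r⁻¹ * y⁻¹ = (y * r * y⁻¹)⁻¹ by group] at k1 k2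
  generalize y * r * y⁻¹ = u at k1 k2 n r1
  have r2 := conj_mem_of_norm hy r1
  rw [show y * u⁻¹ * y⁻¹ = (y * u * y⁻¹)⁻¹ by group] at k2
  generalize y * u * y⁻¹ = v at k2 n r2
  have n' : r * u⁻¹ * v⁻¹ = 1 := by
    rw [← h1, ← k1, ← k2, ← cj_mul, ← cj_mul, n]; group
  have e1 : u * v = u⁻¹ * v⁻¹ := by rw [mul_assoc] at n n'; exact mul_left_cancel (n.trans n'.symm)
  have e2 : u * v = 1 := by
    have e3 : u⁻¹ = v⁻¹ * v⁻¹ := by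
      rw [inv_eq_of_cube (h.pow3 hR r1), show u * u = u * (u * v) * v⁻¹ by group, e1]; group
    rw [← mul_inv_rev, ← inv_eq_of_cube (h.pow3 hR r2), inv_inv] at e3
    rw [← e3, mul_inv_cancel]
  rw [mul_assoc, e2, mul_one, hr, mul_inv_eq_one] at n
  exact mem_cent1_comm.1 (mem_cent1_iff_conj.2 n.symm)

/-- `A₄` acting on a 3-group -/
theorem E6.a4 (h : E6 G) (hR : IsPGroup 3 R) (p : F4 e f) (ρ : Rot e f y) (y3 : y ^ 3 = 1)
    (he : e ∈ 𝐍(R)) (hf : f ∈ 𝐍(R)) (hy : y ∈ 𝐍(R)) : e ∈ 𝐂(R) := by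
  have := Fact.mk Nat.prime_three
  obtain ⟨k, hk⟩ := IsPGroup.iff_card.1 hR
  refine le_cent1_iff.1 (p.le_of_forall (S4_le.2 ⟨he, hf⟩) (hk ▸ Odd.pow (by decide)) inf_le_right
    (fun s hs => ?_) fun s hs => ?_)
  · have := h.a4_aux hR p.rot (ρ.rot p) y3 (mul_mem he hf) hy hs
    rw [← p.ete]; exact mem_cent1_comm.1 (mul_mem (mem_cent1_comm.1 hs.2) (mem_cent1_comm.1 this))
  · have := h.a4_aux hR p.rot.rot ((ρ.rot p).rot p.rot) y3 (p.ete.symm ▸ he) hy hs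
    rwa [p.ete] at this

theorem E6.hh4_aux (h : E6 G) (hQ : IsElementaryAbelian 2 Q) (b3 : b ^ 3 = 1) (ab : a * b = b * a)
    (sa : s * a * s⁻¹ = b) (sb : s * b * s⁻¹ = a⁻¹) (s4 : s ^ 4 = 1) (hb : b ∈ 𝐍(Q)) (hs : s ∈ 𝐍(Q)) :
    Q ⊓ 𝐂[a] ≤ 𝐂[b] := by
  have c1 : ∀ {w : G}, w ∈ 𝐂[a] → s * w * s⁻¹ ∈ 𝐂[b] := fun hw => by
    rw [← sa, cent1_conj]; exact conj_mem_conj hw
  have c2 : ∀ {w : G}, w ∈ 𝐂[b] → s * w * s⁻¹ ∈ 𝐂[a] := fun hw => by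
    rw [← cent1_inv, ← sb, cent1_conj]; exact conj_mem_conj hw
  have k : ∀ w ∈ Q ⊓ 𝐂[a], w * (s * (s * w * s⁻¹) * s⁻¹) ∈ 𝐂[b] := fun w hw => by
    have n := h.norm4 (abelem_isPGroup hQ) s4 hs hw.1
    have h1 := conj_mem_of_norm hs hw.1
    rw [mul_assoc w, ZN.comm_of_abelem hQ h1 (conj_mem_of_norm hs h1), ← mul_assoc w,
      mul_assoc (w * _)] at n
    rw [eq_inv_of_mul_eq_one_left n]
    exact inv_mem (mul_mem (c1 hw.2) (c1 (c2 (c1 hw.2))))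
  intro w hw
  have bc : b ∈ 𝐂[a] := mem_cent1.2 ab.symm
  have k1 := k w hw
  have k2 := k (b * w * b⁻¹) ⟨conj_mem_of_norm hb hw.1, 
    (𝐂[a]).mul_mem (mul_mem bc hw.2) (inv_mem bc)⟩
  have e : s * (s * b * s⁻¹) * s⁻¹ = b⁻¹ := by rw [sb, ← sa]; group
  rw [show s * (s * (b * w * b⁻¹) * s⁻¹) * s⁻¹ = s * (s * b * s⁻¹) * s⁻¹ * (s * (s * w * s⁻¹) * s⁻¹) *
    (s * (s * b * s⁻¹) * s⁻¹)⁻¹ by group, e] at k2
  generalize s * (s * w * s⁻¹) * s⁻¹ = x at k1 k2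
  have bb := mem_cent1_self b
  have k3 := mul_mem k2 (inv_mem (mul_mem (mul_mem (inv_mem bb) k1) bb))
  rw [show b * w * b⁻¹ * (b⁻¹ * x * b⁻¹⁻¹) * (b⁻¹ * (w * x) * b)⁻¹ = b * w * b⁻¹ * (b⁻¹ * w⁻¹ * b)
    by group, ZN.inv_eq_of_abelem hQ hw.1] at k3
  have k4 := mem_cent1_iff_conj.1 (mem_cent1_comm.1 k3)
  rw [show b * (b * w * b⁻¹ * (b⁻¹ * w * b)) * b⁻¹ = b * b * w * (b * b)⁻¹ * w by group,
    ← inv_eq_of_cube b3, inv_inv, ZN.comm_of_abelem hQ (conj_mem_of_norm hb hw.1)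
      (conj_mem_of_norm' hb hw.1)] at k4
  exact mem_cent1_comm.1 (mem_cent1_iff_conj.2 (mul_left_cancel k4).symm)

theorem E6.hh4_ab (h : E6 G) (hQ : IsElementaryAbelian 2 Q) (a3 : a ^ 3 = 1) (ab : a * b = b * a)
    (sa : s * a * s⁻¹ = b) (sb : s * b * s⁻¹ = a⁻¹) (s4 : s ^ 4 = 1) (ha : a ∈ 𝐍(Q)) (hs : s ∈ 𝐍(Q)) :
    a ∈ 𝐂(Q) := by
  have := Fact.mk Nat.prime_three
  by_cases a1 : a = 1
  · exact a1 ▸ one_mem _
  have b3 : b ^ 3 = 1 := sa ▸ conj_cube a3 s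
  have hb : b ∈ 𝐍(Q) := sa ▸ mul_mem (mul_mem hs ha) (inv_mem hs)
  have ai : a ≠ a⁻¹ := fun e => a1 (by rw [inv_eq_of_cube a3] at e; exact mul_eq_left.1 e.symm)
  have hc : zpowers a ≤ 𝐂(zpowers b) := by rw [cent_zpowers]; exact zpowers_le.2 (mem_cent1.2 ab)
  have hA := abelem_sup (abelem_zpowers a3) (abelem_zpowers b3) hc
  refine le_cent1_iff.1 (coprime_abelian_gen_cent1 hA.1 (fun hcy => ?_)
    (sup_le (zpowers_le.2 ha) (zpowers_le.2 hb))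
    (coprime_of_isPGroup_ne (abelem_isPGroup hQ) (abelem_isPGroup hA) (by norm_num)) fun c hc' c1 => ?_)
  · obtain ⟨⟨g, hg⟩, e⟩ := hcy.exists_generator
    have m : ∀ x ∈ zpowers a ⊔ zpowers b, x = 1 ∨ x = g ∨ x = g⁻¹ := fun x hx => by
      obtain ⟨k, hk⟩ := e ⟨x, hx⟩
      exact mem_zpowers_three (hA.2 g hg) ⟨k, congrArg Subtype.val hk⟩
    have b1 : b ≠ 1 := sa ▸ OE.conj_ne_one a1 s
    have : b = a ∨ b = a⁻¹ := by
      rcases m a (mem_sup_left (mem_zpowers a)) with e | e | e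
      · exact absurd e a1
      · rw [e]; exact (m b (mem_sup_right (mem_zpowers b))).resolve_left b1
      · rw [e, inv_inv]; exact ((m b (mem_sup_right (mem_zpowers b))).resolve_left b1).symm
    rcases this with e | e
    · exact ai (by rw [← sb, e, sa, e])
    · exact ai (by rw [← sb, e, show s * a⁻¹ * s⁻¹ = (s * a * s⁻¹)⁻¹ by group, sa, e, inv_inv])
  · obtain ⟨_, ⟨i, rfl⟩, _, ⟨j, rfl⟩, rfl⟩ := (mem_sup_norm_right (le_norm_of_le_cent hc)).1 hc'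
    have cm : Commute a b := ab
    have e1 : s * (a ^ i * b ^ j) * s⁻¹ = a ^ (-j) * b ^ i := by
      rw [cj_mul, ← conj_zpow, ← conj_zpow, sa, sb, inv_zpow', (cm.zpow_zpow _ _).eq]
    have m1 : a ^ (-j) * b ^ i ∈ zpowers a ⊔ zpowers b := mul_mem_sup (zpow_mem (mem_zpowers a) _)
      (zpow_mem (mem_zpowers b) _)
    have h1 := h.hh4_aux hQ (hA.2 _ m1) (abelem_le_cent hA m1 _ hc') e1 (by
      rw [cj_mul, ← conj_zpow, ← conj_zpow, sa, sb, mul_inv_rev, inv_zpow', zpow_neg, zpow_neg]) s4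
      (mul_mem (zpow_mem ha _) (zpow_mem hb _)) hs
    intro w hw
    have h2 := mul_mem (zpow_mem (mem_cent1_comm.1 hw.2) i) (zpow_mem (mem_cent1_comm.1 (h1 hw)) (-j))
    have e2 : (a ^ i * b ^ j) ^ i * (a ^ (-j) * b ^ i) ^ (-j) = a ^ (i * i + j * j) := by
      rw [(cm.zpow_zpow _ _).mul_zpow, (cm.zpow_zpow _ _).mul_zpow, ← zpow_mul, ← zpow_mul, ← zpow_mul,
        ← zpow_mul, mul_assoc, ← mul_assoc (b ^ _), ← (cm.zpow_zpow _ _).eq, mul_assoc, ← zpow_add,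
        show j * i + i * -j = 0 by ring, zpow_zero, mul_one, ← zpow_add, neg_mul_neg]
    rw [e2] at h2
    refine mem_cent1_comm.1 ?_
    rcases mem_zpowers_three a3 (zpow_mem (mem_zpowers a) (i * i + j * j)) with e | e | e
    · exfalso
      rw [← orderOf_dvd_iff_zpow_eq_one, orderOf_three a3 a1] at e
      have e' : (3 : ℤ) ∣ i * i + j * j := e
      have : (3 : ℤ) ∣ i ∧ (3 : ℤ) ∣ j := by
        rw [Int.dvd_iff_emod_eq_zero, Int.add_emod, Int.mul_emod, Int.mul_emod j] at e'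
        have h3 : i % 3 = 0 ∨ i % 3 = 1 ∨ i % 3 = 2 := by omega
        have h4 : j % 3 = 0 ∨ j % 3 = 1 ∨ j % 3 = 2 := by omega
        rcases h3 with h3 | h3 | h3 <;> rcases h4 with h4 | h4 | h4 <;> rw [h3, h4] at e' <;> omega
      obtain ⟨⟨i, rfl⟩, j, rfl⟩ := this
      exact c1 (show a ^ (3 * i) * b ^ (3 * j) = 1 by rw [zpow_mul, zpow_mul, zpow_ofNat, zpow_ofNat, a3, b3]; simp)
    · exact e ▸ h2
    · exact inv_mem_iff.1 (e ▸ h2)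

/-- `3² : 4` acting on a 2-group -/
theorem E6.hh4 (h : E6 G) (hQ : IsPGroup 2 Q) (a3 : a ^ 3 = 1) (ab : a * b = b * a)
    (sa : s * a * s⁻¹ = b) (sb : s * b * s⁻¹ = a⁻¹) (s4 : s ^ 4 = 1) (ha : a ∈ 𝐍(Q)) (hs : s ∈ 𝐍(Q)) :
    a ∈ 𝐂(Q) := by
  have := Fact.mk Nat.prime_three
  have ha' := norm_le_norm_Phi Q ha
  have hs' := norm_le_norm_Phi Q hs
  have hb' : b ∈ 𝐍(Phi Q) := sa ▸ mul_mem (mul_mem hs' ha') (inv_mem hs')
  have h1 := (h.coset (Phi Q)).hh4_ab (b := OO.coset _ b) ((abelem_quo_iff (Phi_normal Q).norm).2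
    ⟨der_le_Phi hQ, fun _ => pow_mem_Phi hQ⟩) (by rw [← coset_pow ha', a3, coset_one])
    (by rw [← coset_mul ha' hb', ab, coset_mul hb' ha']) (by rw [← coset_conj hs' ha', sa])
    (by rw [← coset_conj hs' hb', sb, coset_inv]) (by rw [← coset_pow hs', s4, coset_one])
    (coset_mem_norm _ ha) (coset_mem_norm _ hs)
  refine zpowers_le.1 (coprime_cent_Phi hQ (zpowers_le.2 ha)
    (coprime_of_isPGroup_ne hQ (three_zpowers a3) (by norm_num)) ?_)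
  rw [commutator_comm, ← quo_le_cent_iff (zpowers_le.2 ha') (Phi_normal Q).norm, quo_zpowers ha']
  exact zpowers_le.2 h1

theorem E6.norm5 (h : E6 G) (hQ : IsPGroup 2 Q) (x5 : orderOf x = 5) (hx : x ∈ 𝐍(Q)) (hv : v ∈ Q) :
    v * (x * v * x⁻¹) * (x ^ 2 * v * (x ^ 2)⁻¹) * (x ^ 3 * v * (x ^ 3)⁻¹) * (x ^ 4 * v * (x ^ 4)⁻¹) = 1 := by
  have x5' : x ^ 5 = 1 := x5 ▸ pow_orderOf_eq_one x
  have h1 : (v * x) ^ 5 = 1 := by
    have hn := mul_mem (le_norm_self Q hv) hx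
    have h2 : orderOf (OO.coset Q x) = 5 := by
      have := Fact.mk Nat.prime_five
      refine orderOf_eq_prime (by rw [← coset_pow hx, x5', coset_one]) fun e => ?_
      have := h.no10 x5 rfl hQ ((coset_eq_one_iff hx).1 e)
      rw [this, orderOf_one] at x5; omega
    have h3 := orderOf_coset_dvd Q (v * x)
    rw [coset_mul_of_mem' hv hx, h2] at h3
    rw [← orderOf_dvd_iff_pow_eq_one]
    rcases h.cases (v * x) with e | e | e | e | e | e <;> rw [e] at h3 ⊢ <;> omega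
  rw [← h1, ← mul_one (_ * _ * _ * _ * _), ← x5']
  simp only [pow_succ, pow_zero, one_mul, mul_assoc, inv_mul_cancel_left, mul_inv_rev]

/-- `5 : 4` acting on a 2-group -/
theorem E6.f20 (h : E6 G) (hQ : IsPGroup 2 Q) (x5 : orderOf x = 5) (sx : s * x * s⁻¹ = x ^ 2)
    (s4 : s ^ 4 = 1) (hx : x ∈ 𝐍(Q)) (hs : s ∈ 𝐍(Q)) : Q = ⊥ := by
  by_contra h0
  have x5' : x ^ 5 = 1 := x5 ▸ pow_orderOf_eq_one x
  obtain ⟨⟨v, hv, hvs⟩, v1⟩ := ne_bot_iff_exists_ne_one.1 (inf_cent_ne_bot_of_isPGroup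
    (two_zpowers s4) (hQ.to_le (Zc_le Q)) (zpowers_le.2 (norm_le_norm_Zc Q hs))
    (Zc_ne_bot (nil_of_isPGroup hQ) h0))
  have sv : s * v * s⁻¹ = v := mem_cent1_iff_conj.1 (mem_cent1_comm.1 (cent_zpowers s ▸ hvs))
  have k : ∀ i : ℕ, s * (x ^ i * v * (x ^ i)⁻¹) * s⁻¹ = x ^ (2 * i) * v * (x ^ (2 * i))⁻¹ := fun i => by
    rw [pow_mul, ← sx, conj_pow, show s * (x ^ i * v * (x ^ i)⁻¹) * s⁻¹ =
      s * x ^ i * s⁻¹ * (s * v * s⁻¹) * (s * x ^ i * s⁻¹)⁻¹ by group, sv]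
  have n1 := h.norm5 hQ x5 hx hv.1
  have n2 := h.norm4 hQ s4 hs (conj_mem_of_norm (pow_mem hx 1) hv.1)
  rw [k, k, k, show 2 * (2 * (2 * 1)) = 5 + 3 by rfl, pow_add, x5', one_mul, mul_assoc,
    mul_eq_of_cent (conj_mem_of_norm (pow_mem (norm_le_norm_Zc Q hx) _) hv).2
      (conj_mem_of_norm (pow_mem hx 3) hv.1), pow_one] at n2
  simp only [mul_assoc] at n1 n2
  rw [n2, mul_one] at n1
  exact v1 (Subtype.ext n1)

theorem comm_mul_left (hc : ⁅b, c⁆ ∈ 𝐂[a]) : ⁅a * b, c⁆ = ⁅b, c⁆ * ⁅a, c⁆ := by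
  rw [show ⁅a * b, c⁆ = a * ⁅b, c⁆ * a⁻¹ * ⁅a, c⁆ by simp only [commutatorElement_def]; group,
    ← mem_cent1.1 hc, mul_inv_cancel_right]

theorem comm_mul_right (hc : ⁅a, c⁆ ∈ 𝐂[b]) : ⁅a, b * c⁆ = ⁅a, b⁆ * ⁅a, c⁆ := by
  rw [show ⁅a, b * c⁆ = ⁅a, b⁆ * (b * ⁅a, c⁆ * b⁻¹) by simp only [commutatorElement_def]; group,
    ← mem_cent1.1 hc, mul_inv_cancel_right]

theorem E6.d10_aux (h : E6 G) (hQ : IsPGroup 2 Q) (x5 : orderOf x = 5) (t2 : t * t = 1)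
    (tx : t * x * t⁻¹ = x⁻¹) (hx : x ∈ 𝐍(Q)) (ht : t ∈ 𝐍(Q))
    (hs : ∀ q ∈ Q, q * q ∈ Ohm 2 (Zc Q)) : ∀ q ∈ Q, q * q = 1 := by
  have := Fact.mk Nat.prime_five
  have x5' : x ^ 5 = 1 := x5 ▸ pow_orderOf_eq_one x
  have nZ : 𝐍(Q) ≤ 𝐍(Ohm 2 (Zc Q)) := (norm_le_norm_Zc Q).trans (norm_le_norm_Ohm 2 _)
  have z2 : ∀ z ∈ Ohm 2 (Zc Q), z * z = 1 := fun z hz => by
    rw [← sq, (Ohm_abelem 2 (Zc_ab Q)).2 z hz]
  have zc : Ohm 2 (Zc Q) ≤ Zc Q := Ohm_le _ _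
  generalize Ohm 2 (Zc Q) = Z at hs nZ z2 zc
  have nq : Q ≤ 𝐍(Z) := (le_norm_self Q).trans nZ
  have cz : ∀ {a b : G}, a ∈ Q → b ∈ Q → ⁅a, b⁆ ∈ Z := fun {a b} ha hb => by
    rw [show ⁅a, b⁆ = a * a * (a⁻¹ * b * (a⁻¹ * b)) * (b⁻¹ * b⁻¹) by
      simp only [commutatorElement_def]; group]
    exact mul_mem (mul_mem (hs _ ha) (hs _ (mul_mem (inv_mem ha) hb))) (hs _ (inv_mem hb))
  have cc : ∀ {a b c : G}, a ∈ Q → b ∈ Q → c ∈ Q → ⁅a, b⁆ ∈ 𝐂[c] := fun ha hb hc =>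
    cent_le_cent1 hc (zc (cz ha hb)).2
  have t4 : t ^ 4 = 1 := by rw [show 4 = 2 * 2 by rfl, pow_mul, sq t, t2, one_pow]
  have tg : ∀ g ∈ zpowers x, t * g * t⁻¹ = g⁻¹ := by
    rintro _ ⟨k, rfl⟩; rw [← conj_zpow, tx, inv_zpow]
  have ng : ∀ {g : G}, g ∈ zpowers x → g ∈ 𝐍(Q) := fun hg => zpowers_le.2 hx hg
  have tc : ∀ g ∈ zpowers x, ∀ a ∈ Q, ⁅t, a⁆ ∈ Z → ∃ z ∈ Z,
      t * (g * a * g⁻¹) * t⁻¹ = z * (g⁻¹ * a * g) := fun g hg a _ ha' =>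
    ⟨_, conj_mem_of_norm' (nZ (ng hg)) ha', by
      rw [show t * (g * a * g⁻¹) * t⁻¹ = t * g * t⁻¹ * (⁅t, a⁆ * a) * (t * g * t⁻¹)⁻¹ by
        simp only [commutatorElement_def]; group, tg g hg]; group⟩
  have s1 : ∀ a ∈ Q, ⁅t, a⁆ ∈ Z → a * a = 1 := fun a ha ha' => by
    have n := h.norm5 hQ x5 hx ha
    obtain ⟨z1, hz1, e1⟩ := tc x (mem_zpowers x) a ha ha'
    obtain ⟨z2', hz2, e2⟩ := tc (x ^ 2) (pow_mem (mem_zpowers x) 2) a ha ha'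
    have e4 : x ^ 4 = x⁻¹ := eq_inv_of_mul_eq_one_left (by rw [← pow_succ, x5'])
    have e3 : x ^ 3 = (x ^ 2)⁻¹ := eq_inv_of_mul_eq_one_left (by rw [← pow_add, x5'])
    rw [e4, e3, inv_inv, inv_inv] at n
    have q1 := conj_mem_of_norm hx ha
    have q2 := conj_mem_of_norm (pow_mem hx 2) ha
    have q3 := conj_mem_of_norm' (pow_mem hx 2) ha
    have q4 := conj_mem_of_norm' hx ha
    generalize x * a * x⁻¹ = a1 at n e1 q1
    generalize x ^ 2 * a * (x ^ 2)⁻¹ = a2 at n e2 q2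
    generalize (x ^ 2)⁻¹ * a * x ^ 2 = a3 at n e2 q3
    generalize x⁻¹ * a * x = a4 at n e1 q4
    have hb := mul_mem q1 q2
    have p := h.pow4 (isPGroup_sup hQ (two_zpowers t4) (.inr (zpowers_le.2 ht)))
      (mul_mem_sup hb (mem_zpowers t))
    rw [show a1 * a2 * t * (a1 * a2 * t) = a1 * a2 * (t * (a1 * a2) * t⁻¹) * (t * t) by group, t2,
      mul_one] at p
    have hz : ⁅a3, a4⁆ * (a4 * z2'⁻¹ * a4⁻¹) * z1⁻¹ ∈ Z :=
      mul_mem (mul_mem (cz q3 q4) (conj_mem_of_norm (nq q4) (inv_mem hz2))) (inv_mem hz1)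
    have e : a⁻¹ = a1 * a2 * (⁅a3, a4⁆ * (a4 * z2'⁻¹ * a4⁻¹) * z1⁻¹) * (t * (a1 * a2) * t⁻¹) := by
      rw [cj_mul, e1, e2, inv_eq_iff_mul_eq_one, ← n, commutatorElement_def]; group
    have hb' := conj_mem_of_norm ht hb
    generalize ⁅a3, a4⁆ * (a4 * z2'⁻¹ * a4⁻¹) * z1⁻¹ = ζ at hz e
    generalize t * (a1 * a2) * t⁻¹ = b' at e p hb'
    generalize a1 * a2 = b at e p hb
    rw [← inv_eq_one, mul_inv_rev, e, ← mul_eq_of_cent (zc hz).2 hb, show ζ * b * b' * (ζ * b * b') =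
      ζ * (b * b' * ζ) * (b * b') by group, ← mul_eq_of_cent (zc hz).2 (mul_mem hb hb'), ← mul_assoc ζ,
      z2 ζ hz, one_mul, p]
  have s2 : ∀ g ∈ zpowers x, ∀ a ∈ Q, ⁅t, a⁆ ∈ Z → ⁅t, g * a * g⁻¹ * (g⁻¹ * a * g)⁆ ∈ Z :=
    fun g hg a ha ha' => by
    obtain ⟨z1, hz1, e1⟩ := tc g hg a ha ha'
    obtain ⟨z2', hz2, e2⟩ := tc g⁻¹ (inv_mem hg) a ha ha'
    rw [inv_inv] at e2
    have q1 := conj_mem_of_norm (ng hg) ha
    have q2 := conj_mem_of_norm' (ng hg) ha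
    rw [commutatorElement_def, cj_mul, e1, e2]
    generalize g * a * g⁻¹ = a1 at q1
    generalize g⁻¹ * a * g = a2 at q2
    rw [show z1 * a2 * (z2' * a1) * (a1 * a2)⁻¹ = z1 * (a2 * z2' * a2⁻¹) * ⁅a2, a1⁆ by
      simp only [commutatorElement_def]; group]
    exact mul_mem (mul_mem hz1 (conj_mem_of_norm (nq q2) hz2)) (cz q2 q1)
  have s1' : ∀ {k a : G}, a * a = 1 → k⁻¹ * a * k * (k⁻¹ * a * k) = 1 := fun {k a} e => by
    simpa using conj_sq e k⁻¹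
  have g5 : ∀ g ∈ zpowers x, g ^ 5 = 1 := fun g hg => h.pow5 (five_zpowers x5') hg
  have s3 : ∀ g ∈ zpowers x, ∀ a ∈ Q, ⁅t, a⁆ ∈ Z → ⁅a, g * a * g⁻¹⁆ = 1 := fun g hg a ha ha' => by
    have hk := pow_mem hg 3
    have e : g = g ^ 3 * g ^ 3 := by rw [← pow_add, pow_succ, g5 g hg, one_mul]
    generalize g ^ 3 = k at hk e
    have q1 := conj_mem_of_norm (ng hk) ha
    have q2 := conj_mem_of_norm' (ng hk) ha
    have e1 := s1 _ (mul_mem q1 q2) (s2 k hk a ha ha')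
    have e2 := s1 a ha ha'
    have c : ⁅k⁻¹ * a * k, k * a * k⁻¹⁆ = 1 := by
      rw [← commutatorElement_inv, inv_eq_one, commutatorElement_def, inv_eq_of_sq (conj_sq e2 k),
        inv_eq_of_sq (s1' e2), ← e1]; group
    rw [e, show ⁅a, k * k * a * (k * k)⁻¹⁆ = k * ⁅k⁻¹ * a * k, k * a * k⁻¹⁆ * k⁻¹ by
      simp [commutatorElement_def, mul_assoc], c]; group
  have mA : ∀ {a b : G}, a ∈ Q → ⁅t, a⁆ ∈ Z → b ∈ Q → ⁅t, b⁆ ∈ Z → ⁅t, a * b⁆ ∈ Z :=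
    fun ha ha' hb hb' => ((ZN.cm t Z).mul_mem ⟨nq ha, ha'⟩ ⟨nq hb, hb'⟩).2
  have s4 : ∀ g ∈ zpowers x, ∀ a ∈ Q, ⁅t, a⁆ ∈ Z → ∀ b ∈ Q, ⁅t, b⁆ ∈ Z →
      ⁅a, g * b * g⁻¹⁆ = g * ⁅a, g⁻¹ * b * g⁆ * g⁻¹ := fun g hg a ha ha' b hb hb' => by
    have e := s3 g hg _ (mul_mem ha hb) (mA ha ha' hb hb')
    have q1 := conj_mem_of_norm (ng hg) ha
    have q2 := conj_mem_of_norm (ng hg) hb
    rw [cj_mul, comm_mul_left (cc hb (mul_mem q1 q2) ha), comm_mul_right (cc hb q2 q1),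
      comm_mul_right (cc ha q2 q1), s3 g hg a ha ha', s3 g hg b hb hb', mul_one, one_mul] at e
    rw [eq_inv_of_mul_eq_one_right e]; simp only [commutatorElement_def]; group
  have s5 : ∀ g ∈ zpowers x, ∀ a ∈ Q, ⁅t, a⁆ ∈ Z → ∀ b ∈ Q, ⁅t, b⁆ ∈ Z →
      a * (g * b * g⁻¹) = g * b * g⁻¹ * a := fun g hg a ha ha' b hb hb' => by
    have c0 : ⁅a, b⁆ = 1 := by
      rw [commutatorElement_def, inv_eq_of_sq (s1 a ha ha'), inv_eq_of_sq (s1 b hb hb'), mul_assoc,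
        s1 _ (mul_mem ha hb) (mA ha ha' hb hb')]
    rw [← commutatorElement_eq_one_iff_mul_comm]
    by_cases g1 : g = 1
    · simpa [g1] using c0
    have hk := pow_mem hg 2
    have e : g = (g ^ 2)⁻¹ * (g ^ 2)⁻¹ := by
      rw [← mul_inv_rev, ← pow_add, eq_inv_iff_mul_eq_one, ← pow_succ', g5 g hg]
    have k1 : g ^ 2 ≠ 1 := fun c => g1 (by rw [e, c]; simp)
    generalize g ^ 2 = k at hk e k1
    have q1 := conj_mem_of_norm (ng hk) hb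
    have q2 := conj_mem_of_norm' (ng hk) hb
    have q3 := conj_mem_of_norm (ng hk) q1
    have e1 := s4 k hk a ha ha' _ (mul_mem q1 q2) (s2 k hk b hb hb')
    have e2 := s4 (k * k) (mul_mem hk hk) a ha ha' b hb hb'
    rw [show k * (k * b * k⁻¹ * (k⁻¹ * b * k)) * k⁻¹ = k * (k * b * k⁻¹) * k⁻¹ * b by group,
      comm_mul_right (cc ha hb q3), show k⁻¹ * (k * b * k⁻¹ * (k⁻¹ * b * k)) * k =
        b * (k⁻¹ * (k⁻¹ * b * k) * k) by group,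
      comm_mul_right (cc ha (conj_mem_of_norm' (ng hk) q2) hb), c0, mul_one, one_mul,
      ← mul_cj, e2, show k⁻¹ * (k⁻¹ * b * k) * k = (k * k)⁻¹ * b * (k * k) by group, mul_cj, cj_inj] at e1
    rw [e, show k⁻¹ * k⁻¹ * b * (k⁻¹ * k⁻¹)⁻¹ = (k * k)⁻¹ * b * (k * k) by simp]
    exact h.no10 (orderOf_eq_prime (g5 k hk) k1) (comm_of_conj_eq e1).symm hQ
      (zc (cz ha (conj_mem_of_norm' (ng (mul_mem hk hk)) hb))).1
  let S : Set G := {y | ∃ g ∈ zpowers x, ∃ a ∈ Q, ⁅t, a⁆ ∈ Z ∧ y = g * a * g⁻¹}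
  have hB : IsElementaryAbelian 2 (closure S) := by
    refine abelem_of_le (Ohm_abelem 2 (H := closure S) (ab_iff_le_cent.2 ?_)) ((closure_le _).2 ?_)
    · refine (closure_le _).2 fun y hy => le_cent1_iff.1 ((closure_le _).2 fun y' hy' => mem_cent1.2 ?_)
      obtain ⟨g, hg, a, ha, ha', rfl⟩ := hy
      obtain ⟨k, hk, b, hb, hb', rfl⟩ := hy'
      rw [show g * a * g⁻¹ = k * (k⁻¹ * g * a * (k⁻¹ * g)⁻¹) * k⁻¹ by group, ← cj_mul, ← cj_mul,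
        s5 _ (mul_mem (inv_mem hk) hg) b hb hb' a ha ha']
    · rintro _ ⟨g, hg, a, ha, ha', rfl⟩
      exact mem_Ohm (subset_closure ⟨g, hg, a, ha, ha', rfl⟩) (by rw [sq, conj_sq (s1 a ha ha')])
  have tq : ∀ {a : G}, a ∈ Q → ⁅t, a⁆ ∈ Q := fun ha => mul_mem (conj_mem_of_norm ht ha) (inv_mem ha)
  have tt : ∀ {a : G}, a ∈ Q → ⁅t, ⁅a, t⁆⁆ ∈ Z := fun {a} ha => by
    have : ∀ y, t * (t * y) = y := fun y => by rw [← mul_assoc, t2, one_mul]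
    rw [show ⁅t, ⁅a, t⁆⁆ = ⁅t, a⁆ * ⁅t, a⁆ by
      simp only [commutatorElement_def, inv_eq_of_sq t2, mul_assoc, this, mul_inv_rev, inv_inv]]
    exact hs _ (tq ha)
  have tq' : ∀ {a : G}, a ∈ Q → ⁅a, t⁆ ∈ Q := fun ha => by
    rw [← commutatorElement_inv]; exact inv_mem (tq ha)
  have mS : ∀ g ∈ zpowers x, ∀ a ∈ Q, ⁅t, a⁆ ∈ Z → g * a * g⁻¹ ∈ closure S := fun g hg a ha ha' =>
    subset_closure ⟨g, hg, a, ha, ha', rfl⟩
  have zB : Z ≤ closure S := fun z hz => by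
    simpa using mS 1 (one_mem _) z (zc hz).1 (mul_mem (conj_mem_of_norm (nZ ht) hz) (inv_mem hz))
  have nx : zpowers x ≤ 𝐍(closure S) := le_norm_closure (by
    rintro k hk _ ⟨g, hg, a, ha, ha', rfl⟩
    exact ⟨k * g, mul_mem hk hg, a, ha, ha', by group⟩)
  have nt : t ∈ 𝐍(closure S) := mem_norm_of_conj_le (conj_le_iff_le_inv_conj.2 ((closure_le _).2 (by
    rintro _ ⟨g, hg, a, ha, ha', rfl⟩
    obtain ⟨z, hz, e⟩ := tc g hg a ha ha'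
    rw [SetLike.mem_coe, mem_conj, inv_inv, e]
    exact mul_mem (zB hz) (by simpa using mS _ (inv_mem hg) a ha ha'))))
  have h1 := coprime_cent_prod (zpowers_le.2 hx)
    (coprime_of_isPGroup_ne hQ (five_zpowers x5') (by norm_num)) (.inl (sol_of_isPGroup hQ))
  have h2 : Q ≤ closure S := by
    refine h1.ge.trans (sup_le (commutator_le.2 fun q hq g hg => ?_) fun q hq => ?_)
    · have m0 : t ∈ ZN.cm q (closure S) := ⟨nt, by simpa using mS 1 (one_mem _) _ (tq' hq) (tt hq)⟩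
      have xm := nx (mem_zpowers x)
      have m1 : x * t * x⁻¹ ∈ ZN.cm q (closure S) := ⟨mul_mem (mul_mem xm nt) (inv_mem xm), by
        have q1 := conj_mem_of_norm' hx hq
        rw [show ⁅q, x * t * x⁻¹⁆ = x * ⁅x⁻¹ * q * x, t⁆ * x⁻¹ by simp only [commutatorElement_def]; group]
        exact mS x (mem_zpowers x) _ (tq' q1) (tt q1)⟩
      have m2 := pow_mem (mul_mem m1 (inv_mem m0)) 3
      rw [show x * t * x⁻¹ * t⁻¹ = x * (t * x * t⁻¹)⁻¹ by group, tx, inv_inv, ← sq, ← pow_mul,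
        pow_succ, x5', one_mul] at m2
      exact (zpowers_le.2 m2 hg).2
    · rw [h.no10 x5 (mem_cent1.1 (cent_zpowers x ▸ hq.2)) hQ hq.1]; exact one_mem _
  exact fun q hq => by rw [← sq, hB.2 q (h2 hq)]

/-- `D₁₀` acting on a 2-group -/
theorem E6.d10 (h : E6 G) (hQ : IsPGroup 2 Q) (x5 : orderOf x = 5) (t2 : t * t = 1)
    (tx : t * x * t⁻¹ = x⁻¹) (hx : x ∈ 𝐍(Q)) (ht : t ∈ 𝐍(Q)) : ∀ q ∈ Q, q * q = 1 := by
  generalize hn : ♯Q = n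
  induction n using Nat.strong_induction_on generalizing G with
  | _ n ih =>
  by_cases h0 : Q = ⊥
  · intro q hq; rw [h0, mem_bot] at hq; simp [hq]
  have nZ : 𝐍(Q) ≤ 𝐍(Ohm 2 (Zc Q)) := (norm_le_norm_Zc Q).trans (norm_le_norm_Ohm 2 _)
  have le : Ohm 2 (Zc Q) ≤ Q := (Ohm_le _ _).trans (Zc_le Q)
  refine h.d10_aux hQ x5 t2 tx hx ht fun q hq => ?_
  have hq' := nZ (le_norm_self Q hq)
  rw [← coset_eq_one_iff (mul_mem hq' hq'), coset_mul hq' hq']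
  refine ih _ (hn ▸ card_quo_lt le (Ohm_ne_bot (hQ.to_le (Zc_le Q)) (Zc_ne_bot (nil_of_isPGroup hQ) h0)))
    (x := OO.coset _ x) (t := OO.coset _ t) (h.coset _) (isPGroup_quo hQ _) ?_
    (by rw [← coset_mul (nZ ht) (nZ ht), t2, coset_one])
    (by rw [← coset_conj (nZ ht) (nZ hx), tx, coset_inv]) (coset_mem_norm _ hx) (coset_mem_norm _ ht) rfl _
    (coset_mem_quo _ hq)
  have := Fact.mk Nat.prime_five
  refine orderOf_eq_prime (by rw [← coset_pow (nZ hx), ← x5, pow_orderOf_eq_one, coset_one]) fun e => ?_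
  have := h.no10 x5 rfl hQ (le ((coset_eq_one_iff (nZ hx)).1 e))
  rw [this, orderOf_one] at x5; omega

end Cfsg.Agent.OE
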