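import Cfsg.Agent.Lib.OE.Basic

/-!
# The central amalgam: the coset graph and its local properties
-/

set_option autoImplicit false
set_option linter.unusedSectionVars false

namespace Cfsg.Agent.OE

open Subgroup Cfsg.Agent.OO Cfsg.Agent.Coprime
open scoped Pointwise commutatorElement

universe u

variable {G : Type u} [Group G] {X Y : Type u} [MulAction G X] [MulAction G Y]

local notation "𝐒" x:max => MulAction.stabilizer G x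
local notation "𝐐" x:max => Op 2 (MulAction.stabilizer G x)
local notation "𝐙" x:max => ZN.ZZ (MulAction.stabilizer G x)

theorem st_smul (g : G) (x : X) : 𝐒 (g • x) = g •ᶜ 𝐒 x := by
  ext k
  rw [mem_conj, MulAction.mem_stabilizer_iff, MulAction.mem_stabilizer_iff, mul_smul, mul_smul,
    inv_smul_eq_iff]

theorem Q_smul (g : G) (x : X) : 𝐐 (g • x) = g •ᶜ 𝐐 x := by rw [st_smul, Op_conj]

theorem Z_smul (g : G) (x : X) : 𝐙 (g • x) = g •ᶜ 𝐙 x := by rw [st_smul, ZN.ZZ_conj]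

theorem conj_mem_Z {x x' : X} {g e : G} (h : g • x = x') (he : e ∈ 𝐙 x) : g * e * g⁻¹ ∈ 𝐙 x' := by
  rw [← h, Z_smul]; exact conj_mem_conj he

theorem conj_mem_Z_iff {x x' : X} {g e : G} (h : g • x = x') : g * e * g⁻¹ ∈ 𝐙 x' ↔ e ∈ 𝐙 x := by
  rw [← h, Z_smul]; exact conj_mem_conj_iff

theorem conj_mem_Q_iff {x x' : X} {g e : G} (h : g • x = x') : g * e * g⁻¹ ∈ 𝐐 x' ↔ e ∈ 𝐐 x := by
  rw [← h, Q_smul]; exact conj_mem_conj_iff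

/-- a vertex with stabilizer `P` and its three neighbours -/
structure Star (P : Subgroup G) (nb : Y → Prop) : Prop where
  pq : ∀ {y}, nb y → Pq (P ⊓ 𝐒 y) P
  tr : ∀ {y y'}, nb y → nb y' → ∃ g ∈ P, g • y = y'
  smul : ∀ {y g}, nb y → g ∈ P → nb (g • y)

/-- the coset graph of the amalgam -/
structure Am (G : Type u) [Group G] {X Y : Type u} [MulAction G X] [MulAction G Y]
    (E : X → Y → Prop) : Prop where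
  e6 : E6 G
  smul : ∀ {x y} (g : G), E x y → E (g • x) (g • y)
  tr : ∀ {x y x' y'}, E x y → E x' y' → ∃ g : G, g • x = x' ∧ g • y = y'
  par : ∀ {x y}, E x y → ZN.Par (MulAction.stabilizer G x ⊓ MulAction.stabilizer G y)
    (MulAction.stabilizer G x)
  pq : ∀ {x y}, E x y → Pq (MulAction.stabilizer G y ⊓ MulAction.stabilizer G x)
    (MulAction.stabilizer G y)
  ce : ∀ {x y}, E x y → MulAction.stabilizer G y ≤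
    𝐂(Ohm 2 (Zc (MulAction.stabilizer G x ⊓ MulAction.stabilizer G y)))
  triv : ∀ {x y}, E x y → ∀ N ≤ MulAction.stabilizer G x ⊓ MulAction.stabilizer G y,
    MulAction.stabilizer G x ≤ 𝐍(N) → MulAction.stabilizer G y ≤ 𝐍(N) → N = ⊥

variable [Finite G]

namespace Star

variable {P K : Subgroup G} {nb : Y → Prop} {y y₀ y₁ y₂ : Y} {g t u w : G}

theorem Q_le (h : Star P nb) (h0 : nb y) : Op 2 P ≤ 𝐒 y := (h.pq h0).Q_le.trans inf_le_right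

theorem T_ne (h : Star P nb) (h0 : nb y₀) (h1 : nb y₁) (ne : y₀ ≠ y₁) : P ⊓ 𝐒 y₀ ≠ P ⊓ 𝐒 y₁ := by
  obtain ⟨g, hg, rfl⟩ := h.tr h0 h1
  have := (h.pq h0).conj_ne hg fun e => ne e.2.symm
  rw [conj_inf, conj_eq_of_mem hg, ← st_smul] at this
  exact this.symm

theorem mem_Q (h : Star P nb) (h0 : nb y₀) (h1 : nb y₁) (ne : y₀ ≠ y₁) (hg : g ∈ P) (e0 : g ∈ 𝐒 y₀)
    (e1 : g ∈ 𝐒 y₁) : g ∈ Op 2 P := (h.pq h0).inf_le (h.pq h1) (h.T_ne h0 h1 ne) ⟨⟨hg, e0⟩, hg, e1⟩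

theorem cases (h : Star P nb) (h0 : nb y₀) (h1 : nb y₁) (ne : y₀ ≠ y₁) (hu : u ∈ P ⊓ 𝐒 y₀)
    (hu' : u ∉ Op 2 P) (hy : nb y) : y = y₀ ∨ y = y₁ ∨ y = u • y₁ := by
  obtain ⟨g, hg, rfl⟩ := h.tr h0 h1
  obtain ⟨k, hk, rfl⟩ := h.tr h0 hy
  rcases (h.pq h0).cosets hg (fun e => ne e.2.symm) hu hu' hk with e | e | e
  · exact .inl e.2
  · have : (g⁻¹ * k) • y₀ = y₀ := e.2
    exact .inr (.inl (by rwa [mul_smul, inv_smul_eq_iff] at this))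
  · have : ((u * g)⁻¹ * k) • y₀ = y₀ := e.2
    exact .inr (.inr (by rwa [mul_smul, inv_smul_eq_iff, mul_smul] at this))

theorem swap (h : Star P nb) (h0 : nb y₀) (h1 : nb y₁) (h2 : nb y₂) (n1 : y₀ ≠ y₁) (n2 : y₀ ≠ y₂)
    (n3 : y₁ ≠ y₂) (hu : u ∈ P ⊓ 𝐒 y₀) (hu' : u ∉ Op 2 P) : u • y₁ = y₂ := by
  rcases h.cases h0 h1 n1 hu hu' h2 with e | e | e
  exacts [absurd e.symm n2, absurd e.symm n3, e.symm]

theorem third (h : Star P nb) (h0 : nb y₀) (h1 : nb y₁) (ne : y₀ ≠ y₁) :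
    ∃ y₂, nb y₂ ∧ y₀ ≠ y₂ ∧ y₁ ≠ y₂ := by
  obtain ⟨u, hu, hu'⟩ := (h.pq h0).exists_not_mem_Q
  refine ⟨u • y₁, h.smul h1 hu.1, fun e => ne ?_, fun e => hu' (h.mem_Q h0 h1 ne hu.1 hu.2 e.symm)⟩
  exact MulAction.injective u (hu.2.trans e)

theorem cases3 (h : Star P nb) (h0 : nb y₀) (h1 : nb y₁) (h2 : nb y₂) (n1 : y₀ ≠ y₁) (n2 : y₀ ≠ y₂)
    (n3 : y₁ ≠ y₂) (hy : nb y) : y = y₀ ∨ y = y₁ ∨ y = y₂ := by
  obtain ⟨u, hu, hu'⟩ := (h.pq h0).exists_not_mem_Q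
  rw [← h.swap h0 h1 h2 n1 n2 n3 hu hu']
  exact h.cases h0 h1 n1 hu hu' hy

theorem other (h : Star P nb) (h0 : nb y₀) : ∃ y₁, nb y₁ ∧ y₀ ≠ y₁ := by
  obtain ⟨g, hg, hg'⟩ := (h.pq h0).exists_not_mem
  exact ⟨g • y₀, h.smul h0 hg, fun e => hg' ⟨hg, e.symm⟩⟩

theorem gen (h : Star P nb) (h0 : nb y₀) (h1 : nb y₁) (ne : y₀ ≠ y₁) (hK : P ⊓ 𝐒 y₀ ≤ K)
    (hu : u ∈ P ⊓ 𝐒 y₁) (hu' : u ∉ Op 2 P) (huK : u ∈ K) : P ≤ K :=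
  (h.pq h0).max hK hu.1 (fun e => hu' (h.mem_Q h0 h1 ne hu.1 e.2 hu.2)) huK

theorem ne_inv (w3 : w ^ 3 = 1) (h : y ≠ w • y) : y ≠ w⁻¹ • y ∧ w • y ≠ w⁻¹ • y :=
  ⟨fun e => h (eq_inv_smul_iff.1 e).symm, fun e => h (by
    rw [inv_eq_of_cube w3, mul_smul] at e; exact MulAction.injective w e)⟩

theorem rot_aux (h : Star P nb) (h0 : nb y₀) (h1 : nb y₁) (ne : y₀ ≠ y₁) (hw : w ∈ P)
    (w3 : w ^ 3 = 1) (hw' : w ∉ P ⊓ 𝐒 y₀) : w • y₀ = y₁ ∨ w⁻¹ • y₀ = y₁ := by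
  have n : y₀ ≠ w • y₀ := fun e => hw' ⟨hw, e.symm⟩
  rcases h.cases3 h0 (h.smul h0 hw) (h.smul h0 (inv_mem hw)) n (ne_inv w3 n).1 (ne_inv w3 n).2 h1
    with e | e | e
  exacts [absurd e.symm ne, .inl e.symm, .inr e.symm]

theorem rot (h : Star P nb) (h0 : nb y₀) (h1 : nb y₁) (ne : y₀ ≠ y₁) :
    ∃ w ∈ P, w ^ 3 = 1 ∧ w • y₀ = y₁ := by
  obtain ⟨w, hw, w3, hw'⟩ := (h.pq h0).exists_three
  rcases h.rot_aux h0 h1 ne hw w3 hw' with e | e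
  exacts [⟨w, hw, w3, e⟩, ⟨w⁻¹, inv_mem hw, by rw [inv_pow, w3, inv_one], e⟩]

theorem rot' (h : Star P nb) (hE : E6 G) (h0 : nb y₀) (h1 : nb y₁) (ne : y₀ ≠ y₁)
    (ht : t ∈ P ⊓ 𝐒 y₀) (ht' : t ∉ Op 2 P) (t2 : t * t = 1) :
    ∃ w ∈ P, w ^ 3 = 1 ∧ w • y₀ = y₁ ∧ t * w * t⁻¹ = w⁻¹ := by
  obtain ⟨w, hw, w3, hw', e'⟩ := (h.pq h0).exists_y hE ht ht' t2
  rcases h.rot_aux h0 h1 ne hw w3 hw' with e | e
  · exact ⟨w, hw, w3, e, e'⟩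
  · exact ⟨w⁻¹, inv_mem hw, by rw [inv_pow, w3, inv_one], e, by
      rw [show t * w⁻¹ * t⁻¹ = (t * w * t⁻¹)⁻¹ by group, e']⟩

end Star

theorem sq_of_abelem {A : Subgroup G} {a : G} (h : IsElementaryAbelian 2 A) (ha : a ∈ A) :
    a * a = 1 := by rw [← sq, h.2 a ha]

theorem comm_of_ab {A : Subgroup G} {a b : G} (h : IsElementaryAbelian 2 A) (ha : a ∈ A)
    (hb : b ∈ A) : a * b = b * a := ZN.comm_of_abelem h ha hb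

theorem comm_eq_one {a b : G} : ⁅a, b⁆ = 1 ↔ a * b = b * a := commutatorElement_eq_one_iff_mul_comm

theorem fix_of_three {w q z : G} (w3 : w ^ 3 = 1) (e1 : w * q * w⁻¹ = q * z) (e2 : w * z * w⁻¹ = z)
    (z2 : z * z = 1) : w * q * w⁻¹ = q := by
  have e3 : w * (q * z) * w⁻¹ = q := by
    rw [show w * (q * z) * w⁻¹ = w * q * w⁻¹ * (w * z * w⁻¹) by group, e1, e2, mul_assoc, z2, mul_one]
  have e4 : w * (w * (w * q * w⁻¹) * w⁻¹) * w⁻¹ = w * q * w⁻¹ := by rw [e1, e3, e1]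
  rw [← e4, show w * (w * (w * q * w⁻¹) * w⁻¹) * w⁻¹ = w * w * w * q * (w * w * w)⁻¹ by group, cube w3]
  group

namespace Am

variable {E : X → Y → Prop} {x x₀ x₁ x₂ : X} {y y₀ y₁ y₂ : Y} {a e g k q t u v w : G}

theorem sa (h : Am G E) (x : X) : Star (𝐒 x) (E x) where
  pq h0 := (h.par h0).pq
  tr h0 h1 := let ⟨g, e, e'⟩ := h.tr h0 h1; ⟨g, e, e'⟩
  smul {_ g} h0 hg := by have := h.smul g h0; rwa [hg] at this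

theorem sb (h : Am G E) (y : Y) : Star (𝐒 y) (E · y) where
  pq h0 := h.pq h0
  tr h0 h1 := let ⟨g, e, e'⟩ := h.tr h0 h1; ⟨g, e', e⟩
  smul {_ g} h0 hg := by have := h.smul g h0; rwa [hg] at this

theorem two (h : Am G E) (h0 : E x y) : IsPGroup 2 ↥(𝐒 x ⊓ 𝐒 y) := (h.par h0).syl.isPGroup

theorem qa (h : Am G E) (h0 : E x y) : 𝐐 x ≤ 𝐒 x ⊓ 𝐒 y := (h.par h0).Q_le

theorem qb (h : Am G E) (h0 : E x y) : 𝐐 y ≤ 𝐒 x ⊓ 𝐒 y := inf_comm (𝐒 y) _ ▸ (h.pq h0).Q_le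

theorem pq' (h : Am G E) (h0 : E x y) : Pq (𝐒 x ⊓ 𝐒 y) (𝐒 y) := inf_comm (𝐒 y) _ ▸ h.pq h0

theorem zb_eq (h : Am G E) (h0 : E x y) : 𝐙 y = Ohm 2 (Zc (𝐒 x ⊓ 𝐒 y)) := by
  refine le_antisymm (ZN.ZZ_le fun T hT => ?_) (ZN.le_ZZ (h.pq' h0).syl)
  obtain ⟨g, hg, rfl⟩ := (h.pq' h0).syl.exists_conj' hT
  rw [Zc_conj, Ohm_conj, conj_eq_of_mem_cent (h.ce h0 hg)]

theorem zb_le (h : Am G E) (h0 : E x y) : 𝐙 y ≤ 𝐙 x := h.zb_eq h0 ▸ ZN.le_ZZ (h.par h0).syl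

theorem zb_comm (h : Am G E) (h0 : E x y) (hg : g ∈ 𝐒 y) (he : e ∈ 𝐙 y) : g * e = e * g :=
  mul_eq_of_cent (h.ce h0 hg) (h.zb_eq h0 ▸ he)

theorem zb_conj (h : Am G E) (h0 : E x y) (hg : g ∈ 𝐒 y) (he : e ∈ 𝐙 y) : g * e * g⁻¹ = e :=
  conj_eq_of_comm (h.zb_comm h0 hg he)

theorem za_el (h : Am G E) (h0 : E x y) : IsElementaryAbelian 2 (𝐙 x) := (h.par h0).Z_abelem

theorem za_le (h : Am G E) (h0 : E x y) : 𝐙 x ≤ 𝐐 x := (h.par h0).Z_le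

theorem za_comm (h : Am G E) (h0 : E x y) (hq : q ∈ 𝐐 x) (he : e ∈ 𝐙 x) : q * e = e * q :=
  mul_eq_of_cent ((h.par h0).Q_le_cent hq) he

theorem mem_zb' (h : Am G E) (h0 : E x y) (he : e ∈ 𝐒 x ⊓ 𝐒 y) (e2 : e * e = 1)
    (hc : 𝐒 x ⊓ 𝐒 y ≤ 𝐂[e]) : e ∈ 𝐙 y :=
  h.zb_eq h0 ▸ mem_Ohm ⟨he, le_cent1_iff.1 hc⟩ (by rw [sq, e2])

theorem mem_zb (h : Am G E) (h0 : E x y) (he : e ∈ 𝐙 x) (hu : u ∈ 𝐒 x ⊓ 𝐒 y) (hu' : u ∉ 𝐐 x)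
    (hc : u * e = e * u) : e ∈ 𝐙 y :=
  h.mem_zb' h0 (h.qa h0 (h.za_le h0 he)) (sq_of_abelem (h.za_el h0) he)
    ((h.par h0).le_of (fun _ hq => mem_cent1.2 (h.za_comm h0 hq he)) hu hu' (mem_cent1.2 hc))

theorem conj_za (hg : g ∈ 𝐒 x) (he : e ∈ 𝐙 x) : g * e * g⁻¹ ∈ 𝐙 x := conj_mem_Z hg he

theorem comm_zb (h : Am G E) (h0 : E x y) (he : e ∈ 𝐙 x) (hu : u ∈ 𝐒 x ⊓ 𝐒 y) : ⁅u, e⁆ ∈ 𝐙 y := by
  by_cases hu' : u ∈ 𝐐 x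
  · rw [comm_eq_one.2 (h.za_comm h0 hu' he)]; exact one_mem _
  have h1 := conj_za hu.1 he
  refine h.mem_zb h0 (mul_mem h1 (inv_mem he)) hu hu' (comm_of_conj_eq ?_)
  have h2 : u * u * e * (u * u)⁻¹ = e :=
    conj_eq_of_comm (h.za_comm h0 ((h.par h0).pq.sq_mem_Q hu) he)
  rw [commutatorElement_def, ZN.inv_eq_of_abelem (h.za_el h0) he,
    show u * (u * e * u⁻¹ * e) * u⁻¹ = u * u * e * (u * u)⁻¹ * (u * e * u⁻¹) by group, h2,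
    comm_of_ab (h.za_el h0) he h1]

theorem zb_inf (h : Am G E) (h0 : E x y₀) (h1 : E x y₁) (ne : y₀ ≠ y₁) (e0 : e ∈ 𝐙 y₀)
    (e1 : e ∈ 𝐙 y₁) : e = 1 := by
  obtain ⟨u, hu, hu'⟩ := (h.par h1).exists_not_mem_Q
  have c0 : 𝐒 y₀ ≤ 𝐂[e] := fun g hg => mem_cent1.2 (h.zb_comm h0 hg e0)
  have c1 : 𝐒 x ≤ 𝐂[e] := (h.sa x).gen h0 h1 ne (inf_le_right.trans c0) hu hu'
    (mem_cent1.2 (h.zb_comm h1 hu.2 e1))
  simpa using h.triv h0 (zpowers e) (zpowers_le.2 (h.qa h0 (h.za_le h0 (h.zb_le h0 e0))))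
    (le_norm_of_le_cent (by rwa [cent_zpowers])) (le_norm_of_le_cent (by rwa [cent_zpowers]))

theorem za_le_sup (h : Am G E) (h0 : E x y₀) (h1 : E x y₁) (ne : y₀ ≠ y₁) : 𝐙 x ≤ 𝐙 y₀ ⊔ 𝐙 y₁ := by
  refine ZN.ZZ_le fun T hT => ?_
  obtain ⟨g, hg, rfl⟩ := (h.par h0).syl.exists_conj' hT
  have h2 := (h.sa x).smul h0 hg
  rw [conj_inf, conj_eq_of_mem hg, ← st_smul, ← h.zb_eq h2]
  obtain ⟨u, hu, hu'⟩ := (h.par h0).exists_not_mem_Q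
  rcases (h.sa x).cases h0 h1 ne hu hu' h2 with e | e | e <;> rw [e]
  · exact le_sup_left
  · exact le_sup_right
  · rw [Z_smul, conj_le_iff]
    intro e he
    rw [show u * e * u⁻¹ = ⁅u, e⁆ * e by simp [commutatorElement_def]]
    exact mul_mem_sup (h.comm_zb h0 (h.zb_le h1 he) hu) he

theorem za_split (h : Am G E) (h0 : E x y₀) (h1 : E x y₁) (ne : y₀ ≠ y₁) (he : e ∈ 𝐙 x) :
    ∃ a ∈ 𝐙 y₀, ∃ b ∈ 𝐙 y₁, a * b = e :=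
  (mem_sup_norm_left (le_norm_of_le_cent (le_cent_mono (abelem_le_cent (h.za_el h0)) (h.zb_le h1)
    (h.zb_le h0)))).1 (h.za_le_sup h0 h1 ne he)

theorem zb_surj (h : Am G E) (h0 : E x y) (he : e ∈ 𝐙 y) (hu : u ∈ 𝐒 x ⊓ 𝐒 y) (hu' : u ∉ 𝐐 x) :
    ∃ a ∈ 𝐙 x, e = ⁅u, a⁆ := by
  obtain ⟨y₁, h1, n1⟩ := (h.sa x).other h0
  obtain ⟨y₂, h2, n2, n3⟩ := (h.sa x).third h0 h1 n1
  obtain ⟨a, ha, b, hb, e1⟩ := h.za_split h1 h2 n3 (h.zb_le h0 he)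
  refine ⟨a, h.zb_le h1 ha, ?_⟩
  have h3 := conj_mem_Z ((h.sa x).swap h0 h1 h2 n1 n2 n3 hu hu') ha
  have h4 : e⁻¹ * ⁅u, a⁆ = b⁻¹ * (u * a * u⁻¹) := by
    rw [← e1, commutatorElement_def, comm_of_ab (h.za_el h0) (h.zb_le h2 h3) (inv_mem (h.zb_le h1 ha)),
      show (a * b)⁻¹ * (a⁻¹ * (u * a * u⁻¹)) = b⁻¹ * (a * a)⁻¹ * (u * a * u⁻¹) by group,
      sq_of_abelem (h.za_el h0) (h.zb_le h1 ha), inv_one, mul_one]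
  exact inv_mul_eq_one.1 (h.zb_inf h0 h2 n2 (mul_mem (inv_mem he) (h.comm_zb h0 (h.zb_le h1 ha) hu))
    (h4 ▸ mul_mem (inv_mem hb) h3))

theorem exists_za (h : Am G E) (h0 : E x y) : ∃ a ∈ 𝐙 x, a ∉ 𝐙 y := by
  by_contra! hc
  obtain ⟨y₁, h1, n1⟩ := (h.sa x).other h0
  obtain ⟨g, hg, rfl⟩ := (h.sa x).tr h0 h1
  refine (h.par h0).Z_ne_bot (eq_bot_iff.2 fun e he => h.zb_inf h0 h1 n1 (hc e he) ?_)
  rw [Z_smul, mem_conj]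
  exact hc _ (by simpa using conj_za (inv_mem hg) he)

theorem Q_ne (h : Am G E) (h0 : E x y) : 𝐐 x ≠ 𝐐 y := fun e =>
  (h.par h0).pq.Q_ne_bot (h.triv h0 _ (h.qa h0) (Pq.le_norm_Q _) (e ▸ Pq.le_norm_Q _))

theorem exists_qa (h : Am G E) (h0 : E x y) : ∃ k ∈ 𝐐 x, k ∉ 𝐐 y := by
  by_contra! hc
  refine h.Q_ne h0 (le_antisymm hc fun k hk => ?_)
  by_contra hk'
  exact (h.pq' h0).not_le_Q ((h.par h0).le_of hc (h.qb h0 hk) hk' hk)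

theorem exists_qb (h : Am G E) (h0 : E x y) : ∃ k ∈ 𝐐 y, k ∉ 𝐐 x := by
  by_contra! hc
  refine h.Q_ne h0 (le_antisymm (fun k hk => ?_) hc)
  by_contra hk'
  exact (h.par h0).not_le_Q ((h.pq' h0).le_of hc (h.qa h0 hk) hk' hk)

/-- the case `b = 1` -/
theorem one (h : Am G E) (h0 : E x y) : 𝐙 x ≤ 𝐐 y := fun a ha => by
  by_contra ha'
  have a2 := sq_of_abelem (h.za_el h0) ha
  obtain ⟨w, hw, w3, hw', e⟩ := (h.pq' h0).exists_y h.e6 (h.qa h0 (h.za_le h0 ha)) ha' a2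
  refine hw' (h.qb h0 ((h.pq h0).char ⟨hw, mem_cent_iff_conj.2 fun q hq => ?_⟩))
  have nq : ∀ {g q : G}, g ∈ 𝐒 y → q ∈ 𝐐 y → g * q * g⁻¹ ∈ 𝐐 y := fun hg hq =>
    conj_mem_of_norm (Pq.le_norm_Q _ hg) hq
  have ay := (h.qa h0 (h.za_le h0 ha)).2
  have c : ∀ q ∈ 𝐐 y, ∃ z ∈ 𝐙 y, a * q * a⁻¹ = q * z := fun q hq =>
    ⟨_, h.comm_zb h0 ha (h.qb h0 (inv_mem hq)), by simp [commutatorElement_def, mul_assoc, inv_eq_of_sq a2]⟩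
  have c' : ∀ q ∈ 𝐐 y, ∃ z ∈ 𝐙 y, w * q * w⁻¹ = q * z := fun q hq => by
    obtain ⟨z, hz, e1⟩ := c _ (nq (inv_mem hw) hq)
    obtain ⟨z', hz', e2⟩ := c q hq
    refine ⟨z' * z, mul_mem hz' hz, ?_⟩
    have e3 : w = a * (w * a⁻¹ * w⁻¹) := by
      rw [show a * (w * a⁻¹ * w⁻¹) = a * w * a⁻¹ * w⁻¹ by group, e, ← mul_inv_rev, ← inv_eq_of_cube w3,
        inv_inv]
    rw [inv_eq_of_sq a2] at e3
    calc w * q * w⁻¹ = a * (w * (a * (w⁻¹ * q * w⁻¹⁻¹) * a⁻¹) * w⁻¹) * a⁻¹ := by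
          conv_lhs => rw [e3]
          group
      _ = a * q * a⁻¹ * (a * (w * z * w⁻¹) * a⁻¹) := by rw [e1]; group
      _ = q * (z' * z) := by rw [e2, h.zb_conj h0 hw hz, h.zb_conj h0 ay hz, mul_assoc]
  obtain ⟨z, hz, e1⟩ := c' q hq
  exact fix_of_three w3 e1 (h.zb_conj h0 hw hz) (sq_of_abelem (h.za_el h0) (h.zb_le h0 hz))

/-- the case `b = 2` -/
theorem two' (h : Am G E) (h0 : E x₀ y) (h1 : E x₁ y) : 𝐙 x₀ ≤ 𝐐 x₁ := fun a ha => by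
  by_contra ha'
  have ne : x₀ ≠ x₁ := fun e => ha' (e ▸ h.za_le h0 ha)
  obtain ⟨w, hw, w3, e⟩ := (h.sb y).rot h0 h1 ne
  have h2 := conj_mem_Z e ha
  have h3 := h.qb h1 (h.one h0 ha)
  have h4 := h.comm_zb h1 h2 h3
  have h5 := h.e6.l0 (c := ⁅a, w * a * w⁻¹⁆) w3 (fun e' => ne (by rw [← e, e', one_smul]))
    (sq_of_abelem (h.za_el h0) ha) (by rw [commutatorElement_def]; group) (h.zb_comm h1 h3.2 h4).symm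
    (h.zb_comm h1 hw h4).symm
  have h6 := h.mem_zb h1 h2 h3 ha' (comm_eq_one.1 h5)
  exact ha' (h.za_le h1 (h.zb_le h1 ((conj_mem_Z_iff hw).1 h6)))

end Am

end Cfsg.Agent.OE
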