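import Cfsg.Agent.Lib.OE.Am1

/-!
# The central amalgam: the groups `V_β`
-/

set_option autoImplicit false
set_option linter.unusedSectionVars false

namespace Cfsg.Agent.OE

open Subgroup Cfsg.Agent.OO Cfsg.Agent.Coprime
open scoped Pointwise commutatorElement

universe u

variable {G : Type u} [Group G] {X Y : Type u} [MulAction G X] [MulAction G Y]

local notation "𝐒" x:max => MulAction.stabilizer G x
local notation "𝐐" x:max => Op 2 (MulAction.stabilizer G x)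
local notation "𝐙" x:max => ZN.ZZ (MulAction.stabilizer G x)

/-- the group generated by the `Z_α` with `α` adjacent to `y` -/
def AV (G : Type u) [Group G] {X Y : Type u} [MulAction G X] (E : X → Y → Prop) (y : Y) :
    Subgroup G := ⨆ x, ⨆ _ : E x y, ZN.ZZ (MulAction.stabilizer G x)

/-- there are involutions in `Q_α - Q_β` -/
def Iv (G : Type u) [Group G] {X Y : Type u} [MulAction G X] [MulAction G Y] (E : X → Y → Prop) :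
    Prop := ∀ x y, E x y → ∃ t ∈ Op 2 (MulAction.stabilizer G x),
      t ∉ Op 2 (MulAction.stabilizer G y) ∧ t * t = 1

theorem comm_symm_mem {K : Subgroup G} {a b : G} (h : ⁅a, b⁆ ∈ K) : ⁅b, a⁆ ∈ K := by
  rw [← commutatorElement_inv]; exact inv_mem h

theorem conj_comm (g a b : G) : g * ⁅a, b⁆ * g⁻¹ = ⁅g * a * g⁻¹, g * b * g⁻¹⁆ := by
  simp only [commutatorElement_def]; group

variable [Finite G]

theorem Star.tr2 {P : Subgroup G} {nb : Y → Prop} {y₀ y₁ y₂ y₃ : Y} (h : Star P nb) (h0 : nb y₀)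
    (h1 : nb y₁) (h2 : nb y₂) (h3 : nb y₃) (n1 : y₀ ≠ y₁) (n2 : y₂ ≠ y₃) :
    ∃ g ∈ P, g • y₀ = y₂ ∧ g • y₁ = y₃ := by
  obtain ⟨g, hg, rfl⟩ := h.tr h0 h2
  by_cases e : g • y₁ = y₃
  · exact ⟨g, hg, rfl, e⟩
  obtain ⟨u, hu, hu'⟩ := (h.pq h2).exists_not_mem_Q
  exact ⟨u * g, mul_mem hu.1 hg, by rw [mul_smul]; exact hu.2, by
    rw [mul_smul]
    exact h.swap h2 (h.smul h1 hg) h3 (fun e => n1 (MulAction.injective g e)) n2 e hu hu'⟩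

namespace Am

variable {E : X → Y → Prop} {x x₀ x₁ x₂ : X} {y y' y₀ y₁ y₂ : Y} {a c e g k q t u v v' w : G}
  {K : Subgroup G}

local notation "𝐕" y:max => AV G E y

theorem le_V (h0 : E x y) : 𝐙 x ≤ 𝐕 y := le_iSup₂_of_le (f := fun x (_ : E x y) => 𝐙 x) x h0 le_rfl

theorem V_le (h : ∀ x, E x y → 𝐙 x ≤ K) : 𝐕 y ≤ K := iSup₂_le h

theorem conj_mem_V (h : Am G E) (e : g • y = y') (hv : v ∈ 𝐕 y) : g * v * g⁻¹ ∈ 𝐕 y' :=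
  conj_le_iff.1 (conj_le_iff_le_inv_conj.2 (V_le fun x hx => conj_le_iff_le_inv_conj.1
    (Z_smul g x ▸ le_V (e ▸ h.smul g hx)))) v hv

theorem le_norm_V (h : Am G E) (y : Y) : 𝐒 y ≤ 𝐍(𝐕 y) :=
  le_norm_iff.2 fun _ hg _ hv => h.conj_mem_V hg hv

theorem V_le_qa (h : Am G E) (h0 : E x y) : 𝐕 y ≤ 𝐐 x := V_le fun _ h1 => h.two' h1 h0

theorem V_le_qb (h : Am G E) : 𝐕 y ≤ 𝐐 y := V_le fun _ h1 => h.one h1

theorem V_el (h : Am G E) : IsElementaryAbelian 2 (𝐕 y) :=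
  abelem_of_le (Ohm_abelem 2 (ab_iff_le_cent.2 (le_cent_symm (V_le fun _ h1 =>
    le_cent_symm ((h.V_le_qa h1).trans (h.par h1).Q_le_cent)))))
    (V_le fun _ h1 => le_Ohm (le_V h1) (h.za_el h1))

theorem nz (y : Y) : 𝐒 y ≤ 𝐍(𝐙 y) := ZN.le_norm_ZZ _

theorem comm_V (h : Am G E) (hq : q ∈ 𝐐 y) (hv : v ∈ 𝐕 y) : ⁅q, v⁆ ∈ 𝐙 y :=
  (V_le (K := ZN.cm q (𝐙 y)) (fun _ h1 _ he => ⟨nz y (Op_le _ _ (h.one h1 he)),
    h.comm_zb h1 he (h.qb h1 hq)⟩) hv).2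

theorem not_norm_V (h : Am G E) (h0 : E x y) : ¬ 𝐒 x ≤ 𝐍(𝐕 y) := fun e =>
  (h.par h0).Z_ne_bot (le_bot_iff.1 ((le_V h0).trans
    (h.triv h0 _ ((h.V_le_qa h0).trans (h.qa h0)) e (h.le_norm_V y)).le))

theorem b0 (h : Am G E) (h0 : E x y) (hw : w ∈ 𝐒 y) (w3 : w ^ 3 = 1) (w1 : w ≠ 1) (hc : c ∈ 𝐕 y)
    (cw : w * c * w⁻¹ = c) : 𝐐 y ≤ 𝐂[c] := by
  have hQ := Op_isPGroup 2 (𝐒 y)
  have h1 := coprime_cent_prod (zpowers_le.2 (Pq.le_norm_Q _ hw))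
    (by obtain ⟨k, hk⟩ := IsPGroup.iff_card.1 hQ
        rw [hk, Nat.card_zpowers, orderOf_three w3 w1]; exact Nat.Coprime.pow_left _ (by norm_num))
    (.inl (sol_of_isPGroup hQ))
  have hcw : c ∈ 𝐂[w] := mem_cent1_comm.1 (mem_cent1_iff_conj.2 cw)
  rw [← h1]
  refine sup_le (commutator_le.2 fun q hq g hg => ?_) fun q hq => ?_
  · have hg1 : g ∈ 𝐒 y := zpowers_le.2 hw hg
    have hg2 : g * c * g⁻¹ = c := mem_cent1_iff_conj.1 (zpowers_le.2 (mem_cent1_comm.1 hcw) hg)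
    have hz := h.comm_V (inv_mem hq) hc
    have e1 : q⁻¹ * c * q = ⁅q⁻¹, c⁆ * c := by simp [commutatorElement_def]
    have e2 : g⁻¹ * c * g = c := by
      conv_lhs => rw [← hg2]
      group
    have e3 := h.zb_conj h0 (Op_le _ _ hq) hz
    refine mem_cent1_iff_conj.2 ?_
    calc ⁅q, g⁆ * c * ⁅q, g⁆⁻¹ = q * (g * (q⁻¹ * (g⁻¹ * c * g) * q) * g⁻¹) * q⁻¹ := by
          rw [commutatorElement_def]; group
      _ = q * ((g * ⁅q⁻¹, c⁆ * g⁻¹) * (g * c * g⁻¹)) * q⁻¹ := by rw [e2, e1]; group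
      _ = c := by rw [hg2, h.zb_conj h0 hg1 hz, ← e1]; group
  · rw [cent_zpowers] at hq
    have hc' := h.V_le_qb hc
    have s1 := h.e6.sq_of_cent hQ w3 w1 hq.1 hq.2
    have s2 := sq_of_abelem h.V_el hc
    have s3 := h.e6.sq_of_cent hQ w3 w1 (mul_mem hq.1 hc') (mul_mem hq.2 hcw)
    refine mem_cent1.2 ?_
    rw [← inv_eq_of_sq s3, mul_inv_rev, inv_eq_of_sq s1, inv_eq_of_sq s2]

theorem tri_fix (h : Am G E) (h0 : E x y) (hw : w ∈ 𝐒 y) (w3 : w ^ 3 = 1) (ha : a ∈ 𝐙 x) :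
    a * (w * a * w⁻¹) * (w⁻¹ * a * w) ∈ 𝐕 y ∧ w * (a * (w * a * w⁻¹) * (w⁻¹ * a * w)) * w⁻¹ =
      a * (w * a * w⁻¹) * (w⁻¹ * a * w) := by
  have h1 := le_V h0 ha
  have h2 := h.conj_mem_V hw h1
  have h3 : w⁻¹ * a * w ∈ 𝐕 y := conj_mem_of_norm' (h.le_norm_V y hw) h1
  refine ⟨mul_mem (mul_mem h1 h2) h3, ?_⟩
  rw [show w * (a * (w * a * w⁻¹) * (w⁻¹ * a * w)) * w⁻¹ =
    w * a * w⁻¹ * (w * w * a * (w * w)⁻¹) * a by group, ← inv_eq_of_cube w3, inv_inv,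
    comm_of_ab h.V_el (mul_mem h2 h3) h1, mul_assoc a]

theorem b1 (h : Am G E) (h0 : E x₀ y) (h1 : E x₁ y) (ne : x₀ ≠ x₁) :
    ∃ k ∈ 𝐐 y, k ∈ 𝐐 x₁ ∧ k ∉ 𝐐 x₀ := by
  by_contra! hc
  obtain ⟨w, hw, w3, rfl⟩ := (h.sb y).rot h0 h1 ne
  have w1 : w ≠ 1 := fun e => ne (by rw [e, one_smul])
  have nq : ∀ {g q : G}, g ∈ 𝐒 y → q ∈ 𝐐 y → g * q * g⁻¹ ∈ 𝐐 y := fun hg hq =>
    conj_mem_of_norm (Pq.le_norm_Q _ hg) hq
  have c1 : ∀ k ∈ 𝐐 y, k ∈ 𝐐 x₀ → w * k * w⁻¹ ∈ 𝐐 x₀ := fun k hk hk' =>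
    hc _ (nq hw hk) ((conj_mem_Q_iff rfl).2 hk')
  have c2 : ∀ k ∈ 𝐐 y, w * k * w⁻¹ ∈ 𝐐 x₀ → k ∈ 𝐐 x₀ := fun k hk hk' => by
    have := c1 _ (nq hw (nq hw hk)) (c1 _ (nq hw hk) hk')
    rwa [show w * (w * (w * k * w⁻¹) * w⁻¹) * w⁻¹ = w * w * w * k * (w * w * w)⁻¹ by group, cube w3,
      one_mul, inv_one, mul_one] at this
  obtain ⟨q, hq, hq'⟩ := h.exists_qb h0
  obtain ⟨a, ha, ha'⟩ := h.exists_za h0
  have a2 := sq_of_abelem (h.za_el h0) ha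
  have key : ∀ r ∈ 𝐐 y, r ∉ 𝐐 x₀ → r * a * r⁻¹ = ⁅q, a⁆ * a := fun r hr hr' => by
    have := h.za_comm h0 ((h.par h0).pq.mul_mem_Q (h.qb h0 (inv_mem hq)) (by simpa using hq')
      (h.qb h0 hr) hr') ha
    rw [show r * a * r⁻¹ = q * (q⁻¹ * r * a) * r⁻¹ by group, this, commutatorElement_def]; group
  have hz := h.comm_zb h0 ha (h.qb h0 hq)
  generalize ⁅q, a⁆ = z at key hz
  have k1 : q * (w * a * w⁻¹) * q⁻¹ = z * (w * a * w⁻¹) := by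
    have := key _ (nq (inv_mem hw) hq) fun e => hq' (by simpa [mul_assoc] using c1 _ (nq (inv_mem hw) hq) e)
    rw [show q * (w * a * w⁻¹) * q⁻¹ = w * (w⁻¹ * q * w⁻¹⁻¹ * a * (w⁻¹ * q * w⁻¹⁻¹)⁻¹) * w⁻¹ by group,
      this, ← mul_assoc, h.zb_comm h0 hw hz]; group
  have k2 : q * (w⁻¹ * a * w) * q⁻¹ = z * (w⁻¹ * a * w) := by
    have := key _ (nq hw hq) fun e => hq' (c2 _ hq e)
    rw [show q * (w⁻¹ * a * w) * q⁻¹ = w⁻¹ * (w * q * w⁻¹ * a * (w * q * w⁻¹)⁻¹) * w by group,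
      this, ← mul_assoc, h.zb_comm h0 (inv_mem hw) hz]; group
  obtain ⟨t1, t2⟩ := h.tri_fix h0 hw w3 ha
  have k3 := mem_cent1_iff_conj.1 (h.b0 h0 hw w3 w1 t1 t2 hq)
  have hy : ∀ {v : G}, v ∈ 𝐕 y → v * z = z * v := fun hv => h.zb_comm h0 (Op_le _ _ (h.V_le_qb hv)) hz
  have v0 := le_V h0 ha
  have v1 := h.conj_mem_V hw v0
  rw [show q * (a * (w * a * w⁻¹) * (w⁻¹ * a * w)) * q⁻¹ = q * a * q⁻¹ * (q * (w * a * w⁻¹) * q⁻¹) *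
    (q * (w⁻¹ * a * w) * q⁻¹) by group, key q hq hq', k1, k2,
    show z * a * (z * (w * a * w⁻¹)) * (z * (w⁻¹ * a * w)) = z * (a * z) * (w * a * w⁻¹ * z) *
      (w⁻¹ * a * w) by group, hy v0, hy v1, ← mul_assoc z z, sq_of_abelem (h.za_el h0) (h.zb_le h0 hz),
    one_mul, ← mul_assoc a, hy v0, mul_assoc z, mul_assoc z, mul_eq_right] at k3
  have k4 := key q hq hq'
  rw [k3, one_mul] at k4
  exact ha' (h.mem_zb h0 ha (h.qb h0 hq) hq' (comm_of_conj_eq k4))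

theorem za_inf (h : Am G E) (h0 : E x₀ y) (h1 : E x₁ y) (ne : x₀ ≠ x₁) (e0 : e ∈ 𝐙 x₀)
    (e1 : e ∈ 𝐙 x₁) : e ∈ 𝐙 y :=
  let ⟨_, k1, k2, k3⟩ := h.b1 h0 h1 ne
  h.mem_zb h0 e0 (h.qb h0 k1) k3 (h.za_comm h1 k2 e1)

theorem iv (h : Am G E) (h0 : E x y) (ht : t ∈ 𝐐 x) (ht' : t ∉ 𝐐 y) (t2 : t * t = 1) : Iv G E :=
  fun _ _ h1 => let ⟨g, e, e'⟩ := h.tr h0 h1
  ⟨g * t * g⁻¹, (conj_mem_Q_iff e).2 ht, fun c => ht' ((conj_mem_Q_iff e').1 c), conj_sq t2 g⟩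

theorem b2 (h : Am G E) (h0 : E x₀ y) (h1 : E x₁ y) (ne : x₀ ≠ x₁) (ht : t ∈ 𝐐 x₀) (ht' : t ∉ 𝐐 y)
    (t2 : t * t = 1) (ha : a ∈ 𝐙 x₁) : ∃ b ∈ 𝐙 x₀, ⁅t, a⁆ * b ∈ 𝐙 y ∧ (b ∈ 𝐙 y → a ∈ 𝐙 y) := by
  have hT := h.qa h0 ht
  obtain ⟨w, hw, w3, e, tw⟩ := (h.sb y).rot' h.e6 h0 h1 ne ⟨hT.2, hT.1⟩ ht' t2
  obtain ⟨b, rfl⟩ : ∃ b, a = w * b * w⁻¹ := ⟨w⁻¹ * a * w, by group⟩
  have hb := (conj_mem_Z_iff e).1 ha
  obtain ⟨t1, t3⟩ := h.tri_fix h0 hw w3 hb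
  have tb : t * b * t⁻¹ = b := conj_eq_of_comm (h.za_comm h0 ht hb)
  have v0 := le_V h0 hb
  have v1 := h.conj_mem_V hw v0
  have v2 : w⁻¹ * b * w ∈ 𝐕 y := conj_mem_of_norm' (h.le_norm_V y hw) v0
  have e1 : t * (w * b * w⁻¹) * t⁻¹ = w⁻¹ * b * w := by
    rw [show t * (w * b * w⁻¹) * t⁻¹ = t * w * t⁻¹ * (t * b * t⁻¹) * (t * w * t⁻¹)⁻¹ by group, tw, tb,
      inv_inv]
  have e2 : t * (w⁻¹ * b * w) * t⁻¹ = w * b * w⁻¹ := by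
    rw [show t * (w⁻¹ * b * w) * t⁻¹ = (t * w * t⁻¹)⁻¹ * (t * b * t⁻¹) * (t * w * t⁻¹) by group, tw,
      tb, inv_inv]
  refine ⟨b, hb, ?_, (conj_mem_Z_iff hw).2⟩
  have := h.mem_zb' h0 (h.qb h0 (h.V_le_qb t1)) (sq_of_abelem h.V_el t1) ((h.pq' h0).le_of
    (h.b0 h0 hw w3 (fun e' => ne (by rw [← e, e', one_smul])) t1 t3) hT ht' (mem_cent1_iff_conj.2 (by
      rw [show t * (b * (w * b * w⁻¹) * (w⁻¹ * b * w)) * t⁻¹ = t * b * t⁻¹ * (t * (w * b * w⁻¹) * t⁻¹ *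
        (t * (w⁻¹ * b * w) * t⁻¹)) by group, tb, e1, e2, comm_of_ab h.V_el v2 v1, mul_assoc b])))
  rwa [commutatorElement_def, e1, ZN.inv_eq_of_abelem h.V_el v1, comm_of_ab h.V_el v2 v1,
    comm_of_ab h.V_el (mul_mem v1 v2) v0, ← mul_assoc]

theorem b2a (h : Am G E) (hI : Iv G E) (h0 : E x₀ y) (h1 : E x₁ y) (ne : x₀ ≠ x₁) :
    𝐕 y ≤ 𝐙 x₀ ⊔ 𝐙 x₁ := V_le fun x hx => by
  obtain ⟨t, ht, ht', t2⟩ := hI _ _ h0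
  have hT := h.qa h0 ht
  rcases (h.sb y).cases h0 h1 ne ⟨hT.2, hT.1⟩ ht' hx with e | e | e <;> rw [e]
  · exact le_sup_left
  · exact le_sup_right
  · rw [Z_smul, conj_le_iff]
    intro a ha
    obtain ⟨b, hb, e1, -⟩ := h.b2 h0 h1 ne ht ht' t2 ha
    rw [show t * a * t⁻¹ = ⁅t, a⁆ * b * b⁻¹ * a by simp [commutatorElement_def]]
    exact mul_mem_sup (mul_mem (h.zb_le h0 e1) (inv_mem hb)) ha

theorem V_split (h : Am G E) (hI : Iv G E) (h0 : E x₀ y) (h1 : E x₁ y) (ne : x₀ ≠ x₁) (hv : v ∈ 𝐕 y) :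
    ∃ a ∈ 𝐙 x₀, ∃ b ∈ 𝐙 x₁, a * b = v :=
  (mem_sup_norm_left (le_norm_of_le_cent (le_cent_mono (abelem_le_cent h.V_el) (le_V h1)
    (le_V h0)))).1 (h.b2a hI h0 h1 ne hv)

theorem b2c (h : Am G E) (hI : Iv G E) (h0 : E x y) (hq : q ∈ 𝐒 x ⊓ 𝐒 y) (hv : v ∈ 𝐕 y) :
    ⁅q, v⁆ ∈ 𝐙 x := by
  obtain ⟨t, ht, ht', t2⟩ := hI _ _ h0
  obtain ⟨x₁, h1, ne⟩ := (h.sb y).other h0
  have nx : 𝐒 x ≤ 𝐍(𝐙 x) := ZN.le_norm_ZZ _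
  have h2 : 𝐙 x ⊔ 𝐙 x₁ ≤ ZN.cm t (𝐙 x) := sup_le (fun a ha => ⟨le_norm_self _ ha, by
    rw [comm_eq_one.2 (h.za_comm h0 ht ha)]; exact one_mem _⟩) fun a ha =>
      ⟨nx (Op_le _ _ (h.two' h1 h0 ha)), by
        obtain ⟨b, hb, e1, -⟩ := h.b2 h0 h1 ne ht ht' t2 ha
        exact (mul_mem_cancel_right hb).1 (h.zb_le h0 e1)⟩
  exact comm_symm_mem ((h.pq' h0).le_of (X := ZN.cm v (𝐙 x)) (fun r hr => ⟨nx (h.qb h0 hr).1,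
    comm_symm_mem (h.zb_le h0 (h.comm_V hr hv))⟩) (h.qa h0 ht) ht'
    ⟨nx (Op_le _ _ ht), comm_symm_mem (h2 (h.b2a hI h0 h1 ne hv)).2⟩ hq).2

theorem b3a (h : Am G E) (hI : Iv G E) (h0 : E x y) (hq : q ∈ 𝐐 x) (hq' : q ∉ 𝐐 y) (hv : v ∈ 𝐕 y)
    (hc : q * v = v * q) : v ∈ 𝐙 x := by
  obtain ⟨t, ht, ht', t2⟩ := hI _ _ h0
  obtain ⟨x₁, h1, ne⟩ := (h.sb y).other h0
  obtain ⟨a, ha, b, hb, rfl⟩ := h.V_split hI h0 h1 ne hv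
  refine mul_mem ha (h.zb_le h0 ?_)
  obtain ⟨c, -, e1, e2⟩ := h.b2 h0 h1 ne ht ht' t2 hb
  refine e2 ((mul_mem_cancel_left (comm_symm_mem ?_)).1 e1)
  have h2 : q * b = b * q := by
    rw [← mul_assoc, h.za_comm h0 hq ha, mul_assoc, mul_assoc] at hc; exact mul_left_cancel hc
  exact ((h.pq' h0).le_of (X := ZN.cm b (𝐙 y)) (fun r hr => ⟨nz y (Op_le _ _ hr),
    comm_symm_mem (h.comm_V hr (le_V h1 hb))⟩) (h.qa h0 hq) hq' ⟨nz y (h.qa h0 hq).2, by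
      rw [comm_eq_one.2 h2.symm]; exact one_mem _⟩ (h.qa h0 ht)).2

theorem b3b (h : Am G E) (hI : Iv G E) (h0 : E x y) (hq : q ∈ 𝐐 x) (hv : v ∈ 𝐕 y) (hv' : v ∉ 𝐙 x)
    (hc : q * v = v * q) : q ∈ 𝐂(𝐕 y) := by
  have hq' : q ∈ 𝐐 y := by_contra fun e => hv' (h.b3a hI h0 hq e hv hc)
  obtain ⟨x₁, h1, ne⟩ := (h.sb y).other h0
  obtain ⟨a, ha, b, hb, rfl⟩ := h.V_split hI h0 h1 ne hv
  have h2 : q * b = b * q := by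
    rw [← mul_assoc, h.za_comm h0 hq ha, mul_assoc, mul_assoc] at hc; exact mul_left_cancel hc
  have h3 : q ∈ 𝐐 x₁ := by_contra fun e =>
    hv' (mul_mem ha (h.zb_le h0 (h.mem_zb h1 hb (h.qb h1 hq') e h2)))
  refine cent_anti (h.b2a hI h0 h1 ne) ?_
  rw [cent_sup]
  exact ⟨(h.par h0).Q_le_cent hq, (h.par h1).Q_le_cent h3⟩

/-- the case `b = 3` -/
theorem three (h : Am G E) (h1 : E x y₁) (h2 : E x y₂) : 𝐕 y₁ ≤ 𝐐 y₂ := fun v hv => by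
  by_contra hv'
  have n : y₁ ≠ y₂ := fun e => hv' (e ▸ h.V_le_qb hv)
  have hI := h.iv h2 (h.V_le_qa h1 hv) hv' (sq_of_abelem h.V_el hv)
  have s1 : ∀ {y y'}, E x y → E x y' → y ≠ y' → ∃ v ∈ 𝐕 y, v ∉ 𝐐 y' := fun h3 h4 ne =>
    let ⟨g, _, e, e'⟩ := (h.sa x).tr2 h1 h2 h3 h4 n ne
    ⟨_, h.conj_mem_V e hv, fun c => hv' ((conj_mem_Q_iff e').1 c)⟩
  have s2 : ∀ {y y' w}, E x y → E x y' → y ≠ y' → w ∈ 𝐕 y → w ∈ 𝐐 y' → w ∈ 𝐙 x :=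
    fun {y y' w} h3 h4 ne hw hw' => by
    by_contra c
    obtain ⟨g, hg, e, e'⟩ := (h.sa x).tr2 h3 h4 h4 h3 ne ne.symm
    have k1 := h.conj_mem_V e hw
    have k2 := h.b3b hI h4 (h.V_le_qa h3 hw) k1 (fun c' => c ((conj_mem_Z_iff hg).1 c'))
      (comm_eq_one.1 (h.zb_inf h4 h3 ne.symm (h.comm_V hw' k1)
        (comm_symm_mem (h.comm_V ((conj_mem_Q_iff e').2 hw') hw))))
    obtain ⟨v₀, k3, k4⟩ := s1 h4 h3 ne.symm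
    exact c (h.b3a hI h3 (h.V_le_qa h4 k3) k4 hw (mul_eq_of_cent k2 k3).symm)
  obtain ⟨y₀, h0, n1, n2⟩ := (h.sa x).third h1 h2 n
  have vz : v ∉ 𝐙 x := fun c => hv' (h.one h2 c)
  obtain ⟨u, hu, hu'⟩ := (h.par h0).exists_not_mem_Q
  have e := (h.sa x).swap h0 h1 h2 n1.symm n2.symm n hu hu'
  have hw := h.conj_mem_V e hv
  have wz : u * v * u⁻¹ ∉ 𝐙 x := fun c => vz ((conj_mem_Z_iff hu.1).1 c)
  have v0 : v ∉ 𝐐 y₀ := fun c => vz (s2 h1 h0 n1 hv c)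
  have vq := h.V_le_qa h1 hv
  have z1 := h.b2c hI h1 (h.qa h1 ((h.par h0).pq.sq_mem_Q hu)) hv
  have e1 : u * (u * v * u⁻¹) * u⁻¹ = ⁅u * u, v⁆ * v := by rw [commutatorElement_def]; group
  generalize ev : u * v * u⁻¹ = w at hw wz e1
  generalize ⁅u * u, v⁆ = z at z1 e1
  have wq := h.V_le_qa h2 hw
  have v2 := sq_of_abelem h.V_el hv
  have w2 := sq_of_abelem h.V_el hw
  have pq := (h.pq' h0).mul_mem_Q (h.qa h0 vq) v0 (h.qa h0 wq) fun c => wz (s2 h2 h0 n2 hw c)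
  have e2 : v * w * (v * w) = ⁅v, w⁆ := by
    rw [commutatorElement_def, inv_eq_of_sq v2, inv_eq_of_sq w2]; group
  have z2 : v * w * (v * w) ∈ 𝐙 x := e2 ▸ h.b2c hI h2 (h.qa h2 vq) hw
  have e3 : w * v * (w * v) = v * w * (v * w) := by
    rw [← ZN.inv_eq_of_abelem (h.za_el h0) z2, mul_inv_rev, mul_inv_rev, inv_eq_of_sq v2,
      inv_eq_of_sq w2]
  have z3 : v * w * (v * w) ∈ 𝐙 y₀ := h.mem_zb h0 z2 hu hu' (comm_of_conj_eq (by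
    rw [show u * (v * w * (v * w)) * u⁻¹ = u * v * u⁻¹ * (u * w * u⁻¹) * (u * v * u⁻¹ * (u * w * u⁻¹))
      by group, ev, e1, ← mul_assoc w, h.za_comm h0 wq z1, ← e3,
      show z * w * v * (z * w * v) = z * (w * v * z) * (w * v) by group,
      h.za_comm h0 (mul_mem wq vq) z1, ← mul_assoc z z, sq_of_abelem (h.za_el h0) z1, one_mul]))
  obtain ⟨r, hr, r3, hr', tr⟩ := (h.pq' h0).exists_y h.e6 (h.qa h0 vq) v0 v2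
  have := h.e6.l3 r3 (Pq.ne_one_of_not_mem hr') v2 tr (sq_of_abelem (h.za_el h0) z2)
    (h.zb_comm h0 hr z3).symm (by
      rw [← mul_assoc, v2, one_mul, mul_inv_rev, inv_eq_of_sq w2])
    (h.e6.pow4 (h.two h0) (mul_mem (h.qa h0 vq) (h.qb h0 (conj_mem_of_norm (Pq.le_norm_Q _ hr) pq))))
  exact wz (h.b3a hI h2 vq hv' hw (comm_eq_one.1 (e2 ▸ this)))

theorem V_comm (h : Am G E) (h1 : E x y₁) (h2 : E x y₂) (hv : v ∈ 𝐕 y₁) (hv' : v' ∈ 𝐕 y₂) :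
    v * v' = v' * v := by
  by_cases n : y₁ = y₂
  · exact comm_of_ab h.V_el hv (n ▸ hv')
  · exact comm_eq_one.1 (h.zb_inf h1 h2 n (comm_symm_mem (h.comm_V (h.three h2 h1 hv') hv))
      (h.comm_V (h.three h1 h2 hv) hv'))

theorem f1 (h : Am G E) (hI : Iv G E) (h0 : E x y₀) (h1 : E x y₁) (hu : u ∈ 𝐒 x ⊓ 𝐒 y₀)
    (hu' : u ∉ 𝐐 x) (hv : v ∈ 𝐕 y₁) : ⁅u * u, v⁆ ∈ 𝐙 y₀ := by
  have sq := (h.par h0).pq.sq_mem_Q hu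
  have z1 := h.b2c hI h1 (h.qa h1 sq) hv
  have h2 := (h.sa x).smul h1 hu.1
  have hw := h.conj_mem_V rfl hv (g := u)
  have vq := h.V_le_qa h1 hv
  have wq := h.V_le_qa h2 hw
  have p := h.e6.pow4 (h.two h0) (mul_mem hu (h.qa h0 vq))
  have e1 : u * u * v * (u * u)⁻¹ = ⁅u * u, v⁆ * v := by rw [commutatorElement_def]; group
  have e2 : u * u * (u * v * u⁻¹) * (u * u)⁻¹ = u * ⁅u * u, v⁆ * u⁻¹ * (u * v * u⁻¹) := by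
    rw [commutatorElement_def]; group
  have z2 := conj_za hu.1 z1
  refine h.mem_zb h0 z1 hu hu' (comm_of_conj_eq ?_)
  rw [show u * v * (u * v) * (u * v * (u * v)) = u * v * u⁻¹ * (u * u * v * (u * u)⁻¹) *
    (u * u * (u * v * u⁻¹) * (u * u)⁻¹) * (u * u * (u * u)) * v by group, h.e6.pow4 (h.two h0) hu,
    e1, e2] at p
  have c := h.V_comm h1 h2 hv hw
  have w2 := sq_of_abelem h.V_el hw
  generalize u * v * u⁻¹ = w at p c wq w2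
  generalize ⁅u * u, v⁆ = z at p z1 z2
  generalize u * z * u⁻¹ = z' at p z2
  rw [← mul_assoc w, h.za_comm h0 wq z1, show z * w * v * (z' * w) * 1 * v = z * (w * v * z') * (w * v)
    by group, h.za_comm h0 (mul_mem wq vq) z2, show z * (z' * (w * v)) * (w * v) =
      z * z' * (w * (v * w) * v) by group, c, ← mul_assoc w, w2, one_mul,
    sq_of_abelem h.V_el hv, mul_one] at p
  rw [eq_inv_of_mul_eq_one_right p, ZN.inv_eq_of_abelem (h.za_el h0) z1]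

theorem f2 (h : Am G E) (hI : Iv G E) (h0 : E x y₀) (h1 : E x y₁) (h2 : E x y₂) (n1 : y₀ ≠ y₁)
    (n2 : y₀ ≠ y₂) (n3 : y₁ ≠ y₂) (hq : q ∈ 𝐐 x) (hc : q ∈ 𝐂(𝐕 y₁)) (hv : v ∈ 𝐕 y₂) :
    ⁅q, v⁆ ∈ 𝐙 y₀ := by
  obtain ⟨u, hu, hu'⟩ := (h.par h0).exists_not_mem_Q
  have hw := h.conj_mem_V ((h.sa x).swap h0 h2 h1 n2 n1 n3.symm (inv_mem hu) (by simpa using hu')) hv
  have q0 := h.qa h0 hq
  have m : ∀ r ∈ 𝐒 x ⊓ 𝐒 y₀, r ∉ 𝐐 x → r * r ∈ ZN.cm (u⁻¹ * v * u⁻¹⁻¹) (𝐙 y₀) := fun r hr hr' =>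
    ⟨nz _ (mul_mem hr hr).2, comm_symm_mem (h.f1 hI h0 h1 hr hr' hw)⟩
  have m1 : q ∈ ZN.cm (u⁻¹ * v * u⁻¹⁻¹) (𝐙 y₀) :=
    ⟨nz _ q0.2, by rw [comm_eq_one.2 (mul_eq_of_cent hc hw).symm]; exact one_mem _⟩
  have m2 := (mul_mem (mul_mem (inv_mem (m u hu hu')) (m (u * q) (mul_mem hu q0)
    fun c => hu' ((mul_mem_cancel_right hq).1 c))) (inv_mem m1)).2
  refine comm_symm_mem ?_
  have := conj_mem_Z hu.2 m2
  rwa [conj_comm, show u * (u⁻¹ * v * u⁻¹⁻¹) * u⁻¹ = v by group,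
    show u * ((u * u)⁻¹ * (u * q * (u * q)) * q⁻¹) * u⁻¹ = q by group] at this

end Am

end Cfsg.Agent.OE
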