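import Cfsg.Agent.Lib.OE.Am2

/-!
# The central amalgam: the critical distance
-/

set_option autoImplicit false
set_option linter.unusedSectionVars false

namespace Cfsg.Agent.OE

open Subgroup Cfsg.Agent.OO Cfsg.Agent.Coprime
open scoped Pointwise commutatorElement

universe u

variable {G : Type u} [Group G] {X Y : Type u} [MulAction G X] [MulAction G Y]

local notation "𝐒" x:max => MulAction.stabilizer G x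
local notation "𝐐" x:max => Op 2 (MulAction.stabilizer G x)
local notation "𝐙" x:max => ZN.ZZ (MulAction.stabilizer G x)

/-- walks of length `2 n` -/
def Wk (E : X → Y → Prop) : ℕ → X → X → Prop
  | 0, x, x' => x = x'
  | n + 1, x, x' => ∃ y x₁, E x y ∧ E x₁ y ∧ Wk E n x₁ x'

variable {E : X → Y → Prop} {x x' x₀ x₁ x₂ : X} {y y' y₀ y₁ y₂ : Y} {a c e g k q t u v v' w : G}
  {n : ℕ}

theorem Wk.snoc (h : Wk E n x x₁) (h1 : E x₁ y) (h2 : E x' y) : Wk E (n + 1) x x' := by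
  induction n generalizing x with
  | zero => exact ⟨y, x', (show x = x₁ from h) ▸ h1, h2, rfl⟩
  | succ n ih => obtain ⟨y', x₂, a, b, c⟩ := h; exact ⟨y', x₂, a, b, ih c⟩

theorem Wk.symm (h : Wk E n x x') : Wk E n x' x := by
  induction n generalizing x with
  | zero => exact Eq.symm h
  | succ n ih => obtain ⟨y', x₂, a, b, c⟩ := h; exact (ih c).snoc b a

theorem Wk.unsnoc (h : Wk E (n + 1) x x') : ∃ x₁ y, Wk E n x x₁ ∧ E x₁ y ∧ E x' y :=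
  let ⟨y, x₁, a, b, c⟩ := h.symm; ⟨x₁, y, c.symm, b, a⟩

variable [Finite G]

namespace Am

local notation "𝐕" y:max => AV G E y

theorem wk_smul (h : Am G E) (g : G) (h0 : Wk E n x x') : Wk E n (g • x) (g • x') := by
  induction n generalizing x with
  | zero => exact congrArg (g • ·) h0
  | succ n ih => obtain ⟨y', x₂, a, b, c⟩ := h0; exact ⟨_, _, h.smul g a, h.smul g b, ih c⟩

theorem exists_V (h : Am G E) (h0 : E x y) (h1 : E x₁ y) (ne : x ≠ x₁) : ∃ e ∈ 𝐙 x₁, e ∉ 𝐙 x :=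
  let ⟨e, he, he'⟩ := h.exists_za h1; ⟨e, he, fun c => he' (h.za_inf h0 h1 ne c he)⟩

theorem f3 (h : Am G E) (hI : Iv G E) (h0 : E x y₀) (h1 : E x y₁) (h2 : E x y₂) (n1 : y₀ ≠ y₁)
    (n2 : y₀ ≠ y₂) (n3 : y₁ ≠ y₂) (hq : q ∈ 𝐐 x) (c1 : q ∈ 𝐂(𝐕 y₁)) (c2 : q ∈ 𝐂(𝐕 y₂)) :
    q ∈ 𝐐 y₀ := by
  by_contra hq'
  obtain ⟨x₁, h3, ne⟩ := (h.sb y₀).other h0
  obtain ⟨e, he, he'⟩ := h.exists_V h0 h3 ne
  have hv := le_V h3 he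
  exact he' (h.b3a hI h0 hq hq' hv (comm_eq_one.1 (h.zb_inf h1 h2 n3
    (h.f2 hI h1 h2 h0 n3 n1.symm n2.symm hq c2 hv) (h.f2 hI h2 h1 h0 n3.symm n2.symm n1.symm hq c1 hv))))

theorem cent_of (h : Am G E) (h0 : E x y₀) (hv : v ∈ 𝐙 x) (H : ∀ x', E x' y → 𝐙 x' ≤ 𝐐 x) :
    v ∈ 𝐂(𝐕 y) := le_cent_symm ((V_le H).trans (h.par h0).Q_le_cent) hv

theorem odd (h : Am G E) (he : ∀ x x', Wk E (n + 2) x x' → 𝐙 x ≤ 𝐐 x')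
    (ho : ∀ x x' y, Wk E (n + 1) x x' → E x' y → 𝐙 x ≤ 𝐐 y) {μ : X} (hw : Wk E (n + 2) x μ)
    (h2 : E μ y₂) : 𝐙 x ≤ 𝐐 y₂ := fun a ha => by
  by_contra ha'
  obtain ⟨κ, y₁, w1, k1, h1⟩ := hw.unsnoc
  have aq := he _ _ hw ha
  obtain ⟨f₁, x₂, e1, e2, f₃, x₄, e3, e4, w2⟩ := hw
  have hI := h.iv h2 aq ha' (sq_of_abelem (h.za_el e1) ha)
  have n3 : y₁ ≠ y₂ := fun e => ha' (ho _ _ _ w1 (e ▸ k1) ha)
  obtain ⟨y₀, h0, n1, n2⟩ := (h.sa μ).third h1 h2 n3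
  have c1 : a ∈ 𝐂(𝐕 y₁) := h.cent_of e1 ha fun δ hδ => he _ _ (w1.snoc k1 hδ).symm
  have m3 : f₁ ≠ f₃ := fun e => ha' (ho _ _ _ ⟨f₁, x₄, e1, e ▸ e4, w2⟩ h2 ha)
  obtain ⟨f₀, e0, m1, m2⟩ := (h.sa x₂).third e2 e3 m3
  have key : ∀ {y v}, E μ y → v ∈ 𝐕 y → ⁅a, v⁆ ∈ 𝐙 f₀ := fun {y v} hy hv =>
    comm_symm_mem (h.f2 hI e0 e3 e2 m2.symm m1.symm m3.symm
      (V_le (fun δ hδ => he _ _ ⟨y, μ, hδ, hy, Wk.symm ⟨f₃, x₄, e3, e4, w2⟩⟩) hv)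
      (V_le (fun δ hδ _ hb => h.cent_of hδ hb fun δ' hδ' =>
        he _ _ (Wk.symm ⟨y, μ, hδ, hy, Wk.symm ⟨f₃, x₄, hδ', e4, w2⟩⟩)) hv) (le_V e1 ha))
  obtain ⟨η, h3, ne⟩ := (h.sb y₂).other h2
  obtain ⟨y₃, h4, ne'⟩ := (h.sa η).other h3
  have h5 : ♯(𝐙 y₃) ≤ ♯(𝐙 f₀ ⊓ 𝐙 y₀) := by
    refine Nat.card_le_card_of_injective (fun e => ⟨⁅a, e.1⁆, key h2 (le_V h3 (h.zb_le h4 e.2)),
      h.f2 hI h0 h1 h2 n1.symm n2.symm n3 aq c1 (le_V h3 (h.zb_le h4 e.2))⟩) fun e e' hee => ?_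
    have h6 : ⁅a, e.1⁆ = ⁅a, e'.1⁆ := congrArg Subtype.val hee
    have h7 := mul_mem (inv_mem e'.2) e.2
    refine Subtype.ext (inv_mul_eq_one.1 (h.zb_inf h3 h4 ne' (h.za_inf h2 h3 ne (h.b3a hI h2 aq ha'
      (le_V h3 (h.zb_le h4 h7)) (comm_of_conj_eq ?_)) (h.zb_le h4 h7)) h7)).symm
    calc a * (e'.1⁻¹ * e.1) * a⁻¹ = e'.1⁻¹ * ⁅a, e'.1⁆⁻¹ * ⁅a, e.1⁆ * e.1 := by
          simp only [commutatorElement_def]; group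
      _ = _ := by rw [h6]; group
  obtain ⟨g, -, eg⟩ := h.tr h4 e0
  have h6 : 𝐙 f₀ ⊓ 𝐙 y₀ = 𝐙 f₀ :=
    eq_of_le_of_card_le inf_le_left (by rwa [← eg, Z_smul, card_conj, ← Z_smul, eg])
  exact ha' (h.f3 hI h2 h1 h0 n3.symm n2 n1 aq c1 (mem_cent_iff.2 fun v hv => (comm_eq_one.1
    (h.zb_inf h2 h0 n2 (h.f2 hI h2 h1 h0 n3.symm n2 n1 aq c1 hv) (h6.ge (key h0 hv)).2)).symm))

theorem crit_symm (h : Am G E) (h0 : E x y) (h1 : E x' y') (k : 𝐙 x ≤ 𝐐 y') (hc : ¬ 𝐙 x ≤ 𝐐 x') :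
    ¬ 𝐙 x' ≤ 𝐐 x := fun e => hc ((h.par h1).le_Q_of_cent (k.trans ((h.qb h1).trans inf_le_left))
      (le_cent_symm (e.trans (h.par h0).Q_le_cent)))

theorem e1 (h : Am G E) (h0 : E x y) (h1 : E x' y') (k : 𝐙 x ≤ 𝐐 y') (k' : 𝐙 x' ≤ 𝐐 y)
    (hc : ¬ 𝐙 x ≤ 𝐐 x') : 𝐙 y' ≤ 𝐙 y := fun e he => by
  obtain ⟨a, ha, ha'⟩ := SetLike.not_le_iff_exists.1 hc
  obtain ⟨b, hb, rfl⟩ := h.zb_surj h1 he (h.qb h1 (k ha)) ha'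
  exact comm_symm_mem (h.comm_zb h0 ha (h.qb h0 (k' hb)))

theorem e1' (h : Am G E) (h0 : E x y) (h1 : E x' y') (k : 𝐙 x ≤ 𝐐 y') (k' : 𝐙 x' ≤ 𝐐 y)
    (hc : ¬ 𝐙 x ≤ 𝐐 x') (h2 : E x₁ y₁) (ha : a ∈ 𝐙 x₁) (ha' : a ∉ 𝐙 y₁) (he : e ∈ 𝐙 x₁)
    (he' : e ∉ 𝐙 y₁) : a * e ∈ 𝐙 y₁ := by
  obtain ⟨b, hb, hb'⟩ := SetLike.not_le_iff_exists.1 (h.crit_symm h0 h1 k hc)
  have H : ∀ c ∈ 𝐙 x, c ∈ 𝐐 x' → c ∈ 𝐙 y := fun c hc hc' =>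
    h.mem_zb h0 hc (h.qb h0 (k' hb)) hb' (h.za_comm h1 hc' hb).symm
  obtain ⟨g, g1, g2⟩ := h.tr h2 h0
  have a1 := conj_mem_Z g1 ha
  have a2 := conj_mem_Z g1 he
  rw [← conj_mem_Z_iff g2] at ha' he' ⊢
  rw [show g * (a * e) * g⁻¹ = g * a * g⁻¹ * (g * e * g⁻¹) by group]
  exact H _ (mul_mem a1 a2) ((h.par h1).pq.mul_mem_Q (h.qb h1 (k a1)) (fun c => ha' (H _ a1 c))
    (h.qb h1 (k a2)) fun c => he' (H _ a2 c))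

theorem even (h : Am G E) (he : ∀ x x', Wk E (n + 1) x x' → 𝐙 x ≤ 𝐐 x')
    (ho : ∀ x x' y, Wk E (n + 1) x x' → E x' y → 𝐙 x ≤ 𝐐 y) (hw : Wk E (n + 2) x x') :
    𝐙 x ≤ 𝐐 x' := by
  by_contra hc
  obtain ⟨y₀, x₂, h0, e2, w0⟩ := hw
  obtain ⟨ν, μ₀, w1, k0, k'⟩ := w0.unsnoc
  have w2 : Wk E (n + 1) x ν := ⟨y₀, x₂, h0, e2, w1⟩
  obtain ⟨κ, μ₁, w3, k3, k1⟩ := w2.unsnoc
  have z1 := ho _ _ _ w2 k0
  have z2 := ho _ _ _ w0.symm e2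
  have hc' := h.crit_symm h0 k' z1 hc
  have z3 := h.e1 h0 k' z1 z2 hc
  have n1 : ν ≠ κ := fun e => hc (he _ _ (w3.snoc (e ▸ k0) k'))
  have m1 : μ₀ ≠ μ₁ := fun e => hc (he _ _ (w3.snoc (e ▸ k3) k'))
  have n2 : x ≠ x₂ := fun e => hc (he _ _ (e ▸ w0))
  obtain ⟨y₁, h1, n3⟩ := (h.sa x).other h0
  obtain ⟨y₂, h2, n4, n5⟩ := (h.sa x).third h0 h1 n3
  have E2 : 𝐕 y₁ ≤ 𝐐 ν := V_le fun δ hδ => by
    by_contra c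
    have a1 := ho _ _ _ ⟨y₁, x, hδ, h1, w3⟩ k3
    have a2 := ho _ _ _ w2.symm h1
    exact hc ((h.za_le_sup h0 h1 n3).trans ((sup_le ((h.e1 k' h0 z2 z1 hc').trans (h.zb_le k0))
      ((h.e1 k1 hδ a2 a1 (h.crit_symm hδ k1 a1 c)).trans (h.zb_le k1))).trans (h.two' k0 k')))
  have fin : ∀ g ∈ 𝐐 y₀, g ∉ 𝐐 x → g ∉ 𝐍(𝐕 y₁) := fun g hg hg' c => h.not_norm_V h1
    ((h.sa x).gen h1 h0 n3.symm (inf_le_right.trans (h.le_norm_V y₁)) (h.qb h0 hg) hg' c)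
  have zv : ∀ {g v : G}, v ∈ 𝐕 y₁ → ⁅g, v⁆ ∈ 𝐙 μ₀ → g * v * g⁻¹ ∈ 𝐕 y₁ := fun {g v} hv c => by
    rw [show g * v * g⁻¹ = ⁅g, v⁆ * v by simp [commutatorElement_def]]
    exact mul_mem (le_V h1 (h.zb_le h0 (z3 c))) hv
  have E3 : ¬ 𝐕 y₁ ≤ 𝐐 μ₀ := fun c => by
    obtain ⟨b, hb, hb'⟩ := SetLike.not_le_iff_exists.1 hc'
    exact fin b (z2 hb) hb' (mem_norm_of_conj_mem fun v hv =>
      zv hv (comm_symm_mem (h.comm_zb k' hb (h.qb k' (c hv)))))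
  obtain ⟨δ, hδ, v, hv, hv'⟩ : ∃ δ, E δ y₁ ∧ ∃ v ∈ 𝐙 δ, v ∉ 𝐐 μ₀ := by
    by_contra! c; exact E3 (V_le c)
  have vV := le_V hδ hv
  have vq := E2 vV
  have hI := h.iv k0 vq hv' (sq_of_abelem h.V_el vV)
  obtain ⟨e, e3, e4⟩ := h.exists_V k1 k3 n1
  have c1 := h.b3b hI k1 vq (le_V k3 e3) e4 (h.za_comm k3 (he _ _ ⟨y₁, x, hδ, h1, w3⟩ hv) e3)
  obtain ⟨μ₂, k2, m2, m3⟩ := (h.sa ν).third k0 k1 m1
  obtain ⟨ε, hε, v', r1, r2⟩ : ∃ ε, E ε μ₂ ∧ ∃ v' ∈ 𝐙 ε, v' ∉ 𝐂[v] := by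
    by_contra! c
    exact hv' (h.f3 hI k0 k1 k2 m1 m2 m3 vq c1 (le_cent1_iff.1 (V_le c)))
  have r3 := comm_symm_mem (h.f2 hI k0 k1 k2 m1 m2 m3 vq c1 (le_V hε r1))
  have w4 : Wk E (n + 1) ε x₂ := ⟨μ₂, ν, hε, k2, w1.symm⟩
  by_cases r4 : v' ∈ 𝐐 x
  · obtain ⟨e', e5, e6⟩ := h.exists_V h0 e2 n2
    exact r2 (mem_cent1.2 (comm_eq_one.1 (h.zb_inf h0 h2 n4 (z3 r3) (h.f2 hI h2 h0 h1 n4.symm n5.symm
      n3 r4 (h.b3b hI h0 r4 (le_V e2 e5) e6 (h.za_comm e2 (he _ _ w4 r1) e5)) vV))))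
  have r5 := ho _ _ _ w4 e2 r1
  have vz : v ∉ 𝐙 x := fun c => hv' (z1 c)
  have s1 : ∀ e ∈ 𝐙 x, v' * e * v'⁻¹ ∈ 𝐕 y₁ := fun e he => le_V h1 (conj_za (h.qb h0 r5).1 he)
  refine fin v' r5 r4 (mem_norm_of_conj_le ((conj_mono _ (h.b2a hI h1 hδ fun e => vz (e ▸ hv))).trans ?_))
  rw [conj_sup]
  refine sup_le (conj_le_iff.2 s1) (conj_le_iff.2 fun e he => ?_)
  by_cases c : e ∈ 𝐙 y₁
  · exact s1 e (h.zb_le h1 c)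
  rw [show v' * e * v'⁻¹ = v' * (e * v) * v'⁻¹ * (v' * v * v'⁻¹)⁻¹ by group]
  exact mul_mem (s1 _ (h.zb_le h1 (h.e1' h0 k' z1 z2 hc hδ he c hv fun c => vz (h.zb_le h1 c))))
    (inv_mem (zv vV r3))

theorem all (h : Am G E) (n : ℕ) : (∀ x x', Wk E (n + 1) x x' → 𝐙 x ≤ 𝐐 x') ∧
    ∀ x x' y, Wk E (n + 1) x x' → E x' y → 𝐙 x ≤ 𝐐 y := by
  induction n with
  | zero =>
    refine ⟨fun x x' ⟨y, x₁, a, b, c⟩ => h.two' a (c ▸ b), fun x x' y ⟨y', x₁, a, b, c⟩ d => ?_⟩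
    exact (le_V a).trans (h.three (c ▸ b) d)
  | succ n ih =>
    have := fun x x' => h.even (x := x) (x' := x') ih.1 ih.2
    exact ⟨this, fun _ _ _ a b => h.odd this ih.2 a b⟩

theorem not_edge (h : Am G E) : ¬ E x y := fun h0 => by
  let N : Subgroup G := ⨆ x', ⨆ _ : ∃ n, Wk E (n + 1) x x', 𝐙 x'
  have le : ∀ {x' n}, Wk E (n + 1) x x' → 𝐙 x' ≤ N := fun {x' n} hw =>
    le_iSup₂_of_le (f := fun x' (_ : ∃ n, Wk E (n + 1) x x') => 𝐙 x') x' ⟨n, hw⟩ le_rfl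
  have nm : ∀ g ∈ 𝐒 x ⊔ 𝐒 y, E (g • x) y → g ∈ 𝐍(N) := fun g _ hg => mem_norm_of_conj_le
    (conj_le_iff_le_inv_conj.2 (iSup₂_le fun x' ⟨n, hw⟩ => conj_le_iff_le_inv_conj.1
      (Z_smul g x' ▸ le ⟨y, _, h0, hg, h.wk_smul g hw⟩)))
  exact (h.par h0).Z_ne_bot (le_bot_iff.1 ((le (n := 0) ⟨y, x, h0, h0, rfl⟩).trans (h.triv h0 N
    (iSup₂_le fun x' ⟨n, hw⟩ => ((h.all n).1 _ _ hw.symm).trans (h.qa h0))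
    (fun g hg => nm g (mem_sup_left hg) ((show g • x = x from hg).symm ▸ h0))
    fun g hg => nm g (mem_sup_right hg) ((h.sb y).smul h0 hg)).le))

end Am

theorem am : AM.{u} := fun G _ _ A B hE hA hB hc ht => by
  let E : G ⧸ A → G ⧸ B → Prop := fun x y => ∃ g : G, x = g • ((1 : G) : G ⧸ A) ∧ y = g • ((1 : G) : G ⧸ B)
  have sA : ∀ g : G, MulAction.stabilizer G (g • ((1 : G) : G ⧸ A)) = g •ᶜ A := fun g => by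
    rw [st_smul, MulAction.stabilizer_quotient]
  have sB : ∀ g : G, MulAction.stabilizer G (g • ((1 : G) : G ⧸ B)) = g •ᶜ B := fun g => by
    rw [st_smul, MulAction.stabilizer_quotient]
  refine Am.not_edge (G := G) (E := E) ⟨hE, ?_, ?_, ?_, ?_, ?_, ?_⟩ ⟨1, rfl, rfl⟩
  · rintro _ _ g ⟨k, rfl, rfl⟩; exact ⟨g * k, (mul_smul _ _ _).symm, (mul_smul _ _ _).symm⟩
  · rintro _ _ _ _ ⟨k, rfl, rfl⟩ ⟨k', rfl, rfl⟩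
    exact ⟨k' * k⁻¹, by rw [← mul_smul, inv_mul_cancel_right], by rw [← mul_smul, inv_mul_cancel_right]⟩
  · rintro _ _ ⟨k, rfl, rfl⟩; rw [sA, sB, ← conj_inf]; exact hA.conj k
  · rintro _ _ ⟨k, rfl, rfl⟩; rw [sA, sB, ← conj_inf, inf_comm]; exact hB.conj k
  · rintro _ _ ⟨k, rfl, rfl⟩; rw [sA, sB, ← conj_inf, Zc_conj, Ohm_conj, conj_le_cent_conj]; exact hc
  · rintro _ _ ⟨k, rfl, rfl⟩ N h1 h2 h3
    rw [sA, sB, ← conj_inf, le_conj_iff_inv_conj_le] at h1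
    rw [sA, ← conj_inv_conj k N, conj_le_norm_conj] at h2
    rw [sB, ← conj_inv_conj k N, conj_le_norm_conj] at h3
    exact conj_eq_bot_iff.1 (ht _ h1 h2 h3)

end Cfsg.Agent.OE
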