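import Cfsg.Agent.Lib.OE.Hyp
import Cfsg.Agent.Lib.Char.Burnside

/-!
# Groups whose element orders are at most six: basic tools for plan OE
-/

set_option autoImplicit false
set_option linter.unusedSectionVars false

namespace Cfsg.Agent.OE

open Subgroup Cfsg.Agent.OO Cfsg.Agent.Coprime GW GW2
open scoped Pointwise

universe u

variable {G : Type u} [Group G] {A B K L N P Q R T T' X Y : Subgroup G}
  {a b c g h p q s t u v w x y z : G}

theorem E6.of_injective {H : Type*} [Group H] (h : E6 G) (f : H →* G) (hf : Function.Injective f)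
    (x : H) : orderOf x ≤ 6 := by
  rw [← orderOf_injective f hf]; exact h _

theorem E6.sub (h : E6 G) (L : Subgroup G) : E6 L := h.of_injective L.subtype L.subtype_injective

theorem E6.equiv {H : Type u} [Group H] (h : E6 G) (e : G ≃* H) : E6 H :=
  h.of_injective e.symm.toMonoidHom e.symm.injective

theorem mul_eq_of_cent (h : a ∈ 𝐂(X)) (hx : x ∈ X) : a * x = x * a := (mem_cent_iff.1 h x hx).symm

theorem conj_eq_of_comm (h : a * b = b * a) : a * b * a⁻¹ = b := by rw [h]; group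

theorem comm_of_conj_eq (h : a * b * a⁻¹ = b) : a * b = b * a := by
  conv_rhs => rw [← h]
  group

theorem inv_eq_of_sq (h : a * a = 1) : a⁻¹ = a := inv_eq_of_mul_eq_one_right h

theorem cube (h : y ^ 3 = 1) : y * y * y = 1 := by rw [← h, pow_succ, sq]

theorem inv_eq_of_cube (h : y ^ 3 = 1) : y⁻¹ = y * y :=
  inv_eq_of_mul_eq_one_right (by rw [← mul_assoc, cube h])

theorem orderOf_three (h : y ^ 3 = 1) (h1 : y ≠ 1) : orderOf y = 3 :=
  haveI := Fact.mk Nat.prime_three; orderOf_eq_prime h h1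

theorem conj_cube (h : y ^ 3 = 1) (g : G) : (g * y * g⁻¹) ^ 3 = 1 := by
  rw [conj_pow, h]; group

theorem conj_ne_one (h : y ≠ 1) (g : G) : g * y * g⁻¹ ≠ 1 := fun e => h (by
  rw [show y = g⁻¹ * (g * y * g⁻¹) * g by group, e]; group)

theorem conj_sq (h : a * a = 1) (g : G) : g * a * g⁻¹ * (g * a * g⁻¹) = 1 := by
  rw [show g * a * g⁻¹ * (g * a * g⁻¹) = g * (a * a) * g⁻¹ by group, h]; group

variable [Finite G]

theorem E6.of_surjective {H : Type*} [Group H] (h : E6 G) (f : G →* H) (hf : Function.Surjective f)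
    (x : H) : orderOf x ≤ 6 := by
  obtain ⟨x, rfl⟩ := hf x
  exact (Nat.le_of_dvd (orderOf_pos x) (orderOf_map_dvd f x)).trans (h x)

theorem E6.quot (h : E6 G) (N : Subgroup G) [N.Normal] : E6 (G ⧸ N) :=
  h.of_surjective (QuotientGroup.mk' N) (QuotientGroup.mk'_surjective N)

theorem E6.coset (h : E6 G) (N : Subgroup G) : E6 (Coset N) := (h.sub 𝐍(N)).quot _

theorem E6.cases (h : E6 G) (g : G) : orderOf g = 1 ∨ orderOf g = 2 ∨ orderOf g = 3 ∨
    orderOf g = 4 ∨ orderOf g = 5 ∨ orderOf g = 6 := by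
  have := h g; have := orderOf_pos g; omega

theorem E6.pow60 (h : E6 G) (g : G) : g ^ 60 = 1 := by
  rw [← orderOf_dvd_iff_pow_eq_one]
  rcases h.cases g with e | e | e | e | e | e <;> rw [e] <;> norm_num

omit [Finite G] in
theorem exists_orderOf_eq_pow {r : ℕ} [Fact r.Prime] (hT : IsPGroup r T) (hx : x ∈ T) :
    ∃ k, orderOf x = r ^ k := by
  obtain ⟨k, hk⟩ := IsPGroup.iff_orderOf.1 hT ⟨x, hx⟩
  exact ⟨k, by rw [← hk, orderOf_mk]⟩

theorem E6.pow4' (h : E6 G) (hT : IsPGroup 2 T) (hx : x ∈ T) : x ^ 4 = 1 := by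
  obtain ⟨k, hk⟩ := exists_orderOf_eq_pow hT hx
  have h1 := h x
  rw [hk] at h1
  have : k ≤ 2 := by
    by_contra hc
    have := Nat.pow_le_pow_right (show 0 < 2 by norm_num) (show 3 ≤ k by omega); omega
  rw [← orderOf_dvd_iff_pow_eq_one, hk]
  exact Nat.pow_dvd_pow 2 this

theorem E6.pow4 (h : E6 G) (hT : IsPGroup 2 T) (hx : x ∈ T) : x * x * (x * x) = 1 := by
  rw [← h.pow4' hT hx]; simp only [pow_succ, pow_zero, one_mul, mul_assoc]

theorem E6.pow3 (h : E6 G) (hT : IsPGroup 3 T) (hx : x ∈ T) : x ^ 3 = 1 := by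
  have := Fact.mk Nat.prime_three
  obtain ⟨k, hk⟩ := exists_orderOf_eq_pow hT hx
  have h1 := h x
  rw [hk] at h1
  have : k ≤ 1 := by
    by_contra hc
    have := Nat.pow_le_pow_right (show 0 < 3 by norm_num) (show 2 ≤ k by omega); omega
  rw [← orderOf_dvd_iff_pow_eq_one, hk]
  exact (Nat.pow_dvd_pow 3 this).trans (by norm_num)

theorem E6.pow5 (h : E6 G) (hT : IsPGroup 5 T) (hx : x ∈ T) : x ^ 5 = 1 := by
  have := Fact.mk Nat.prime_five
  obtain ⟨k, hk⟩ := exists_orderOf_eq_pow hT hx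
  have h1 := h x
  rw [hk] at h1
  have : k ≤ 1 := by
    by_contra hc
    have := Nat.pow_le_pow_right (show 0 < 5 by norm_num) (show 2 ≤ k by omega); omega
  rw [← orderOf_dvd_iff_pow_eq_one, hk]
  exact (Nat.pow_dvd_pow 5 this).trans (by norm_num)

/-- elements of odd order -/
theorem E6.odd_cases (h : E6 G) (ho : Odd (orderOf y)) : y ^ 3 = 1 ∨ orderOf y = 5 := by
  rw [← orderOf_dvd_iff_pow_eq_one]
  rcases h.cases y with e | e | e | e | e | e <;> rw [e] at ho ⊢ <;> simp_all (config := {decide := true})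

theorem E6.prime (h : E6 G) {r : ℕ} (hr : r.Prime) (hd : r ∣ ♯L) : r = 2 ∨ r = 3 ∨ r = 5 := by
  have := Fact.mk hr
  obtain ⟨x, hx⟩ := exists_prime_orderOf_dvd_card' r hd
  have h1 := (h.sub L) x
  rw [hx] at h1
  have := hr.two_le
  interval_cases r <;> simp_all (config := {decide := true})

theorem E6.sol (h : E6 G) (h5 : ¬ 5 ∣ ♯L) : Sol L :=
  Char.solvable_of_two_primes Nat.prime_two Nat.prime_three fun r hr hd => by
    rcases h.prime hr hd with e | e | e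
    exacts [.inl e, .inr e, absurd (e ▸ hd) h5]

theorem E6.mul_le (h : E6 G) (hc : a * b = b * a) (ho : (orderOf a).Coprime (orderOf b)) :
    orderOf a * orderOf b ≤ 6 :=
  Commute.orderOf_mul_eq_mul_orderOf_of_coprime hc ho ▸ h _

/-- no elements of order 12 -/
theorem E6.no12 (h : E6 G) (y3 : y ^ 3 = 1) (y1 : y ≠ 1) (hc : w * y = y * w)
    (w4 : w * w * (w * w) = 1) : w * w = 1 := by
  by_contra w2
  have h4 : orderOf w = 2 ^ (1 + 1) := orderOf_eq_prime_pow (by simpa [sq] using w2)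
    (by rw [← w4, show 2 ^ (1 + 1) = 4 by rfl]; simp only [pow_succ, pow_zero, one_mul, mul_assoc])
  have := h.mul_le hc (by rw [h4, orderOf_three y3 y1]; norm_num)
  rw [h4, orderOf_three y3 y1] at this; omega

theorem E6.sq_of_cent (h : E6 G) (hT : IsPGroup 2 T) (y3 : y ^ 3 = 1) (y1 : y ≠ 1) (hw : w ∈ T)
    (hc : w ∈ 𝐂[y]) : w * w = 1 := h.no12 y3 y1 (mem_cent1.1 hc) (h.pow4 hT hw)

/-- an element of order five commutes only with 5-elements -/
theorem E6.no5 (h : E6 G) (x5 : orderOf x = 5) (hc : w * x = x * w) : w ^ 5 = 1 := by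
  have h1 : ∀ v : G, v * x = x * v → (orderOf v).Coprime 5 → v = 1 := fun v hv ho => by
    have := h.mul_le hv (x5 ▸ ho)
    rw [x5] at this
    exact orderOf_eq_one_iff.1 (by have := orderOf_pos v; omega)
  refine h1 _ ((Commute.pow_left hc 5).eq) ?_
  rw [orderOf_pow' _ (by norm_num)]
  rcases h.cases w with e | e | e | e | e | e <;> rw [e] <;> norm_num

theorem E6.no10 (h : E6 G) (x5 : orderOf x = 5) (hc : w * x = x * w) (hT : IsPGroup 2 T)
    (hw : w ∈ T) : w = 1 := by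
  have h1 := h.no5 x5 hc
  rwa [pow_succ, h.pow4' hT hw, one_mul] at h1

theorem E6.no15 (h : E6 G) (x5 : orderOf x = 5) (hc : w * x = x * w) (w3 : w ^ 3 = 1) : w = 1 := by
  have h1 := h.no5 x5 hc
  have : w ^ 6 = 1 := by rw [show 6 = 3 * 2 by rfl, pow_mul, w3, one_pow]
  rwa [pow_succ, h1, one_mul] at this

/-- Lemma L0 -/
theorem E6.l0 (h : E6 G) (y3 : y ^ 3 = 1) (y1 : y ≠ 1) (a2 : a * a = 1)
    (e : a * (y * a * y⁻¹) = c * (y * a * y⁻¹) * a) (ca : c * a = a * c) (cy : c * y = y * c) :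
    c = 1 := by
  obtain ⟨a1, h1⟩ : ∃ a1, a1 = y * a * y⁻¹ := ⟨_, rfl⟩
  obtain ⟨a2', h2⟩ : ∃ a2', a2' = y * a1 * y⁻¹ := ⟨_, rfl⟩
  have h0 : y * a2' * y⁻¹ = a := by
    rw [h2, h1, show y * (y * (y * a * y⁻¹) * y⁻¹) * y⁻¹ = (y * y * y) * a * (y * y * y)⁻¹ by group,
      cube y3]; group
  have yc : y * c * y⁻¹ = c := conj_eq_of_comm cy.symm
  rw [← h1] at e
  have cj : ∀ {u v : G}, u * v = c * v * u →
      y * u * y⁻¹ * (y * v * y⁻¹) = c * (y * v * y⁻¹) * (y * u * y⁻¹) := fun {u v} e => by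
    conv_rhs => rw [← yc]
    rw [show y * u * y⁻¹ * (y * v * y⁻¹) = y * (u * v) * y⁻¹ by group, e]; group
  have cj' : ∀ {u : G}, c * u = u * c → c * (y * u * y⁻¹) = y * u * y⁻¹ * c := fun {u} e => by
    conv_lhs => rw [← yc]
    conv_rhs => rw [← yc]
    rw [show y * c * y⁻¹ * (y * u * y⁻¹) = y * (c * u) * y⁻¹ by group, e]; group
  have e1 : a1 * a2' = c * a2' * a1 := by have := cj e; rwa [← h1, ← h2] at this
  have e2 : a2' * a = c * a * a2' := by have := cj e1; rwa [← h2, h0] at this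
  have c1 : c * a1 = a1 * c := h1 ▸ cj' ca
  have c2 : c * a2' = a2' * c := h2 ▸ cj' c1
  have s1 : a1 * a1 = 1 := h1 ▸ conj_sq a2 y
  have s2 : a2' * a2' = 1 := h2 ▸ conj_sq s1 y
  have cc : c * c = 1 := by
    have : a * (a * a1) = c * c * a1 * (a * a) := by
      calc a * (a * a1) = c * (a * a1) * a := by rw [e, ← mul_assoc, ← mul_assoc, ← ca, ← e]; group
        _ = c * c * a1 * (a * a) := by rw [e]; group
    rw [← mul_assoc, a2, one_mul, mul_one] at this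
    exact mul_eq_right.1 this.symm
  have k0 : a1 * a = c * a * a1 := by
    rw [mul_assoc, e, ← mul_assoc, ← mul_assoc, cc, one_mul]
  have hw : a1 * a2' * a = a * a1 * a2' := by
    rw [mul_assoc, e2, ← mul_assoc, ← mul_assoc, ← c1, mul_assoc c, k0, ← mul_assoc, ← mul_assoc, cc,
      one_mul]
  have ww : a * a1 * a2' * (a * a1 * a2') = c := by
    nth_rewrite 2 [← hw]
    rw [show a * a1 * a2' * (a1 * a2' * a) = a * (a1 * a2') * (a1 * a2') * a by group]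
    nth_rewrite 1 [e1]
    rw [show a * (c * a2' * a1) * (a1 * a2') * a = a * c * a2' * (a1 * a1) * a2' * a by group, s1,
      mul_one, mul_assoc _ a2' a2', s2, mul_one, ← ca, mul_assoc, a2, mul_one]
  rw [← ww]
  refine h.no12 y3 y1 (comm_of_conj_eq ?_).symm (by rw [ww, cc])
  rw [show y * (a * a1 * a2') * y⁻¹ = y * a * y⁻¹ * (y * a1 * y⁻¹) * (y * a2' * y⁻¹) by group, ← h1,
    ← h2, h0, hw]

/-- Lemma L3 -/
theorem E6.l3 (h : E6 G) (y3 : y ^ 3 = 1) (y1 : y ≠ 1) (t2 : t * t = 1) (ty : t * y * t⁻¹ = y⁻¹)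
    (p4 : p * p * (p * p) = 1) (py : p * p * y = y * (p * p)) (tp : t * p * t⁻¹ = p⁻¹)
    (e : t * (y * p * y⁻¹) * (t * (y * p * y⁻¹)) * (t * (y * p * y⁻¹) * (t * (y * p * y⁻¹))) = 1) :
    p * p = 1 := by
  obtain ⟨z, hz⟩ : ∃ z, z = p * p := ⟨_, rfl⟩
  obtain ⟨p1, h1⟩ : ∃ p1, p1 = y * p * y⁻¹ := ⟨_, rfl⟩
  obtain ⟨p2, h2⟩ : ∃ p2, p2 = y * p1 * y⁻¹ := ⟨_, rfl⟩
  have h0 : y * p2 * y⁻¹ = p := by
    rw [h2, h1, show y * (y * (y * p * y⁻¹) * y⁻¹) * y⁻¹ = (y * y * y) * p * (y * y * y)⁻¹ by group,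
      cube y3]; group
  rw [← hz] at p4 py
  rw [← h1] at e
  have yz : y * z * y⁻¹ = z := conj_eq_of_comm py.symm
  have sq' : ∀ {u : G}, u * u = z → y * u * y⁻¹ * (y * u * y⁻¹) = z := fun {u} e => by
    rw [show y * u * y⁻¹ * (y * u * y⁻¹) = y * (u * u) * y⁻¹ by group, e, yz]
  have s1 : p1 * p1 = z := h1 ▸ sq' hz.symm
  have s2 : p2 * p2 = z := h2 ▸ sq' s1
  have t1 : t * p1 * t = p2⁻¹ := by
    nth_rewrite 2 [← inv_eq_of_sq t2]
    rw [h2, h1, show t * (y * p * y⁻¹) * t⁻¹ = t * y * t⁻¹ * (t * p * t⁻¹) * (t * y * t⁻¹)⁻¹ by group,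
      ty, tp, show (y * (y * p * y⁻¹) * y⁻¹)⁻¹ = y * y * p⁻¹ * (y * y)⁻¹ by
        simp only [mul_inv_rev, inv_inv, mul_assoc], ← inv_eq_of_cube y3]
  have k : p1 * p2 = p2 * p1 := by
    rw [show t * p1 * (t * p1) = t * p1 * t * p1 by group, t1] at e
    have e1 : p2⁻¹ * p1 = p1⁻¹ * p2 := by rw [eq_inv_of_mul_eq_one_left e]; group
    have i1 : p1⁻¹ = z * p1 := inv_eq_of_mul_eq_one_left (by rw [mul_assoc, s1, p4])
    have i2 : p2⁻¹ = z * p2 := inv_eq_of_mul_eq_one_left (by rw [mul_assoc, s2, p4])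
    rw [i1, i2, mul_assoc, mul_assoc] at e1
    exact (mul_left_cancel e1).symm
  have cj : ∀ {u v : G}, u * v = v * u →
      y * u * y⁻¹ * (y * v * y⁻¹) = y * v * y⁻¹ * (y * u * y⁻¹) := fun {u v} e => by
    rw [show y * u * y⁻¹ * (y * v * y⁻¹) = y * (u * v) * y⁻¹ by group, e]; group
  have k1 : p2 * p = p * p2 := by have := cj k; rwa [← h2, h0] at this
  have k2 : p * p1 = p1 * p := by have := cj k1; rwa [← h1, h0] at this
  have ww : p * p1 * p2 * (p * p1 * p2) = z := by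
    calc p * p1 * p2 * (p * p1 * p2) = p * p1 * (p2 * p) * p1 * p2 := by group
      _ = p * (p1 * p) * (p2 * p1) * p2 := by rw [k1]; group
      _ = p * p * (p1 * p1) * (p2 * p2) := by rw [← k2, ← k]; group
      _ = z := by rw [← hz, s1, s2, p4, one_mul]
  rw [← hz, ← ww]
  refine h.no12 y3 y1 (comm_of_conj_eq ?_).symm (by rw [ww, p4])
  rw [show y * (p * p1 * p2) * y⁻¹ = y * p * y⁻¹ * (y * p1 * y⁻¹) * (y * p2 * y⁻¹) by group, ← h1,
    ← h2, h0, mul_assoc, k1, ← mul_assoc, ← k2]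

namespace Pq

omit [Finite G] in
theorem _root_.Cfsg.Agent.ZN.Par.pq (h : ZN.Par T P) : Pq T P := ⟨h.syl, h.idx, h.idx2, h.char⟩

omit [Finite G] in
theorem par (h : Pq T P) (hc : ¬ P ≤ 𝐂(Ohm 2 (Zc T))) : ZN.Par T P :=
  ⟨h.syl, h.idx, h.idx2, h.char, hc⟩

omit [Finite G] in
theorem conj (h : Pq T P) (g : G) : Pq (g •ᶜ T) (g •ᶜ P) :=
  ⟨h.syl.conj g, by rw [relIndex_conj, h.idx], by rw [Op_conj, relIndex_conj, h.idx2],
    by unfold Ch; rw [Op_conj, cent_conj, ← conj_inf]; exact conj_mono g h.char⟩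

omit [Finite G] in
theorem conj_of_mem (h : Pq T P) (hg : g ∈ P) : Pq (g •ᶜ T) P := by
  simpa [conj_eq_of_mem hg] using h.conj g

omit [Finite G] in
theorem le (h : Pq T P) : T ≤ P := h.syl.le

omit [Finite G] in
theorem two (h : Pq T P) : IsPGroup 2 T := h.syl.isPGroup

theorem Q_le (h : Pq T P) : Op 2 P ≤ T := Op_le_syl h.syl

theorem max (h : Pq T P) (hX : T ≤ X) (hg : g ∈ P) (hg' : g ∉ T) (hgX : g ∈ X) : P ≤ X := by
  have h1 := covBy_of_relIndex_prime h.le (h.idx ▸ Nat.prime_three)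
  rcases h1.eq_or_eq (le_inf hX h.le) inf_le_right with e | e
  · exact absurd (e ▸ (⟨hgX, hg⟩ : g ∈ X ⊓ P)) hg'
  · exact inf_eq_right.1 e

theorem max' (h : Pq T P) (hX : T ≤ X) (hY : Y ≤ P) (hY' : ¬ Y ≤ T) (hYX : Y ≤ X) : P ≤ X := by
  obtain ⟨g, hg, hg'⟩ := SetLike.not_le_iff_exists.1 hY'
  exact h.max hX (hY hg) hg' (hYX hg)

omit [Finite G] in
theorem le_Q (h : Pq T P) (hN : N ≤ T) (hn : P ≤ 𝐍(N)) : N ≤ Op 2 P :=
  le_Op ⟨hN.trans h.le, hn⟩ (h.syl.isPGroup.to_le hN)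

omit [Finite G] in
theorem not_le_Q (h : Pq T P) : ¬ T ≤ Op 2 P := fun e => by
  have := h.idx2; rw [relIndex_eq_one.2 e] at this; omega

omit [Finite G] in
theorem exists_not_mem_Q (h : Pq T P) : ∃ u ∈ T, u ∉ Op 2 P := SetLike.not_le_iff_exists.1 h.not_le_Q

omit [Finite G] in
theorem exists_not_mem (h : Pq T P) : ∃ g ∈ P, g ∉ T := SetLike.not_le_iff_exists.1 fun e => by
  have := h.idx; rw [relIndex_eq_one.2 e] at this; omega

omit [Finite G] in
theorem le_of (h : Pq T P) (hX : Op 2 P ≤ X) (hu : u ∈ T) (hu' : u ∉ Op 2 P) (huX : u ∈ X) :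
    T ≤ X := ZN.le_of_relIndex_two h.idx2 hX hu hu' huX

omit [Finite G] in
theorem le_of' (h : Pq T P) (hX : Op 2 P ≤ X) (hY : Y ≤ T) (hY' : ¬ Y ≤ Op 2 P) (hYX : Y ≤ X) :
    T ≤ X := by
  obtain ⟨u, hu, hu'⟩ := SetLike.not_le_iff_exists.1 hY'
  exact h.le_of hX (hY hu) hu' (hYX hu)

omit [Finite G] in
theorem mul_mem_Q (h : Pq T P) (ha : a ∈ T) (ha' : a ∉ Op 2 P) (hb : b ∈ T) (hb' : b ∉ Op 2 P) :
    a * b ∈ Op 2 P := (ZN.mul_mem_iff_of_relIndex_two h.idx2 ha hb).2 (iff_of_false ha' hb')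

omit [Finite G] in
theorem sq_mem_Q (h : Pq T P) (ha : a ∈ T) : a * a ∈ Op 2 P :=
  (ZN.mul_mem_iff_of_relIndex_two h.idx2 ha ha).2 Iff.rfl

omit [Finite G] in
theorem le_norm_Q (P : Subgroup G) : P ≤ 𝐍(Op 2 P) := (Op_normal 2 P).norm

theorem inf_le (h : Pq T P) (h' : Pq T' P) (hne : T ≠ T') : T ⊓ T' ≤ Op 2 P := fun _ hu => by
  by_contra hu'
  exact hne (h.syl.eq_of_le_syl h'.syl (h.le_of h'.Q_le hu.1 hu' hu.2))

theorem conj_ne (h : Pq T P) (hg : g ∈ P) (hg' : g ∉ T) : g •ᶜ T ≠ T := fun e =>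
  h.not_le_Q (h.le_Q le_rfl (h.max (le_norm_self T) hg hg' (conj_eq_self_iff.1 e)))

theorem mem_of_norm (h : Pq T P) (hg : g ∈ P) (hn : g ∈ 𝐍(T)) : g ∈ T := by
  by_contra hg'; exact h.conj_ne hg hg' (conj_eq_of_mem_norm hn)

theorem inf_conj_le (h : Pq T P) (hg : g ∈ P) (hg' : g ∉ T) : T ⊓ g •ᶜ T ≤ Op 2 P :=
  h.inf_le (h.conj_of_mem hg) (h.conj_ne hg hg').symm

theorem conj_not_mem (h : Pq T P) (hg : g ∈ P) (hg' : g ∉ T) (ht : t ∈ T) (ht' : t ∉ Op 2 P) :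
    g * t * g⁻¹ ∉ T := fun e =>
  ht' ((mem_norm_iff.1 (le_norm_Q P hg) t).2 (h.inf_conj_le hg hg' ⟨e, conj_mem_conj ht⟩))

theorem gen (h : Pq T P) (h' : Pq T' P) (hne : T ≠ T') (hX : T ≤ X) (hY : Y ≤ T')
    (hY' : ¬ Y ≤ Op 2 P) (hYX : Y ≤ X) : P ≤ X :=
  h.max' hX (hY.trans h'.le) (fun e => hY' ((le_inf e hY).trans (h.inf_le h' hne))) hYX

theorem cosets (hP : Pq T P) (hg : g ∈ P) (hg' : g ∉ T) (hu : u ∈ T) (hu' : u ∉ Op 2 P)
    (hh : h ∈ P) : h ∈ T ∨ g⁻¹ * h ∈ T ∨ (u * g)⁻¹ * h ∈ T := by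
  classical
  by_contra! hc
  have h3 : Nat.card (P ⧸ T.subgroupOf P) = 3 := hP.idx
  have hug := P.mul_mem (hP.le hu) hg
  have ne : ∀ a b : P, (a : G)⁻¹ * b ∉ T →
      (QuotientGroup.mk a : P ⧸ T.subgroupOf P) ≠ QuotientGroup.mk b := fun a b hab e =>
    hab (mem_subgroupOf.1 (QuotientGroup.eq.1 e))
  have h4 : ({QuotientGroup.mk 1, QuotientGroup.mk ⟨g, hg⟩, QuotientGroup.mk ⟨u * g, hug⟩,
      QuotientGroup.mk ⟨h, hh⟩} : Finset (P ⧸ T.subgroupOf P)).card = 4 := by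
    rw [Finset.card_eq_four]
    refine ⟨_, _, _, _, ne _ _ (by simpa using hg'), ne _ _ ?_, ne _ _ (by simpa using hc.1),
      ne _ _ fun e => hu' (hP.inf_conj_le hg hg' ⟨hu, mem_conj.2 (by simpa [mul_assoc] using e)⟩),
      ne _ _ hc.2.1, ne _ _ hc.2.2, rfl⟩
    simpa [T.mul_mem_cancel_left hu] using hg'
  have := Fintype.ofFinite (P ⧸ T.subgroupOf P)
  have h5 := Finset.card_le_univ ({QuotientGroup.mk 1, QuotientGroup.mk ⟨g, hg⟩,
    QuotientGroup.mk ⟨u * g, hug⟩, QuotientGroup.mk ⟨h, hh⟩} : Finset (P ⧸ T.subgroupOf P))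
  rw [h4, ← Nat.card_eq_fintype_card, h3] at h5
  omega

theorem of_syl (h : Pq T P) (h' : Syl 2 T' P) : Pq T' P := by
  obtain ⟨g, hg, e⟩ := h.syl.exists_conj h'
  exact e ▸ h.conj_of_mem hg

theorem Q_ne_bot (h : Pq T P) : Op 2 P ≠ ⊥ := fun e =>
  h.not_le_Q (h.le.trans ((le_inf le_rfl (by rw [e, cent_bot]; exact le_top)).trans h.char))

theorem card (h : Pq T P) : ♯P = ♯T * 3 := by
  rw [← h.idx, card_mul_relIndex h.le]

/-- an element of order three -/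
theorem exists_three (h : Pq T P) : ∃ y ∈ P, y ^ 3 = 1 ∧ y ∉ T := by
  have := Fact.mk Nat.prime_three
  obtain ⟨y, hy⟩ := exists_prime_orderOf_dvd_card' (G := P) 3 (h.card ▸ dvd_mul_left _ _)
  have hy' : orderOf (y : G) = 3 := (orderOf_coe y).trans hy
  refine ⟨y, y.2, hy' ▸ pow_orderOf_eq_one _, fun e => ?_⟩
  have := NS.eq_one_of_two h.two e (by rw [hy']; decide)
  rw [this, orderOf_one] at hy'; omega

theorem ne_one_of_not_mem (hy : y ∉ T) : y ≠ 1 := fun e => hy (e ▸ one_mem T)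

theorem not_mem_of_three (h : Pq T P) (y3 : y ^ 3 = 1) (y1 : y ≠ 1) : y ∉ T := fun e =>
  y1 (NS.eq_one_of_two h.two e (by rw [orderOf_three y3 y1]; decide))

/-- every 2-element lies in a Sylow 2-subgroup -/
theorem exists_pq (h : Pq T P) (hX : IsPGroup 2 X) (hle : X ≤ P) : ∃ T', Pq T' P ∧ X ≤ T' :=
  let ⟨T', h1, h2⟩ := exists_syl_ge hle hX; ⟨T', h.of_syl h1, h2⟩

theorem not_five (h : Pq T P) : ¬ 5 ∣ ♯P := fun e => by
  obtain ⟨k, hk⟩ := IsPGroup.iff_card.1 h.two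
  rw [h.card, hk] at e
  rcases (Nat.Prime.dvd_mul Nat.prime_five).1 e with e | e
  · have := Nat.le_of_dvd (by norm_num) (Nat.prime_five.dvd_of_dvd_pow e); omega
  · omega

/-- an involution outside `O₂(P)` inverts an element of order three -/
theorem exists_y (h : Pq T P) (hE : E6 G) (ht : t ∈ T) (ht' : t ∉ Op 2 P) (t2 : t * t = 1) :
    ∃ y ∈ P, y ^ 3 = 1 ∧ y ∉ T ∧ t * y * t⁻¹ = y⁻¹ := by
  obtain ⟨g, hg, hg'⟩ := h.exists_not_mem
  have hs := h.conj_not_mem hg hg' ht ht'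
  have s2 := conj_sq t2 g
  have hsP : g * t * g⁻¹ ∈ P := mul_mem (mul_mem hg (h.le ht)) (inv_mem hg)
  generalize g * t * g⁻¹ = s at hs s2 hsP
  have hw : t * s ∈ P := mul_mem (h.le ht) hsP
  have e : t * (t * s) * t⁻¹ = (t * s)⁻¹ := by
    rw [← mul_assoc, t2, one_mul, mul_inv_rev, inv_eq_of_sq s2]
  have h4 : (t * s) ^ 4 ≠ 1 := fun h4 => by
    have h1 : IsPGroup 2 (zpowers (t * s)) := isPGroup_zpowers_iff.2
      ((isPiNum_singleton_pow Nat.prime_two 2).of_dvd (orderOf_dvd_of_pow_eq_one h4))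
    have h2 : IsPGroup 2 ↥(zpowers (t * s) ⊔ zpowers t) := isPGroup_sup h1
      (h.two.to_le (zpowers_le.2 ht)) (.inr (zpowers_le.2 (conj_eq_self_iff.1 (by
        rw [conj_zpowers, e, zpowers_inv]))))
    obtain ⟨T', hT', hle⟩ := h.exists_pq h2 (sup_le (zpowers_le.2 hw) (zpowers_le.2 (h.le ht)))
    have h3 : t ∈ T' := hle (mem_sup_right (mem_zpowers t))
    by_cases e : T = T'
    · exact hs ((mul_mem_cancel_left ht).1 (e ▸ hle (mem_sup_left (mem_zpowers _))))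
    · exact ht' (h.inf_le hT' e ⟨ht, h3⟩)
  have h6 : ((t * s) ^ 2) ^ 3 = 1 := by
    rw [← pow_mul, ← orderOf_dvd_iff_pow_eq_one]
    rw [Ne, ← orderOf_dvd_iff_pow_eq_one] at h4
    rcases hE.cases (t * s) with e | e | e | e | e | e <;> rw [e] at h4 ⊢ <;> try omega
    exact absurd (e ▸ OO.orderOf_dvd_card hw) h.not_five
  refine ⟨(t * s) ^ 2, pow_mem hw 2, h6, h.not_mem_of_three h6 fun e => h4 ?_, by
    rw [← conj_pow, e, inv_pow]⟩
  rw [show 4 = 2 * 2 by rfl, pow_mul, e, one_pow]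

end Pq

end Cfsg.Agent.OE
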