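import Cfsg.Agent.Lib.OE.FVa

/-!
# Package FV: parabolic subgroups normalize `O₂(L)`, and the `L₃(4)` case
-/

set_option autoImplicit false
set_option linter.unusedSectionVars false

namespace Cfsg.Agent.OE

open Subgroup Cfsg.Agent.OO Cfsg.Agent.Coprime GW GW2
open scoped Pointwise

universe u

variable {G : Type u} [Group G] [Finite G] {L P S : Subgroup G} {a b g v w y z : G}

namespace Fv

/-- a counterexample to FV1 -/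
structure Cx (S L P : Subgroup G) : Prop where
  e6 : E6 G
  syl : Syl 2 S L
  t5 : T5 L
  pq : Pq S P
  ne : ¬ P ≤ 𝐍(Op 2 L)

namespace Cx

variable (h : Cx S L P)
include h

theorem Q_le : Op 2 L ≤ S := Op_le_syl h.syl

theorem normQ : S ≤ 𝐍(Op 2 L) := h.syl.le.trans (Pq.le_norm_Q L)

theorem normU : S ≤ 𝐍(Op 2 P) := h.pq.le.trans (Pq.le_norm_Q P)

theorem not_le : ¬ Op 2 L ≤ Op 2 P := fun e => by
  obtain ⟨g, hg, g1⟩ := h.pq.exists_not_mem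
  have h1 := conj_le_of_mem_norm (Pq.le_norm_Q P hg) e
  exact h.pq.not_le_Q ((h.t5.l34 h.e6 h.syl (h1.trans h.pq.Q_le) (fun a ha => by
    obtain ⟨q, hq, rfl⟩ := mem_conj_iff_exists.1 ha
    exact conj_sq (h.t5.el q hq) g) (card_conj _ _).ge fun e =>
      h.ne (h.pq.max h.normQ hg g1 (conj_eq_self_iff.1 e))).2.2.2.1.ge.trans (sup_le e h1))

theorem card0 : ♯(Op 2 L ⊓ Op 2 P : Subgroup G) * 2 = ♯(Op 2 L) := by
  have h1 := relIndex_dvd_of_le_norm h.Q_le h.normU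
  rw [h.pq.idx2] at h1
  rw [inf_comm, ← card_inf_mul_relIndex (Op 2 P) (Op 2 L), ((Nat.dvd_prime Nat.prime_two).1
    h1).resolve_left fun e => h.not_le (relIndex_eq_one.1 e)]

theorem mem_Q (hw : w ∈ S) (hc : w ∈ 𝐂(Op 2 L ⊓ Op 2 P)) : w ∈ Op 2 L := by
  by_contra w1
  obtain ⟨⟨k, k1, k2, k3, -⟩, -⟩ := h.t5.cent h.e6 (h.syl.le hw) w1 (h.t5.sq S h.syl w hw)
  have h1 := card_le (le_inf inf_le_left (le_cent1_iff.2 hc))
  have h2 := h.card0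
  nlinarith

theorem Z_le : Zc S ≤ Op 2 L ⊓ Op 2 P :=
  le_inf (fun _ hz => h.t5.char ⟨h.syl.le hz.1, cent_anti h.Q_le hz.2⟩)
    fun _ hz => h.pq.char ⟨h.pq.le hz.1, cent_anti h.pq.Q_le hz.2⟩

theorem le_cent : P ≤ 𝐂(Zc S) := le_cent_comm.2 fun z hz => le_cent1_iff.1 (by
  obtain ⟨g, hg, g1⟩ := h.pq.exists_not_mem
  obtain ⟨t, ht, t1⟩ := h.pq.exists_not_mem_Q
  have hn := Pq.le_norm_Q P hg
  have h1 := conj_mem_of_norm' hn (h.Z_le hz).2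
  have h2 := conj_mem_of_norm' (norm_le_norm_cent _ hn) (cent_anti h.pq.Q_le hz.2)
  have h3 := h.pq.le_of' (le_cent1_iff.2 h2) h.Q_le h.not_le
    (h.t5.le_cent (h.mem_Q (h.pq.Q_le h1) (cent_anti inf_le_right h2))) ht
  refine h.pq.max (le_cent1_iff.2 hz.2) (mul_mem (mul_mem hg (h.pq.le ht)) (inv_mem hg))
    (h.pq.conj_not_mem hg g1 ht t1) (mem_cent1.2 ?_)
  rw [show g * t * g⁻¹ * z = g * (t * (g⁻¹ * z * g)) * g⁻¹ by group, mem_cent1.1 h3]; group)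

theorem not_norm (hg : g ∈ P) (g1 : g ∉ S) : g ∉ 𝐍(Op 2 L ⊓ Op 2 P) := fun e => by
  have h1 := h.pq.max (le_norm_inf h.normQ h.normU) hg g1 e
  obtain ⟨t, ht, t1⟩ := SetLike.not_le_iff_exists.1 h.not_le
  obtain ⟨y, hy, y3, y1, ty⟩ := h.pq.exists_y h.e6 (h.Q_le ht) t1 (h.t5.el t ht)
  have h2 : t ∈ 𝐂(Op 2 L ⊓ Op 2 P) := mem_cent_iff.2 fun x hx => h.t5.comm hx.1 ht
  have h3 : y ∈ 𝐂(Op 2 L ⊓ Op 2 P) := by
    have := mul_mem h2 (conj_mem_of_norm (le_norm_cent h1 hy) (inv_mem h2))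
    rwa [show t * (y * t⁻¹ * y⁻¹) = t * y * t⁻¹ * y⁻¹ by group, ty, ← mul_inv_rev,
      ← inv_eq_of_cube y3, inv_inv] at this
  refine y1 (h.pq.Q_le (h.pq.char ⟨hy, mem_cent_iff.2 fun u hu => ?_⟩))
  have h4 : u * y * u⁻¹ * y⁻¹ ∈ Op 2 P := by
    rw [mul_assoc u, mul_assoc u]
    exact mul_mem hu (conj_mem_of_norm (Pq.le_norm_Q P hy) (inv_mem hu))
  have h5 := h.mem_Q (h.pq.Q_le h4) (mul_mem (conj_mem_of_norm
    (le_norm_cent h1 (h.pq.le (h.pq.Q_le hu))) h3) (inv_mem h3))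
  have h6 := conj_cube y3 u
  rw [show u * y * u⁻¹ = u * y * u⁻¹ * y⁻¹ * y by group,
    Commute.mul_pow (mem_cent_iff.1 h3 _ ⟨h5, h4⟩), y3, mul_one, pow_succ, sq, h.t5.el _ h5,
    one_mul] at h6
  rw [← one_mul (y * u), ← h6]; group

theorem exists_a (hg : g ∈ P) (g1 : g ∉ S) : ∃ a ∈ Op 2 L ⊓ Op 2 P, g * a * g⁻¹ ∉ Op 2 L := by
  by_contra! e
  exact h.not_norm hg g1 (mem_norm_of_conj_mem fun a ha =>
    ⟨e a ha, conj_mem_of_norm (Pq.le_norm_Q P hg) ha.2⟩)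

theorem cardQ : ♯(Op 2 L) = 16 := by
  obtain ⟨g, hg, g1⟩ := h.pq.exists_not_mem
  obtain ⟨a, ha, a1⟩ := h.exists_a hg g1
  have h1 : g •ᶜ (Op 2 L ⊓ Op 2 P) ≤ S :=
    (conj_le_of_mem_norm (Pq.le_norm_Q P hg) inf_le_right).trans h.pq.Q_le
  have h2 := h1 (conj_mem_conj ha)
  obtain ⟨⟨k, k1, k2, k3, k4⟩, -⟩ := h.t5.cent h.e6 (h.syl.le h2) a1 (h.t5.sq S h.syl _ h2)
  obtain ⟨k5, k6⟩ := h.t5.bound h.e6 h.syl h1 (ab_conj.2 (ab_iff.2 fun a ha b hb =>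
    h.t5.comm ha.1 hb.1)) (conj_mem_conj ha)
  obtain ⟨k7, k8⟩ := h.t5.idx_le h.syl h1
  have k9 := Nat.mul_le_mul (card_le k6) (k7.trans k8)
  have := h.card0
  rw [card_conj] at k5
  obtain rfl : k = 1 := by
    by_contra e
    have : 3 ≤ k := by omega
    nlinarith
  exact k2

theorem cardC (hv : v ∈ S) (v1 : v ∉ Op 2 L) : ♯(Op 2 L ⊓ 𝐂[v] : Subgroup G) = 4 := by
  obtain ⟨⟨k, k1, k2, k3, -⟩, -⟩ := h.t5.cent h.e6 (h.syl.le hv) v1 (h.t5.sq S h.syl v hv)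
  have := h.cardQ
  obtain rfl : k = 1 := by nlinarith
  exact k1

theorem comm_mem (ha : a ∈ Op 2 L ⊓ Op 2 P) (hv : v ∈ S) : a * (v * a * v⁻¹) ∈ Zc S := by
  by_cases v1 : v ∈ Op 2 L
  · rw [h.t5.cj v1 ha.1, h.t5.el a ha.1]; exact one_mem _
  have h1 : Op 2 L ⊓ 𝐂[v] ≤ Op 2 L ⊓ Op 2 P := fun c hc => by
    obtain ⟨q, hq, e⟩ := (h.t5.cent h.e6 (h.syl.le hv) v1 (h.t5.sq S h.syl v hv)).2 c hc
    exact ⟨hc.1, e ▸ (ZN.mul_mem_iff_of_relIndex_two h.pq.idx2 (h.Q_le hq)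
      (h.Q_le (conj_mem_of_norm (h.normQ hv) hq))).2 (mem_norm_iff.1 (h.normU hv) q)⟩
  have h2 := card_mul_relIndex h1
  have h3 := h.card0
  rw [h.cardC hv v1] at h2
  rw [h.cardQ] at h3
  have h4 := conj_mem_of_norm (h.normQ hv) ha.1
  refine ⟨h.Q_le (mul_mem ha.1 h4), mem_cent_iff.2 fun s hs => comm_of_conj_eq ?_⟩
  obtain ⟨q, hq, e⟩ := h.t5.exists_eq h.syl hs hv
  have h5 := conj_mem_of_norm (le_norm_inf h.normQ h.normU hs) ha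
  have h6 := conj_mem_of_norm (h.normQ hv) h5.1
  have h7 : s * (v * a * v⁻¹) * s⁻¹ = v * (s * a * s⁻¹) * v⁻¹ := by
    rw [← h.t5.cj hq h6, show s * (v * a * v⁻¹) * s⁻¹ =
      s * v * s⁻¹ * (s * a * s⁻¹) * (s * v * s⁻¹)⁻¹ by group, e]; group
  have h8 := mem_cent1_iff_conj.1 (mem_cent1_comm.1 ((ZN.mul_mem_iff_of_relIndex_two
    (show (Op 2 L ⊓ 𝐂[v]).relIndex (Op 2 L ⊓ Op 2 P) = 2 by omega) ha h5).2 (by
      rw [mem_inf, mem_inf, and_iff_right (mem_inf.1 ha).1, and_iff_right (mem_inf.1 h5).1, mem_cent1_comm,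
        mem_cent1_comm (x := v), mem_cent1_iff_conj, mem_cent1_iff_conj, ← h7]
      simp)).2)
  rw [show s * (a * (v * a * v⁻¹)) * s⁻¹ = s * a * s⁻¹ * (s * (v * a * v⁻¹) * s⁻¹) by group, h7]
  rw [show v * (a * (s * a * s⁻¹)) * v⁻¹ = v * a * v⁻¹ * (v * (s * a * s⁻¹) * v⁻¹) by group,
    ← eq_inv_mul_iff_mul_eq, h.t5.inv_eq h4] at h8
  rw [h8, h.t5.comm h5.1 (mul_mem h4 (mul_mem ha.1 h5.1)), mul_assoc, mul_assoc a, h.t5.el _ h5.1,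
    mul_one, h.t5.comm h4 ha.1]

theorem l0 (w3 : w ^ 3 = 1) (w1 : w ≠ 1) (hw : w ∈ 𝐂(Zc S)) (hb : b ∈ Op 2 L ⊓ Op 2 P)
    (e : w * b * w⁻¹ ∈ S) : w * b * w⁻¹ ∈ 𝐂[b] := by
  have h1 := h.comm_mem hb e
  have h2 := h.e6.l0 w3 w1 (h.t5.el b hb.1) (by
    rw [mul_assoc _ _ b, mul_assoc b, mul_assoc (w * b * w⁻¹ * b), inv_mul_cancel_left, mul_assoc _ b b,
      h.t5.el b hb.1, mul_one]) (h1.2 b (h.Q_le hb.1)).symm (mem_cent_iff.1 hw _ h1)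
  rwa [mul_eq_one_iff_inv_eq, h.t5.inv_eq hb.1, eq_comm, ← mem_cent1_iff_conj] at h2

theorem exists_b (hy : y ∈ P) (y1 : y ∉ S) (y3 : y ^ 3 = 1) : ∃ a ∈ Op 2 L ⊓ Op 2 P,
    y * a * y⁻¹ ∈ S ⊓ 𝐂[a] ∧ y * a * y⁻¹ ∉ Op 2 L ∧ ¬ S ≤ 𝐂[a] := by
  obtain ⟨a, ha, a1⟩ := h.exists_a hy y1
  have h1 := h.pq.Q_le (conj_mem_of_norm (Pq.le_norm_Q P hy) ha.2)
  refine ⟨a, ha, ⟨h1, h.l0 y3 (Pq.ne_one_of_not_mem y1) (h.le_cent hy) ha h1⟩, a1, fun e => a1 ?_⟩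
  rw [mem_cent_iff_conj.1 (h.le_cent hy) a ⟨h.Q_le ha.1, le_cent1_iff.1 e⟩]
  exact ha.1

theorem false (st3 : ST3.{u}) (hL : ZN.LocChar (⊤ : Subgroup G)) (hS : Syl 2 S ⊤) : False := by
  have := Fact.mk Nat.prime_three
  obtain ⟨y, hy, y3, y1⟩ := h.pq.exists_three
  obtain ⟨a, ha, a1, a2, a3⟩ := h.exists_b hy y1 y3
  rcases h.t5.idx' h.syl with e | ⟨e, -⟩
  · exact a3 (ZN.le_of_relIndex_two e (h.t5.le_cent ha.1) a1.1 a2 a1.2)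
  obtain ⟨k, hk, k3, k4⟩ := h.t5.rot S h.syl e
  have hZ := Zc_ne_bot (nil_of_isPGroup hS.isPGroup) fun e' => h.t5.ne (le_bot_iff.1 (e' ▸ h.Q_le))
  have h1 : Zc S < Op 2 L ⊓ 𝐂[y * a * y⁻¹] :=
    lt_of_le_of_ne (le_inf (h.Z_le.trans inf_le_left) ((Zc_le_cent S).trans (cent_le_cent1 a1.1)))
      fun e' => a3 (le_cent1_iff.2 (e'.ge ⟨ha.1, mem_cent1_comm.1 a1.2⟩).2)
  have h2 := card_dvd h1.le
  have h3 := card_lt h1
  have h4 := one_lt_card hZ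
  rw [h.cardC a1.1 a2] at h2 h3
  have h5 := cent_of_two (X := Zc S) (by
    generalize ♯(Zc S) = m at h2 h3 h4
    interval_cases m <;> omega) (norm_le_norm_Zc S hk.2)
  obtain ⟨z, hz, z1⟩ := exists_mem_ne_one hZ
  have z2 := h.t5.el z (h.Z_le hz).1
  have hT := st3 G _ h.e6 (ch hL z1 z2) (h.e6.not_five z1 z2)
  have hP := h.le_cent.trans (cent_le_cent1 hz)
  have hS' := hS.mono (h.pq.le.trans hP) le_top
  have hO := h.pq.le_Q (Op_le_syl hS') (hP.trans (Pq.le_norm_Q _))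
  obtain ⟨R, hR, r1⟩ := exists_syl_ge (zpowers_le.2 (cent_le_cent1 hz h5))
    (abelem_isPGroup (abelem_zpowers k3))
  have hRn := hR.le.trans (Pq.le_norm_Q _)
  have r2 := r1 (mem_zpowers k)
  obtain ⟨o, ho, r, hr, rfl⟩ := (mem_sup_norm_left hRn).1 (hT.three R hR y (hP hy) y3)
  have r3 := (mul_mem_cancel_left (h.pq.le (h.pq.Q_le (hO ho)))).1 hy
  have r4 : r ∉ S := fun e => y1 (mul_mem (h.pq.Q_le (hO ho)) e)
  obtain ⟨b, hb, b1, b2, b3⟩ := h.exists_b r3 r4 (h.e6.pow3 hR.isPGroup hr)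
  have hbS := h.Q_le hb.1
  have b4 : b⁻¹ * (k⁻¹ * b * k) ∈ Op 2 P := hO (by
    have e1 := conj_mem_of_norm' hk.2 hbS
    have e2 : b⁻¹ * (k⁻¹ * b * k) ∈ (Op 2 𝐂[z] ⊔ R) ⊓ S := mem_inf.2 ⟨by
      rw [show b⁻¹ * (k⁻¹ * b * k) = (b⁻¹ * k * b⁻¹⁻¹)⁻¹ * k by group]
      exact mul_mem (inv_mem (hT.three R hR _ (mul_mem (mul_mem (hS'.le (inv_mem hbS)) (hR.le r2))
        (inv_mem (hS'.le (inv_mem hbS)))) (conj_cube k3 _))) (mem_sup_right r2),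
      mul_mem (inv_mem hbS) e1⟩
    rwa [sup_inf_of_le_left (.inr hRn) (Op_le_syl hS'), inf_eq_bot_of_coprime_card
      (coprime_of_isPGroup_ne hR.isPGroup hS.isPGroup (by norm_num)), sup_bot_eq] at e2)
  have b5 := h.l0 (h.e6.pow3 hR.isPGroup (mul_mem hr r2)) (fun e => r4 (h.pq.mem_of_norm r3
    (eq_inv_of_mul_eq_one_left e ▸ inv_mem (mem_inf.1 hk).2))) (mul_mem (h.le_cent r3) h5)
    (b := k⁻¹ * b * k) ⟨conj_mem_of_norm' (Pq.le_norm_Q L hk.1) hb.1,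
      (mul_mem_cancel_left (inv_mem (mem_inf.1 hb).2)).1 b4⟩ (by simpa [mul_assoc] using b1.1)
  refine b3 (le_of_four e h.Q_le (h.t5.le_cent hb.1) b1 ⟨conj_mem_of_norm hk.2 b1.1, ?_⟩ b2
    (fun e => b2 ((mem_norm_iff.1 (Pq.le_norm_Q L hk.1) _).2 e)) (k4 _ b1.1 b2))
  have := conj_mem_conj (g := k) b5
  rw [← cent1_conj] at this
  simpa [mul_assoc] using this

end Cx

theorem cover (h : T5 L) (hE : E6 G) (hS : Syl 2 S L) (h1 : ♯(Op 2 L) = 16)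
    (h2 : (Op 2 L).relIndex S = 4) (ha : a ∈ Op 2 L) (a1 : a ≠ 1) :
    ∃ l ∈ L, ∃ v ∈ S, v ∉ Op 2 L ∧ l * a * l⁻¹ ∈ Op 2 L ⊓ 𝐂[v] := by
  have hn := Pq.le_norm_Q L
  have h3 : Op 2 L ≤ L ⊓ 𝐂[a] := le_inf (Op_le 2 L) (h.le_cent ha)
  obtain ⟨T, hT, t1⟩ := exists_syl_ge h3 (Op_isPGroup 2 L)
  obtain ⟨l, hl, e⟩ := hS.exists_conj_le (hT.le.trans inf_le_left) hT.isPGroup
  obtain ⟨v, hv, v1⟩ := SetLike.not_le_iff_exists.1 fun e : T ≤ Op 2 L => by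
    obtain rfl := le_antisymm e t1
    have k1 := relIndex_mul_relIndex _ _ L h3 inf_le_left
    have k2 := relIndex_cent_le (Γ := L) (w := a) fun g hg =>
      mul_mem (conj_mem_of_norm (hn hg) ha) (inv_mem ha)
    have k3 := hT.not_dvd
    have k4 : ¬ 5 ∣ (Op 2 L).relIndex (L ⊓ 𝐂[a]) := fun e => hE.not_five a1 (h.el a ha)
      ((e.trans (relIndex_dvd_card _ _)).trans (card_dvd inf_le_right))
    rw [((h.idx' hS).resolve_left (by omega)).2, inf_relIndex_left] at k1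
    have k5 := relIndex_pos 𝐂[a] L
    generalize relIndex 𝐂[a] L = m at k1 k2 k5
    rw [h1] at k2
    interval_cases m <;> omega
  exact ⟨l, hl, _, e (conj_mem_conj hv), fun e => v1 ((mem_norm_iff.1 (hn hl) v).2 e),
    conj_mem_of_norm (hn hl) ha, cent1_conj l v ▸ conj_mem_conj (mem_cent1_comm.1 (hT.le hv).2)⟩

end Fv

theorem fv1 (st3 : ST3.{u}) : FV1.{u} := fun _ _ _ _ _ _ hE hL hS hSL h hP =>
  by_contra fun hn => Fv.Cx.false ⟨hE, hS.mono hSL le_top, h, hP, hn⟩ st3 hL hS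

theorem fv3 (st3 : ST3.{u}) : FV3.{u} := fun G _ _ S L L' hE hL hS hSL hSL' h h' hn ne => by
  have s1 := hS.mono hSL le_top
  have s2 := hS.mono hSL' le_top
  have q1 := Op_le_syl s1
  have q2 := Op_le_syl s2
  have key : ♯(Op 2 L) = ♯(Op 2 L') := (le_total ♯(Op 2 L) ♯(Op 2 L')).elim
    (fun e => let ⟨a, b, _⟩ := h.l34 hE s1 q2 h'.el e ne.symm; a.trans b.symm)
    fun e => let ⟨a, b, _⟩ := h'.l34 hE s2 q1 h.el e ne; b.trans a.symm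
  obtain ⟨c1, c2, c3, c4, c5, c6⟩ := h.l34 hE s1 q2 h'.el key.le ne.symm
  obtain ⟨-, -, d3, -, d5, -⟩ := h'.l34 hE s2 q1 h.el key.ge ne
  have K1 : ∀ z ∈ Op 2 L ⊓ Op 2 L', z ≠ 1 → 𝐂[z] ≤ 𝐍(S) := fun z hz z1 =>
    (st3 G _ hE (Fv.ch hL z1 (h.el z hz.1)) (hE.not_five z1 (h.el z hz.1))).gen S _
      (hS.mono (c4.ge.trans (sup_le (h.le_cent hz.1) (h'.le_cent hz.2))) le_top) inf_le_right
      fun P _ hP => c4 ▸ le_norm_sup (fv1 st3 G S L P hE hL hS hSL h hP)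
        (fv1 st3 G S L' P hE hL hS hSL' h' hP)
  have K2 : ∀ a ∈ Op 2 L, a ≠ 1 → ∃ l ∈ L, l * a * l⁻¹ ∈ Op 2 L ⊓ Op 2 L' := fun a ha a1 =>
    let ⟨l, hl, v, hv, v1, e⟩ := Fv.cover h hE s1 c1 c3 ha a1; ⟨l, hl, c5 v hv v1 ▸ e⟩
  have K3 : ∀ g ∈ 𝐍(S), g ∉ 𝐍(Op 2 L) → g •ᶜ Op 2 L = Op 2 L' := fun g hg g1 => by
    have k1 : ∀ a ∈ g •ᶜ Op 2 L, a ∈ Op 2 L ∨ a ∈ Op 2 L' := fun a ha =>
      c6 a (conj_le_of_mem_norm hg q1 ha) (by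
        obtain ⟨q, hq, rfl⟩ := mem_conj_iff_exists.1 ha
        exact conj_sq (h.el q hq) g)
    obtain ⟨a, ha, a1⟩ := SetLike.not_le_iff_exists.1 fun e => g1 (mem_norm_of_conj_le e)
    refine eq_of_le_of_card_le (fun b hb => ?_) (by rw [card_conj, key])
    exact (k1 b hb).elim (fun e => (k1 _ (mul_mem ha hb)).elim
      (fun e' => absurd ((mul_mem_cancel_right e).1 e') a1)
      (mul_mem_cancel_left ((k1 a ha).resolve_left a1)).1) id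
  have K4 : ∀ z ∈ Op 2 L ⊓ Op 2 L', z ≠ 1 → ∀ y ∈ 𝐂[z], y ^ 3 = 1 → y = 1 := fun z hz z1 y hy y3 => by
    by_contra y1
    have k1 := K1 z hz z1 hy
    have k2 : y ∈ 𝐍(Op 2 L) := by
      by_contra e
      refine e (conj_eq_self_iff.1 (conj_inj.1 (((conj_conj y y _).trans (K3 _ (mul_mem k1 k1)
        fun e' => e ?_)).trans (K3 y k1 e).symm)))
      rwa [← inv_eq_of_cube y3, inv_mem_iff] at e'
    obtain ⟨j, hj, j2, j3⟩ := h.real y (hn k2) (orderOf_three y3 y1)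
    have k3 := conj_mem_of_norm' (Pq.le_norm_Q L hj) hz.1
    obtain ⟨w, hw, w1, w2, w3⟩ : ∃ w ∈ Op 2 L, w ≠ 1 ∧ y ∈ 𝐂[w] ∧ j ∈ 𝐂[w] := by
      by_cases e : j ∈ 𝐂[z]
      · exact ⟨z, hz.1, z1, hy, e⟩
      refine ⟨z * (j⁻¹ * z * j), mul_mem hz.1 k3, fun e' => e (mem_cent1.2 ?_),
        mem_cent1_comm.1 (mul_mem (mem_cent1_comm.1 hy) (mem_cent1.2 ?_)), mem_cent1_iff_conj.2 ?_⟩
      · rw [mul_eq_one_iff_inv_eq, h.inv_eq hz.1] at e'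
        conv_lhs => rw [e']
        group
      · have := mem_cent1.1 ((mul_mem_cancel_right hy).1 (h.le_cent hz.1 j3))
        rw [show j⁻¹ * z * j * y = j⁻¹ * (z * (j * y * j⁻¹)) * j by group, ← this]; group
      · conv_rhs => rw [h.comm hz.1 k3, ← h.cj j2 k3]
        group
    obtain ⟨l, hl, e⟩ := K2 w hw w1
    have k4 := K1 _ e (conj_ne_one w1 l)
    rw [cent1_conj] at k4
    have k5 := k4 (conj_mem_conj w2)
    have k6 := hS.mem_of_mem_norm (mem_top _) (k4 (conj_mem_conj w3))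
      ((isPiNum_singleton_pow Nat.prime_two 2).of_dvd (orderOf_dvd_of_pow_eq_one (by
        rw [conj_pow, show 2 ^ 2 = 2 * 2 by rfl, pow_mul, sq, sq, h.el _ j2]; group)))
    have k7 := q1 (conj_mem_of_norm (Pq.le_norm_Q L hl) j3)
    rw [show l * (j * y * j⁻¹ * y) * l⁻¹ = l * j * l⁻¹ * (l * y * l⁻¹ * (l * j * l⁻¹)⁻¹ *
      (l * y * l⁻¹)⁻¹) * (l * y * l⁻¹ * (l * y * l⁻¹)) by group, ← inv_eq_of_cube (conj_cube y3 l),
      mul_mem_cancel_left (mul_mem k6 (conj_mem_of_norm k5 (inv_mem k6))), inv_mem_iff] at k7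
    exact conj_ne_one y1 l (NS.eq_one_of_two hS.isPGroup k7 (by
      rw [orderOf_conj, orderOf_three y3 y1]; decide))
  intro t x t1 t2 e ho
  obtain ⟨g, hg⟩ : ∃ g, g * t * g⁻¹ ∈ Op 2 L ⊓ Op 2 L' := by
    obtain ⟨g, -, hg⟩ := hS.exists_conj_le le_top (two_elt t2)
    rcases c6 _ (hg (conj_mem_conj (mem_zpowers t))) (conj_sq t2 g) with e | e
    · obtain ⟨l, -, e⟩ := K2 _ e (conj_ne_one t1 g)
      exact ⟨l * g, by simpa [mul_assoc] using e⟩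
    · obtain ⟨l, -, v, hv, v1, e⟩ := Fv.cover h' hE s2 c2 d3 e (conj_ne_one t1 g)
      rw [d5 v hv v1, inf_comm] at e
      exact ⟨l * g, by simpa [mul_assoc] using e⟩
  rcases hE.odd_cases ho with x3 | x5
  · by_contra x1
    exact conj_ne_one x1 g (K4 _ hg (conj_ne_one t1 g) _
      (cent1_conj g t ▸ conj_mem_conj (mem_cent1.2 e)) (conj_cube x3 g))
  · exact absurd (hE.no10 x5 e.symm (two_elt t2) (mem_zpowers t)) t1

end Cfsg.Agent.OE
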