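import Cfsg.Agent.Lib.OE.L1

/-!
# Package FV, tools: the action of a Sylow 2-subgroup on `O₂(L)` when `L / O₂(L)` is `D₁₀` or `A₅`
-/

set_option autoImplicit false
set_option linter.unusedSectionVars false

namespace Cfsg.Agent.OE

open Subgroup Cfsg.Agent.OO Cfsg.Agent.Coprime GW GW2
open scoped Pointwise

universe u

variable {G : Type u} [Group G] [Finite G] {A L Q S X : Subgroup G} {a b g q s v w x z : G}

namespace Fv

theorem le_of_four (hi : Q.relIndex S = 4) (hQ : Q ≤ S) (hX : Q ≤ X) (hv : v ∈ S ⊓ X)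
    (hw : w ∈ S ⊓ X) (v1 : v ∉ Q) (w1 : w ∉ Q) (e : w * v⁻¹ ∉ Q) : S ≤ X := by
  have h1 := relIndex_mul_relIndex Q (S ⊓ X) S (le_inf hQ hX) inf_le_left
  have h2 : Q.relIndex (S ⊓ X) ≠ 1 := fun e => v1 (relIndex_eq_one.1 e hv)
  have h3 : Q.relIndex (S ⊓ X) ≠ 2 := fun e' => e ((ZN.mul_mem_iff_of_relIndex_two e' hw
    (inv_mem hv)).2 (iff_of_false w1 (by simpa using v1)))
  rw [hi] at h1
  have h4 : Q.relIndex (S ⊓ X) ≤ 4 := Nat.le_of_dvd (by norm_num) ⟨_, h1.symm⟩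
  refine (relIndex_eq_one.1 ?_ : S ≤ S ⊓ X).trans inf_le_right
  generalize Q.relIndex (S ⊓ X) = m at *
  interval_cases m <;> omega

theorem cent_of_two (h : ♯X = 2) (hg : g ∈ 𝐍(X)) : g ∈ 𝐂(X) := mem_cent_iff_conj.2 fun x hx => by
  by_cases x1 : x = 1
  · simp [x1]
  obtain ⟨y, -, hy⟩ := (Nat.card_eq_two_iff' (1 : X)).1 h
  exact congrArg Subtype.val ((hy ⟨_, conj_mem_of_norm hg hx⟩ fun e =>
    conj_ne_one x1 g (congrArg Subtype.val e)).trans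
      (hy ⟨x, hx⟩ fun e => x1 (congrArg Subtype.val e)).symm)

theorem ch (h : ZN.LocChar (⊤ : Subgroup G)) (z1 : z ≠ 1) (z2 : z * z = 1) : Ch 𝐂[z] := by
  have := h (zpowers z) le_top (two_elt z2) (by simpa using z1)
  rwa [top_inf_eq, show 𝐍(zpowers z) = 𝐂[z] from le_antisymm (fun g hg => cent_zpowers z ▸
    cent_of_two (by rw [Nat.card_zpowers, orderOf_eq_two z2 z1]) hg)
    (cent_zpowers z ▸ cent_le_norm _)] at this

end Fv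

namespace T5

variable (h : T5 L)
include h

theorem inv_eq (ha : a ∈ Op 2 L) : a⁻¹ = a := inv_eq_of_sq (h.el a ha)

theorem comm (ha : a ∈ Op 2 L) (hb : b ∈ Op 2 L) : a * b = b * a := by
  rw [← h.inv_eq (mul_mem ha hb), mul_inv_rev, h.inv_eq ha, h.inv_eq hb]

theorem cj (ha : a ∈ Op 2 L) (hb : b ∈ Op 2 L) : a * b * a⁻¹ = b := conj_eq_of_comm (h.comm ha hb)

theorem le_cent (ha : a ∈ Op 2 L) : Op 2 L ≤ 𝐂[a] := fun _ hb => mem_cent1.2 (h.comm hb ha)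

theorem idx' (hS : Syl 2 S L) : (Op 2 L).relIndex S = 2 ∨
    (Op 2 L).relIndex S = 4 ∧ (Op 2 L).relIndex L = 60 := by
  have h1 := relIndex_mul_relIndex (Op 2 L) S L (Op_le_syl hS) hS.le
  have h2 := hS.not_dvd
  obtain ⟨n, hn⟩ := hS.isPGroup.exists_card_eq
  obtain ⟨k, -, hk⟩ := (Nat.dvd_prime_pow Nat.prime_two).1 (hn ▸ relIndex_dvd_card (Op 2 L) S)
  rw [hk] at h1 ⊢
  have h3 := h.idx
  rw [← h1] at h3 ⊢
  have h4 : k < 6 := by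
    by_contra e
    have := Nat.pow_le_pow_right (show 0 < 2 by norm_num) (not_lt.1 e)
    have := Nat.le_mul_of_pos_right (2 ^ k) (relIndex_pos S L)
    omega
  interval_cases k <;> omega

theorem idx_le (hS : Syl 2 S L) (hA : A ≤ S) : (Op 2 L).relIndex A ≤ (Op 2 L).relIndex S ∧
    (Op 2 L).relIndex S ≤ 4 :=
  ⟨relIndex_le_of_le_right hA (relIndex_pos _ _).ne', by have := h.idx' hS; omega⟩

theorem exists_eq (hS : Syl 2 S L) (hs : s ∈ S) (hv : v ∈ S) :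
    ∃ q ∈ Op 2 L, s * v * s⁻¹ = q * v :=
  ⟨s * v * (s * v) * (v⁻¹ * (s * s)⁻¹ * v) * (v * v)⁻¹, mul_mem (mul_mem (h.sq S hS _ (mul_mem hs hv))
    (conj_mem_of_norm' (Pq.le_norm_Q L (hS.le hv)) (inv_mem (h.sq S hS s hs))))
    (inv_mem (h.sq S hS v hv)), by group⟩

variable (hE : E6 G)
include hE

theorem cent (hv : v ∈ L) (v1 : v ∉ Op 2 L) (v2 : v * v ∈ Op 2 L) :
    (∃ k, ♯(Op 2 L ⊓ 𝐂[v] : Subgroup G) = 4 * k ∧ ♯(Op 2 L) = 16 * k * k ∧ 0 < k ∧ k ≠ 2) ∧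
      ∀ c ∈ Op 2 L ⊓ 𝐂[v], ∃ q ∈ Op 2 L, q * (v * q * v⁻¹) = c := by
  obtain ⟨x, hx, x5, e⟩ := h.inv v hv v1 v2
  have hn := Pq.le_norm_Q L
  have h1 : (Op 2 L ⊓ 𝐂[v]) ⊓ x •ᶜ (Op 2 L ⊓ 𝐂[v]) = ⊥ := (eq_bot_iff_forall _).2 fun d hd => by
    have k1 := mem_cent1_iff_conj.1 (mem_cent1_comm.1 hd.1.2)
    have k2 := mem_cent1_iff_conj.1 (mem_cent1_comm.1 (mem_conj.1 hd.2).2)
    rw [show v * (x⁻¹ * d * x) * v⁻¹ = x * ((v * x * v⁻¹ * x)⁻¹ * (v * d * v⁻¹) *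
      (v * x * v⁻¹ * x)⁻¹⁻¹) * x⁻¹ by group, k1, h.cj (inv_mem e) hd.1.1] at k2
    refine hE.no10 (x := x ^ 2) ((Nat.Coprime.orderOf_pow (by rw [x5]; norm_num)).trans x5) ?_
      (Op_isPGroup 2 L) hd.1.1
    rw [pow_two, show x * x * d = x * (x * d * x⁻¹) * x by group, k2]; simp [mul_assoc]
  have h2 := card_mul_card_le (inf_le_left : Op 2 L ⊓ 𝐂[v] ≤ _)
    (conj_le_of_mem_norm (hn hx) (inf_le_left : Op 2 L ⊓ 𝐂[v] ≤ _))
  rw [h1, card_bot, mul_one, card_conj] at h2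
  let φ : Op 2 L →* G := MonoidHom.mk' (fun q => q * (v * q * v⁻¹)) fun a b => by
    rw [coe_mul, mul_assoc (a : G) (v * a * v⁻¹), ← mul_assoc (v * a * v⁻¹),
      ← h.comm b.2 (conj_mem_of_norm (hn hv) a.2)]
    group
  have h3 : φ.ker = (Op 2 L ⊓ 𝐂[v]).subgroupOf _ := by
    ext q
    rw [mem_subgroupOf, mem_inf, mem_cent1_comm, mem_cent1_iff_conj, and_iff_right q.2]
    change (q : G) * (v * q * v⁻¹) = 1 ↔ _
    rw [mul_eq_one_iff_inv_eq, h.inv_eq q.2, eq_comm]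
  have h4 : φ.range ≤ Op 2 L ⊓ 𝐂[v] := by
    rintro _ ⟨q, rfl⟩
    refine ⟨mul_mem q.2 (conj_mem_of_norm (hn hv) q.2), mem_cent1_comm.1 (mem_cent1_iff_conj.2 ?_)⟩
    change v * (q * (v * q * v⁻¹)) * v⁻¹ = q * (v * q * v⁻¹)
    rw [h.comm q.2 (conj_mem_of_norm (hn hv) q.2)]
    conv_rhs => rw [← h.comm q.2 (conj_mem_of_norm (hn hv) q.2)]
    rw [show v * (v * q * v⁻¹ * q) * v⁻¹ = v * v * q * (v * v)⁻¹ * (v * q * v⁻¹) by group,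
      h.cj v2 q.2]
  have h5 := φ.ker.card_mul_index
  rw [index_ker, h3, Core.card_subgroupOf_of_le inf_le_left] at h5
  have h6 := eq_of_le_of_card_le h4 (Nat.le_of_mul_le_mul_left (h5 ▸ h2) (card_pos' _))
  refine ⟨?_, fun c hc => let ⟨q, e⟩ := h6.ge hc; ⟨q, q.2, e⟩⟩
  have h7 := regular_norm_dvd_pred (zpowers_le.2 (hn hx)) (semiregular_prime
    (by rw [Nat.card_zpowers, x5]; norm_num) ((eq_bot_iff_forall _).2 fun d hd =>
      hE.no10 x5 (mem_cent1.1 (cent_zpowers x ▸ hd.2)) (Op_isPGroup 2 L) hd.1))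
  have h8 := one_lt_card h.ne
  obtain ⟨n, e⟩ := ((Op_isPGroup 2 L).to_le (inf_le_left : Op 2 L ⊓ 𝐂[v] ≤ _)).exists_card_eq
  rw [h6, e] at h5
  rw [Nat.card_zpowers, x5, ← h5] at h7
  rw [← h5] at h8 ⊢
  rcases n with _ | _ | n
  · simp at h8
  · simp at h7
  refine ⟨2 ^ n, by rw [e]; ring, by ring, by positivity, fun e' => ?_⟩
  rw [pow_add, pow_add, e'] at h7
  simp at h7

theorem bound (hS : Syl 2 S L) (hA : A ≤ S) (hc : Ab A) (hv : v ∈ A) :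
    ♯A = ♯(Op 2 L ⊓ A : Subgroup G) * (Op 2 L).relIndex A ∧ Op 2 L ⊓ A ≤ Op 2 L ⊓ 𝐂[v] :=
  ⟨(card_inf_mul_relIndex _ _).symm, inf_le_inf_left _ (hc.le_cent.trans (cent_le_cent1 hv))⟩

/-- Lemma L34 -/
theorem l34 (hS : Syl 2 S L) (hA : A ≤ S) (a2 : ∀ a ∈ A, a * a = 1) (hc : ♯(Op 2 L) ≤ ♯A)
    (ne : A ≠ Op 2 L) : ♯(Op 2 L) = 16 ∧ ♯A = 16 ∧ (Op 2 L).relIndex S = 4 ∧ Op 2 L ⊔ A = S ∧
      (∀ v ∈ S, v ∉ Op 2 L → Op 2 L ⊓ 𝐂[v] = Op 2 L ⊓ A) ∧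
      ∀ s ∈ S, s * s = 1 → s ∈ Op 2 L ∨ s ∈ A := by
  have hab : Ab A := ab_iff.2 fun a ha b hb => by
    rw [← inv_eq_of_sq (a2 _ (mul_mem ha hb)), mul_inv_rev, inv_eq_of_sq (a2 a ha),
      inv_eq_of_sq (a2 b hb)]
  obtain ⟨h1, h2⟩ := h.idx_le hS hA
  have hn := hA.trans (hS.le.trans (Pq.le_norm_Q L))
  have key : ∀ v ∈ A, v ∉ Op 2 L → ♯(Op 2 L) = 16 ∧ ♯A = 16 ∧ (Op 2 L).relIndex A = 4 ∧
      Op 2 L ⊓ 𝐂[v] = Op 2 L ⊓ A := fun v hv v1 => by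
    obtain ⟨⟨k, k1, k2, k3, -⟩, -⟩ := h.cent hE (hS.le (hA hv)) v1 (h.sq S hS v (hA hv))
    obtain ⟨k4, k5⟩ := h.bound hE hS hA hab hv
    have k6 := card_le k5
    have k7 := Nat.mul_le_mul k6 (h1.trans h2)
    obtain rfl : k = 1 := by nlinarith
    have k8 := Nat.mul_le_mul_right ((Op 2 L).relIndex A) k6
    rw [k1] at k8
    have k9 := Nat.mul_le_mul_left ♯(Op 2 L ⊓ A : Subgroup G) (h1.trans h2)
    exact ⟨by omega, by omega, by omega, (eq_of_le_of_card_le k5 (by omega)).symm⟩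
  obtain ⟨v, hv, v1⟩ := SetLike.not_le_iff_exists.1 fun e => ne (eq_of_le_of_card_le e hc)
  obtain ⟨k1, k2, k3, -⟩ := key v hv v1
  have k4 : Op 2 L ⊔ A = S := eq_of_le_of_card_le (sup_le (Op_le_syl hS) hA) (by
    rw [← card_mul_relIndex (le_sup_left : Op 2 L ≤ _), relIndex_sup_eq' (.inr hn), k3,
      ← card_mul_relIndex (Op_le_syl hS)]
    exact Nat.mul_le_mul_left _ h2)
  have k5 : ∀ v ∈ S, v ∉ Op 2 L → Op 2 L ⊓ 𝐂[v] = Op 2 L ⊓ A := fun v hv v1 => by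
    obtain ⟨q, hq, a, ha, rfl⟩ := (mem_sup_norm_left hn).1 (k4.ge hv)
    rw [← (key a ha fun e => v1 (mul_mem hq e)).2.2.2]
    ext x
    rw [mem_inf, mem_inf]
    refine and_congr_right fun hx => ?_
    rw [mem_cent1_comm, mul_mem_cancel_left (h.le_cent hx hq), mem_cent1_comm]
  refine ⟨k1, k2, by omega, k4, k5, fun s hs s2 => or_iff_not_imp_left.2 fun s1 => ?_⟩
  obtain ⟨q, hq, a, ha, rfl⟩ := (mem_sup_norm_left hn).1 (k4.ge hs)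
  refine mul_mem ((k5 _ hs s1).le ⟨hq, mem_cent1.2 ?_⟩).2 ha
  conv_rhs => rw [← inv_eq_of_sq s2, mul_inv_rev, h.inv_eq hq, inv_eq_of_sq (a2 a ha)]
  rw [← mul_assoc, mul_assoc a, h.el q hq, one_mul, mul_one]

end T5

theorem fv2 : FV2.{u} := fun G _ _ T L τ hE h hT hτ h2 => by
  by_contra hn
  have hQ := Op_le_syl hT
  have hQn := hT.le.trans (Pq.le_norm_Q L)
  obtain ⟨h1, -, -, -, h3, h4⟩ := h.l34 hE hT (conj_le_of_mem_norm hτ hQ) (fun a ha => by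
    obtain ⟨q, hq, rfl⟩ := mem_conj_iff_exists.1 ha
    exact conj_sq (h.el q hq) τ) (card_conj _ _).ge fun e => hn (conj_eq_self_iff.1 e)
  have h5 : IsPGroup 2 ↥(T ⊔ zpowers τ) := isPGroup_sup hT.isPGroup (isPGroup_zpowers_iff.2
    ((isPiNum_singleton_pow Nat.prime_two 3).of_dvd (orderOf_dvd_of_pow_eq_one (by
      rw [show 2 ^ 3 = 2 * 4 by rfl, pow_mul, sq, hE.pow4' hT.isPGroup h2])))) (.inr (zpowers_le.2 hτ))
  have h6 := mem_sup_right (S := T) (mem_zpowers τ)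
  have h7 : τ * τ ∈ Op 2 L := (h4 _ h2 (hE.pow4 h5 h6)).elim id fun e => by
    simpa [mul_assoc] using mem_conj.1 e
  obtain ⟨a, ha, a1⟩ := SetLike.not_le_iff_exists.1 fun e : Op 2 L ≤ τ •ᶜ Op 2 L =>
    hn (conj_eq_self_iff.1 (eq_of_le_of_card_le e (card_conj _ _).le).symm)
  have h8 : τ * a * τ⁻¹ ∉ Op 2 L := fun e => a1 (mem_conj.2 (by
    simpa [mul_assoc] using conj_mem_of_norm' (hQn h2) e))
  have h9 := h3 _ (conj_mem_of_norm hτ (hQ ha)) h8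
  refine a1 (h9.le ⟨ha, mem_cent1.2 ?_⟩).2
  have k1 := mem_cent1.1 (h9.ge ⟨h7, mem_conj.2 (by simpa [mul_assoc] using h7)⟩).2
  have k2 := hE.pow4 h5 (mul_mem (mem_sup_left (hQ ha)) h6)
  have k3 := conj_sq (h.el a ha) τ
  rw [show a * τ * (a * τ) = a * (τ * a * τ⁻¹) * (τ * τ) by group] at k2
  generalize τ * a * τ⁻¹ = b at k1 k2 k3
  rw [show a * b * (τ * τ) * (a * b * (τ * τ)) = a * b * (τ * τ * a) * b * (τ * τ) by group,
    h.comm h7 ha, show a * b * (a * (τ * τ)) * b * (τ * τ) = a * b * a * (τ * τ * b) * (τ * τ) by group,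
    k1, show a * b * a * (b * (τ * τ)) * (τ * τ) = a * b * (a * b) * (τ * τ * (τ * τ)) by group,
    h.el _ h7, mul_one] at k2
  rw [← inv_eq_of_sq k2, mul_inv_rev, inv_eq_of_sq k3, h.inv_eq ha]

end Cfsg.Agent.OE
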