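import Cfsg.Agent.Lib.OE.Basic
import Cfsg.Agent.Lib.NS.K1
import Cfsg.Agent.Lib.MN.PSL
import Cfsg.Agent.Lib.GW2.Gwd
import Cfsg.Agent.Lib.CIT.Tori
import Cfsg.Agent.Lib.CS2.Sec
import Cfsg.Agent.Lib.I2.KFa

/-!
# Package ID of plan OE: identification of `A₅` and `A₆`
-/

set_option autoImplicit false

namespace Cfsg.Agent.OE

open Subgroup Cfsg.Agent.OO Cfsg.Agent.Coprime GW GW2
open scoped Pointwise MatrixGroups

universe u v

namespace Idn

variable {G : Type u} [Group G] [Finite G] {s t : G} {F F' : Type} [Field F] [Fintype F] [Field F']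
  [Fintype F']

theorem dh_of_pair (hs : s * s = 1) (ht : t * t = 1) {k : ℕ} (ho : orderOf (s * t) = 2 ^ k)
    (hn : s ∉ zpowers (s * t)) (hc : ¬ 2 ^ (k + 2) ∣ Nat.card G) : DH G := by
  have := Fact.mk Nat.prime_two
  have h1 := Core.isPGroup_two_closure_pair_involutions hs ht (ho ▸ pow_orderOf_eq_one _)
  have h2 : s ∈ closure ({s, t} : Set G) := subset_closure (by simp)
  have h3 : zpowers (s * t) < closure ({s, t} : Set G) := lt_of_le_of_ne
    (zpowers_le.2 (mul_mem h2 (subset_closure (by simp)))) fun e => hn (e ▸ h2)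
  have inv : ∀ y ∈ zpowers (s * t), s * y * s = y⁻¹ := by
    rintro _ ⟨j, rfl⟩
    nth_rw 3 [← inv_eq_of_sq hs]
    rw [← conj_zpow, ← inv_zpow, mul_inv_rev, inv_eq_of_sq hs, inv_eq_of_sq ht, ← mul_assoc, hs,
      one_mul]
  have dec : ∀ x ∈ closure ({s, t} : Set G), x ∉ zpowers (s * t) →
      ∃ y ∈ zpowers (s * t), x = s * y := fun x hx e =>
    ⟨_, (Core.mem_closure_pair_involutions hs ht hx).resolve_left e, by rw [← mul_assoc, hs, one_mul]⟩
  refine CS2.dh_of_syl (a := s * t) ⟨le_top, h1, fun e => hc ?_⟩ (fun x hx e => ?_)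
    fun x hx y hy e e' => ?_
  · obtain ⟨j, hj⟩ := h1.exists_card_eq
    have h4 := card_lt h3
    rw [Nat.card_zpowers, ho, hj, Nat.pow_lt_pow_iff_right one_lt_two] at h4
    rw [← card_top, ← card_mul_relIndex (le_top (a := closure ({s, t} : Set G))), hj, pow_succ]
    exact Nat.mul_dvd_mul (pow_dvd_pow 2 h4) e
  · obtain ⟨y, hy, rfl⟩ := dec x hx e
    rw [← mul_assoc, inv y hy, inv_mul_cancel]
  · obtain ⟨a, ha, rfl⟩ := dec x hx e
    obtain ⟨b, hb, rfl⟩ := dec y hy e'
    rw [← mul_assoc, inv a ha]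
    exact mul_mem (inv_mem ha) hb

theorem dh_of_not8 (hs : IsSimpleGroup G) (hn : ¬ IsMulCommutative G) (h8 : ¬ 8 ∣ Nat.card G) :
    DH G := by
  obtain ⟨-, t, s, ρ, h⟩ := exists_v4 hn (by rwa [card_top])
  have p := h.pair
  have h1 : t * s * (t * s) = 1 := by rw [p.comm.symm.mul_mul_mul_comm, p.t_sq, p.s_sq, one_mul]
  refine dh_of_pair p.t_sq p.s_sq (k := 1) (orderOf_eq_two h1 fun e => p.ne ?_) (fun e => ?_) h8
  · rw [eq_inv_of_mul_eq_one_left e, inv_eq_of_sq p.s_sq]
  · rcases (mem_zp h1).1 e with e | e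
    exacts [p.t_ne e, p.s_ne (by simpa using e)]

theorem exists_psl (hs : IsSimpleGroup G) (hn : ¬ IsMulCommutative G) (hD : DH G)
    (h7 : Nat.card G ≠ 2520) : ∃ (F : Type) (_ : Field F) (_ : Fintype F), 5 ≤ Fintype.card F ∧
      Odd (Fintype.card F) ∧ Nonempty (G ≃* PSL(2, F)) := by
  rcases gwd G ⊤ hD smp_top fun e => hn ⟨⟨fun a b => ab_iff.1 e a trivial b trivial⟩⟩ with
    ⟨F, _, _, h1, h2, ⟨e⟩⟩ | h
  · exact ⟨F, _, _, h1, h2, ⟨topEquiv.symm.trans e⟩⟩
  · exact absurd (card_top (G := G) ▸ h.card) h7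

theorem two_ne (h : Odd (Fintype.card F)) : (2 : F) ≠ 0 := fun h2 => by
  have := (FiniteField.even_card_iff_char_two (F := F)).1 (CharP.ringChar_of_prime_eq_zero
    Nat.prime_two h2)
  rw [Nat.odd_iff] at h
  omega

omit [Finite G] in
theorem card_eq (h : Odd (Fintype.card F)) (e : G ≃* PSL(2, F)) : 2 * Nat.card G =
    Fintype.card F * ((Fintype.card F - 1) * (Fintype.card F + 1)) := by
  rw [Nat.card_congr e.toEquiv, CIT.card_PSL2 (two_ne h)]

theorem iso_of_card {H : Type v} [Group H] [Finite H] (hs : IsSimpleGroup H)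
    (hn : ¬ IsMulCommutative H) (hD : DH H) (h7 : Nat.card H ≠ 2520)
    (hc : 2 * Nat.card H = Fintype.card F * ((Fintype.card F - 1) * (Fintype.card F + 1))) :
    Nonempty (PSL(2, F) ≃* H) := by
  obtain ⟨F', _, _, -, h2, ⟨e⟩⟩ := exists_psl hs hn hD h7
  have mono : StrictMono fun q : ℕ => (q + 1) * (q * (q + 2)) := fun a b hab => by
    have : a * (a + 2) ≤ b * (b + 2) := Nat.mul_le_mul hab.le (by omega)
    have : 0 < b * (b + 2) := Nat.mul_pos (by omega) (by omega)
    dsimp only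
    nlinarith
  have h3 := (card_eq h2 e).symm.trans hc
  obtain ⟨a, ha⟩ : ∃ a, Fintype.card F = a + 1 := ⟨_, (Nat.succ_pred_eq_of_pos Fintype.card_pos).symm⟩
  obtain ⟨b, hb⟩ : ∃ b, Fintype.card F' = b + 1 := ⟨_, (Nat.succ_pred_eq_of_pos Fintype.card_pos).symm⟩
  rw [ha, hb, Nat.add_sub_cancel, Nat.add_sub_cancel] at h3
  obtain ⟨e'⟩ := MN.psl_congr (FiniteField.ringEquivOfCardEq (K := F) (K' := F')
    (by rw [ha, hb, mono.injective h3]))
  exact ⟨e'.trans e.symm⟩

theorem card_A5 : Nat.card (alternatingGroup (Fin 5)) = 60 := by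
  rw [nat_card_alternatingGroup, Nat.card_fin]; rfl

theorem card_A6 : Nat.card (alternatingGroup (Fin 6)) = 360 := by
  rw [nat_card_alternatingGroup, Nat.card_fin]; rfl

theorem nab_of_card {H : Type v} [Group H] [Finite H] (hs : IsSimpleGroup H)
    (h : ¬ (Nat.card H).Prime) : ¬ IsMulCommutative H := fun hc => by
  let _ : CommGroup H := { mul_comm := hc.is_comm.comm }
  exact h IsSimpleGroup.prime_card

theorem simple_A5 : IsSimpleGroup (alternatingGroup (Fin 5)) :=
  alternatingGroup.isSimpleGroup (by simp)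

theorem simple_A6 : IsSimpleGroup (alternatingGroup (Fin 6)) :=
  alternatingGroup.isSimpleGroup (by simp)

theorem nab_A5 : ¬ IsMulCommutative (alternatingGroup (Fin 5)) :=
  nab_of_card simple_A5 (by rw [card_A5]; norm_num)

theorem nab_A6 : ¬ IsMulCommutative (alternatingGroup (Fin 6)) :=
  nab_of_card simple_A6 (by rw [card_A6]; norm_num)

theorem dh_A5 : DH (alternatingGroup (Fin 5)) := dh_of_not8 simple_A5 nab_A5 (by rw [card_A5]; norm_num)

theorem mem_s6 : Equiv.swap 0 1 * Equiv.swap 2 3 ∈ alternatingGroup (Fin 6) :=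
  Equiv.Perm.mem_alternatingGroup.2 (by decide)

theorem mem_t6 : Equiv.swap 0 2 * Equiv.swap 4 5 ∈ alternatingGroup (Fin 6) :=
  Equiv.Perm.mem_alternatingGroup.2 (by decide)

theorem dh_A6 : DH (alternatingGroup (Fin 6)) := by
  have := Fact.mk Nat.prime_two
  refine dh_of_pair (G := alternatingGroup (Fin 6)) (s := ⟨_, mem_s6⟩) (t := ⟨_, mem_t6⟩)
    (k := 2) (Subtype.ext (by decide)) (Subtype.ext (by decide))
    (orderOf_eq_prime_pow (fun e => absurd (congrArg Subtype.val e) (by decide))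
      (Subtype.ext (by decide))) (fun e => ?_) (by rw [card_A6]; norm_num)
  exact absurd (congrArg Subtype.val (mem_cent1.1
    (cent1_le_of_mem_zpowers e (mem_cent1_self _)))) (by decide)

theorem ks_of_psl (hE : E6 G) (h5 : 5 ≤ Fintype.card F) (h : Odd (Fintype.card F))
    (e : G ≃* PSL(2, F)) : KS G := by
  have hc := card_eq h e
  obtain ⟨g, hg⟩ := CIT.exists_dvd_SL2 (F := F) (.inr rfl)
  have h1 := hE.of_injective e.symm.toMonoidHom e.symm.injective (QuotientGroup.mk g)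
  have h2 : g ^ orderOf (QuotientGroup.mk g : PSL(2, F)) ∈ center SL(2, F) :=
    (QuotientGroup.eq_one_iff _).1 (by rw [QuotientGroup.mk_pow, pow_orderOf_eq_one])
  have h3 := (Nat.le_of_dvd Nat.card_pos (orderOf_dvd_natCard _ h2)).trans Lin.SL2.card_center_le
  have h4 := Nat.le_of_dvd (Nat.mul_pos (orderOf_pos _) (orderOf_pos _)) (hg.trans
    (orderOf_dvd_of_pow_eq_one (by rw [pow_mul, pow_orderOf_eq_one] :
      g ^ (orderOf (QuotientGroup.mk g : PSL(2, F)) *
        orderOf (g ^ orderOf (QuotientGroup.mk g : PSL(2, F)))) = 1)))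
  have h6 := Nat.mul_le_mul h1 h3
  have pr : ∀ r : ℕ, r.Prime → r ∣ Nat.card G → r = 2 ∨ r = 3 ∨ r = 5 := fun r hr hd =>
    hE.prime (L := ⊤) hr (by rwa [card_top])
  obtain k | k | k | k : Fintype.card F = 5 ∨ Fintype.card F = 7 ∨ Fintype.card F = 9 ∨
    Fintype.card F = 11 := by rw [Nat.odd_iff] at h; omega
  · obtain ⟨e'⟩ := iso_of_card simple_A5 nab_A5 dh_A5 (by rw [card_A5]; omega) (F := F) (by rw [card_A5, k])
    exact .inl ⟨e.trans e'⟩
  · have := pr 7 (by norm_num) (by rw [k] at hc; omega)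
    omega
  · obtain ⟨e'⟩ := iso_of_card simple_A6 nab_A6 dh_A6 (by rw [card_A6]; omega) (F := F) (by rw [card_A6, k])
    exact .inr ⟨e.trans e'⟩
  · have := pr 11 (by norm_num) (by rw [k] at hc; omega)
    omega

theorem not_seven (hE : E6 G) : ¬ 7 ∣ Nat.card G := fun e => by
  have := hE.prime (L := ⊤) (r := 7) (by norm_num) (by rwa [card_top])
  omega

end Idn

open Idn

theorem id1 : ID1.{u} := fun G _ _ hs hn hE hD => by
  obtain ⟨F, _, _, h1, h2, ⟨e⟩⟩ := exists_psl hs hn hD fun e => not_seven hE (by rw [e]; norm_num)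
  exact ks_of_psl hE h1 h2 e

theorem id2 : ID2.{u} := fun G _ _ hs hn hE hC => by
  have := Fact.mk Nat.prime_two
  have hns : ¬ Group.IsSolvable G := fun e => hn ⟨⟨IsSimpleGroup.comm_iff_isSolvable.2 e⟩⟩
  have hO : pCore 2 G = ⊥ := (hs.eq_bot_or_eq_top_of_normal _ inferInstance).resolve_right fun e =>
    hns (by
      have := (e ▸ Core.isPGroup_pCore 2 : IsPGroup 2 (⊤ : Subgroup G)).of_equiv topEquiv
      have := this.isNilpotent
      infer_instance)
  rcases hC.cases hns hO with ⟨S, t, h⟩ | ⟨F, _, _, h5, h9, ⟨e⟩⟩ | ⟨N, h1, h2, -⟩ | ⟨D, S, t, h⟩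
  · obtain ⟨m, hm, a, k, fr, -⟩ := h.exists_frame
    obtain ⟨x, hx, h1, -⟩ := I2.Kf.fr_gen fr h
    have h2 := fr.card_K
    have h3 := hE x
    rw [GaloisField.card 2 m (by omega)] at h2
    rw [← Nat.card_zpowers, h1, h2] at h3
    obtain rfl : m = 2 := by
      by_contra e
      have := Nat.pow_le_pow_right two_pos (show 3 ≤ m by omega)
      omega
    have h4 : orderOf x = 3 := by rw [← Nat.card_zpowers, h1, h2]; rfl
    have h5 := fun y => h.mul_self_of_three (y := y) hx (by rintro rfl; simp at h4)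
      (h4 ▸ pow_orderOf_eq_one x)
    obtain ⟨n, -, h6, h7, -⟩ := h.main fun y hy j hj => (h.comm hy (h5 y hy) (h.K_conj_mem hj hy)).symm
    have h8 := Nat.one_le_two_pow (n := n)
    refine id1 G hs hn hE (dh_of_not8 hs hn ?_)
    rw [h.card_eq, h2, show ♯S = 4 by omega]
    norm_num
  · refine ks_of_psl hE h5 ?_ e
    rcases h9 with h9 | ⟨h9, -⟩
    exacts [h9 ▸ by decide, h9.odd_of_ne_two (by omega)]
  · rcases hs.eq_bot_or_eq_top_of_normal N h1 with rfl | rfl
    · rw [index_bot] at h2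
      exact absurd (isCyclic_of_prime_card h2).isMulCommutative hn
    · simp at h2
  · exact absurd (by rw [NS.Ka.card_par h hO]; norm_num) (not_seven hE)

end Cfsg.Agent.OE
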