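import Cfsg.Agent.Lib.OE.Basic
import Cfsg.Agent.Lib.ZL.SEB
import Cfsg.Agent.Lib.SEA.Lin
import Cfsg.Agent.Lib.GW.Lift

/-!
# Package SE0: no strongly embedded subgroup in rank at least three
-/

set_option autoImplicit false

namespace Cfsg.Agent.OE

open Subgroup Cfsg.Agent.OO Cfsg.Agent.Coprime GW
open scoped Pointwise

universe u

namespace Se

variable {G : Type u} [Group G] [Finite G] {A D E X : Subgroup G}

theorem not_trans (hE : E6 G) (hA : IsElementaryAbelian 2 A) (h8 : 8 ≤ ♯A) (hD : D ≤ 𝐍(A))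
    (ho : Odd ♯D) (tr : ∀ s ∈ A, s ≠ 1 → ∀ t ∈ A, t ≠ 1 → ∃ g ∈ D, g * s * g⁻¹ = t) : False := by
  obtain ⟨n, hn⟩ := (abelem_isPGroup hA).exists_card_eq
  have h0 : A ≠ ⊥ := fun e => by simp [e] at h8
  obtain ⟨T, f, hT⟩ := SEA.exists_lin hA h0 hD (fun e => Nat.not_even_iff_odd.2 ho
    (even_iff_two_dvd.2 (e.trans (relIndex_dvd_card _ _)))) hn tr
  obtain ⟨a, ha, a1⟩ := exists_mem_ne_one h0
  have h1 : (𝐂[a]).relIndex D = ♯A - 1 := by
    rw [relIndex_centralizer_eq_ncard, ← ncard_sharp]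
    congr 1
    refine Set.ext fun v => ⟨?_, fun hv => ?_⟩
    · rintro ⟨l, hl, rfl⟩
      exact conj_mem_sharp (hD hl) ⟨ha, a1⟩
    · obtain ⟨g, hg, e⟩ := tr a ha a1 v hv.1 hv.2
      exact ⟨g, hg, e.symm⟩
  have h2 := zpowers_le.2 (norm_le_norm_cent A (hD (hT.le hT.f_mem)))
  have h3 : (𝐂(A)).relIndex T ∣ orderOf f := by
    refine (relIndex_dvd_of_le_norm (K := zpowers f ⊔ 𝐂(A)) (fun t ht => ?_)
      (sup_le h2 le_normalizer)).trans ?_
    · obtain ⟨i, hi⟩ := hT.gen t ht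
      simpa using mul_mem (mem_sup_left (npow_mem_zpowers f i)) (mem_sup_right hi)
    · rw [relIndex_sup_eq (.inl h2), ← Nat.card_zpowers]
      exact relIndex_dvd_card _ _
  have h4 : 2 ^ n - 1 ∣ orderOf f * n := by
    rw [← hn, ← h1]
    refine (relIndex_dvd_of_le_left D (cent_le_cent1 ha)).trans ?_
    rw [← inf_relIndex_left, ← relIndex_mul_relIndex _ T _ hT.cent_le hT.le,
      show (D ⊓ 𝐂(A)).relIndex T = (𝐂(A)).relIndex T by
        rw [← inf_relIndex_left T, ← inf_assoc, inf_eq_left.2 hT.le, inf_relIndex_left]]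
    exact mul_dvd_mul h3 hT.index
  have h5 := odd_of_mem ho (hT.le hT.f_mem)
  have h6 := hE f
  rw [hn] at h8
  have h7 : 3 ≤ n := (Nat.pow_le_pow_iff_right (a := 2) (by norm_num)).1 h8
  generalize orderOf f = o at h4 h5 h6
  obtain ⟨m, rfl⟩ : ∃ m, n = m + 3 := ⟨n - 3, by omega⟩
  have h9 : o = 1 ∨ o = 3 ∨ o = 5 := by obtain ⟨k, rfl⟩ := h5; omega
  rcases m with _ | _ | m
  · rcases h9 with rfl | rfl | rfl <;> simp at h4
  · rcases h9 with rfl | rfl | rfl <;> simp at h4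
  have h10 := Nat.le_of_dvd (by rcases h9 with rfl | rfl | rfl <;> omega) h4
  have h11 := Nat.lt_two_pow_self (n := m)
  rw [show m + 1 + 1 + 3 = m + 5 by ring, pow_add] at h10
  rcases h9 with rfl | rfl | rfl <;> omega

theorem KS.even (h : KS G) : 2 ∣ Nat.card G := by
  rcases h with ⟨⟨e⟩⟩ | ⟨⟨e⟩⟩ <;>
    rw [Nat.card_congr e.toEquiv, nat_card_alternatingGroup] <;> simp [Nat.factorial]

theorem KS.no_e8 (h : KS G) (hE : IsElementaryAbelian 2 E) (h8 : ♯E = 8) : False := by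
  rcases h with ⟨⟨e⟩⟩ | ⟨⟨e⟩⟩
  · have := card_subgroup_dvd_card E
    rw [h8, Nat.card_congr e.toEquiv, nat_card_alternatingGroup] at this
    simp [Nat.factorial] at this
  have h1 : Nat.card G = 360 := by
    rw [Nat.card_congr e.toEquiv, nat_card_alternatingGroup]; simp [Nat.factorial]
  have h2 : Syl 2 E ⊤ := ⟨le_top, abelem_isPGroup hE, by
    have := card_mul_relIndex (le_top : E ≤ ⊤)
    rw [h8, card_top, h1] at this
    omega⟩
  obtain ⟨x, h3, h4⟩ : ∃ x : alternatingGroup (Fin 6), x ^ 2 ^ (1 + 1) = 1 ∧ x ^ 2 ≠ 1 :=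
    ⟨⟨.swap 0 1 * .swap 1 2 * .swap 2 3 * .swap 4 5, Equiv.Perm.mem_alternatingGroup.2 (by decide)⟩,
      Subtype.ext (by decide), fun e => absurd (congrArg Subtype.val e) (by decide)⟩
  obtain ⟨g, -, h5⟩ := h2.exists_conj_le (le_top : zpowers (e.symm x) ≤ ⊤) (IsPGroup.of_card (n := 2) (by
    rw [Nat.card_zpowers, e.symm.orderOf_eq, orderOf_eq_prime_pow (n := 1) (by simpa using h4) h3]))
  have h6 := hE.2 _ (h5 (conj_mem_conj (mem_zpowers _)))
  rw [conj_pow, conj_eq_one_iff, ← map_pow] at h6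
  exact h4 (e.symm.injective (h6.trans (map_one _).symm))

theorem false_of (ns0 : NS0.{u}) (hE : E6 G) (ih : IH.{u} (♯X + 1)) (h0 : O X = ⊥) (hD : D ≤ X)
    (ho : Odd ♯D) (tr : ∀ s ∈ X, s ≠ 1 → s * s = 1 → ∀ t ∈ X, t ≠ 1 → t * t = 1 →
      ∃ g ∈ D, g * s * g⁻¹ = t) (h1 : E ≤ X) (h2 : IsElementaryAbelian 2 E) (h8 : ♯E = 8) : False := by
  have sq : ∀ {A : Subgroup G} {a}, IsElementaryAbelian 2 A → a ∈ A → a * a = 1 :=
    fun h ha => (pow_two _).symm.trans (h.2 _ ha)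
  by_cases h3 : Op 2 X = ⊥
  · by_cases h4 : Sol X
    · obtain ⟨p, hp, e⟩ := exists_Op_ne_bot h4 fun e => by simp [le_bot_iff.1 (e ▸ h1)] at h8
      have := Fact.mk hp
      by_cases p2 : p = 2
      · exact e (p2 ▸ h3)
      obtain ⟨k, hk⟩ := (Op_isPGroup p X).exists_card_eq
      exact e (le_bot_iff.1 (h0 ▸ le_O (Op_normal p X) (hk ▸ (hp.odd_of_ne_two p2).pow)))
    obtain ⟨N, hN, h5, -⟩ := ns0 X (hE.sub X) ih h4
    have h6 : pCore 2 X = ⊥ := (map_eq_bot_iff_of_injective _ X.subtype_injective).1 h3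
    have h7 : Function.Injective (QuotientGroup.mk' (pCore 2 X)) := by
      rw [← MonoidHom.ker_eq_bot_iff, QuotientGroup.ker_mk', h6]
    obtain ⟨z, hz, z1, z2⟩ := R1.exists_invol_mem (H := N) (KS.even h5)
    obtain ⟨z, rfl⟩ := QuotientGroup.mk'_surjective _ z
    have h9 : (E.subgroupOf X).map (QuotientGroup.mk' (pCore 2 X)) ≤ N := by
      rintro _ ⟨t, ht, rfl⟩
      by_cases t1 : t = 1
      · rw [t1, map_one]; exact one_mem _
      obtain ⟨g, hg, e⟩ := tr z z.2 (fun e => z1 (by rw [show z = 1 from Subtype.ext e]; exact map_one _))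
        (congrArg Subtype.val (h7 ((map_mul _ z z).trans (z2.trans (map_one _).symm)))) t t.2
        (fun e => t1 (Subtype.ext e)) (sq h2 ht)
      rw [show t = ⟨g, hD hg⟩ * z * ⟨g, hD hg⟩⁻¹ from Subtype.ext e.symm, map_mul, map_mul, map_inv]
      exact hN.conj_mem _ hz _
    refine KS.no_e8 h5 (abelem_congr (subgroupOfEquivOfLe h9).symm (abelem_map
      (abelem_congr (subgroupOfEquivOfLe h1).symm h2) _)) ?_
    rw [Nat.card_congr (subgroupOfEquivOfLe h9).toEquiv, card_map_of_injective h7,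
      Nat.card_congr (subgroupOfEquivOfLe h1).toEquiv, h8]
  have h4 := Ohm_abelem 2 (Zc_ab (Op 2 X))
  have h5 : X ≤ 𝐍(Ohm 2 (Zc (Op 2 X))) := (Op_normal 2 X).norm.trans
    ((norm_le_norm_Zc _).trans (norm_le_norm_Ohm _ _))
  have h6 : Ohm 2 (Zc (Op 2 X)) ≤ X := (Ohm_le _ _).trans ((Zc_le _).trans (Op_normal 2 X).le)
  obtain ⟨z, hz, z1⟩ := exists_mem_ne_one (Ohm_ne_bot ((Op_isPGroup 2 X).to_le (Zc_le _))
    (Zc_ne_bot (nil_of_isPGroup (Op_isPGroup 2 X)) h3))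
  refine not_trans hE h4 (h8 ▸ card_le_of_le fun t ht => ?_) (hD.trans h5) ho
    fun s hs s1 t ht t1 => tr s (h6 hs) s1 (sq h4 hs) t (h6 ht) t1 (sq h4 ht)
  by_cases t1 : t = 1
  · exact t1 ▸ one_mem _
  obtain ⟨g, hg, rfl⟩ := tr z (h6 hz) z1 (sq h4 hz) t (h1 ht) t1 (sq h2 ht)
  exact conj_mem_of_norm (h5 (hD hg)) hz

end Se

theorem se0 (ns0 : NS0.{u}) : SE0.{u} := fun G _ _ M _ hE ih ⟨E, hA⟩ h => by
  obtain ⟨w, hw, w2⟩ := h.exists_out
  obtain ⟨S, hS⟩ := exists_syl 2 M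
  obtain ⟨g, -, h1⟩ := (h.syl hS).exists_conj_le le_top (abelem_isPGroup hA.2.1)
  have h2 := h1.trans hS.le
  have lift : ∀ s ∈ M ⁒ O M, s ≠ 1 → s * s = 1 → ∃ x ∈ M, orderOf x = 2 ∧ coset (O M) x = s :=
    fun s hs s1 s2 => by
      obtain ⟨x, hx, x1, x2, rfl⟩ := exists_piElt_coset_eq (π := {2}) hs
        (isPGroup_zpowers_iff.1 (abelem_isPGroup (abelem_zpowers ((pow_two s).trans s2))))
      rw [← coset_mul x1 x1, coset_eq_one_iff (mul_mem x1 x1), ← pow_two] at s2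
      exact ⟨x, hx, orderOf_eq_prime ((x2.pow 2).eq_one ((odd_iff.1 (odd_O M)).piElt s2))
        fun e => s1 (e ▸ coset_one _), rfl⟩
  refine Se.false_of ns0 (hE.coset (O M)) (X := M ⁒ O M) (D := (M ⊓ w •ᶜ M) ⁒ O M)
    (E := (g •ᶜ E) ⁒ O M) (fun X _ _ e => ih X ?_) (O_quo M) (quo_mono _ inf_le_left)
    (odd_quo (Nat.not_even_iff_odd.1 fun e => h.odd w hw e.two_dvd) _) (fun s hs s1 s2 t ht t1 t2 => ?_)
    (quo_mono _ h2) (abelem_quo (abelem_conj.2 hA.2.1) _) ?_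
  · have := card_lt_of_lt (lt_top_iff_ne_top.2 h.ne)
    have := card_quo_le M (O M)
    rw [card_top] at *
    omega
  · obtain ⟨x, hx, x2, rfl⟩ := lift s hs s1 s2
    obtain ⟨y, hy, y2, rfl⟩ := lift t ht t1 t2
    obtain ⟨k, hk, -, rfl⟩ := h.exists_conj hw w2 hx x2 hy y2
    exact ⟨_, coset_mem_quo _ hk, (coset_conj (O_norm M hk.1) (O_norm M hx)).symm⟩
  · rw [card_quo_of_coprime (h2.trans (O_norm M)) (by
      rw [card_conj, hA.2.2]
      exact (Nat.coprime_two_right.2 (odd_O M)).pow_right 3), card_conj, hA.2.2]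
    rfl

end Cfsg.Agent.OE
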