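import Cfsg.Agent.Lib.OE.L1

/-!
# Package SG of plan OE: the signalizer functor `t ↦ O(C(t))`
-/

set_option autoImplicit false
set_option linter.unusedSectionVars false

namespace Cfsg.Agent.OE

open Subgroup Cfsg.Agent.OO Cfsg.Agent.Coprime GW GW2 NS.Sg
open scoped Pointwise

universe u

namespace Sg

variable {G : Type u} [Group G] [Finite G] {A E T : Subgroup G} {a e f g u z : G}

/-- the configuration -/
structure St (T E : Subgroup G) (z f : G) : Prop extends NF T z f where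
  ep : IsEp 2 3 E T
  perf : der (⊤ : Subgroup G) = ⊤

namespace St

variable (h : St T E z f)
include h

theorem ep2 : IsEp 2 2 (S4 z f) T := isEp h.p h.zT h.fT

theorem le : T ≤ 𝐍(ZN.KK (S4 z f)) := h.normal.norm.trans (ZN.norm_le_norm_KK _)

theorem KK_eq (hA : IsEp 2 3 A T) : ZN.KK A = ZN.KK (S4 z f) := by
  have h1 := abelem_of_le hA.abelem (inf_le_left : A ⊓ 𝐂(S4 z f) ≤ A)
  have h2 := ZN.not_isCyclic_of_card h1 (lt_of_lt_of_le (by norm_num)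
    (card_inf_cent h.ep2.top hA.top (hA.le.trans h.normal.norm)))
  rw [ZN.KK_eq_KK h.e6.hc hA.abelem h1 (hA.not_isCyclic (by norm_num)) h2
    (hA.le_cent.trans (cent_anti inf_le_left)),
    ZN.KK_eq_KK h.e6.hc h1 h.ep2.abelem h2 (h.ep2.not_isCyclic le_rfl) inf_le_right]

theorem KK_eq' (hA : IsEp 2 3 A 𝐍(ZN.KK (S4 z f))) : ZN.KK A = ZN.KK (S4 z f) := by
  obtain ⟨m, hm, h1⟩ := (h.syl.mono h.le le_top).exists_conj_le hA.le hA.isPGroup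
  have h2 := h.KK_eq ((hA.conj m).of_le h1)
  rw [ZN.KK_conj] at h2
  rw [← inv_conj_conj m (ZN.KK A), h2, conj_eq_of_mem_norm (inv_mem hm)]

theorem mem (hA : IsEp 2 3 A 𝐍(ZN.KK (S4 z f))) (hg : g •ᶜ A ≤ 𝐍(ZN.KK (S4 z f))) :
    g ∈ 𝐍(ZN.KK (S4 z f)) := by
  have h1 := h.KK_eq' ((hA.conj g).of_le hg)
  rwa [ZN.KK_conj, h.KK_eq' hA, conj_eq_self_iff] at h1

theorem th_le (hu : u ∈ 𝐂(S4 z f)) (u2 : orderOf u = 2) : ZN.th u ≤ ZN.KK (S4 z f) :=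
  ZN.th_le_KK h.e6.hc u2 h.ep2.abelem (h.ep2.not_isCyclic le_rfl) (le_cent1_iff.2 hu)

theorem not_le : ¬ E ⊓ 𝐂[f] ≤ S4 z f := fun h1 => by
  have h2 : E ⊓ 𝐂(S4 z f) = S4 z f := eq_of_le_of_card_le
    (le_trans (inf_le_inf_left _ (cent_le_cent1 (s_mem_S4 z f))) h1)
    (h.p.card ▸ card_inf_cent h.ep2.top h.ep.top (h.ep.le.trans h.normal.norm))
  have h3 : f ∈ E := (h2.ge (s_mem_S4 z f)).1
  have h4 := card_le ((le_inf le_rfl (h.ep.le_cent.trans (cent_le_cent1 h3))).trans h1)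
  rw [h.ep.card, h.p.card] at h4
  omega

theorem exists_ep : ∃ A, IsEp 2 3 A T ∧ S4 z f ≤ A := by
  obtain ⟨e, he, h1⟩ := SetLike.not_le_iff_exists.1 h.not_le
  exact ⟨_, isEp3 h.p h.zT h.fT (h.ep.le he.1) (h.cent (h.ep.le he.1)) he.2
    (by rw [← pow_two]; exact h.ep.abelem.2 e he.1) h1, le_sup_left⟩

theorem cz : 𝐂[z] ≤ 𝐍(ZN.KK (S4 z f)) :=
  h.cz_le (le_norm_of_le (h.th_le (le_cent1_iff.1 h.p.le_cent) (orderOf_eq_two h.p.t2 h.p.t1))) h.le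
    fun y hy _ e => by
      have h1 := h.ep2.conj y
      rw [← conj_eq_self_iff, ← ZN.KK_conj, ZN.KK_eq_KK h.e6.hc h1.abelem h.ep2.abelem
        (h1.not_isCyclic le_rfl) (h.ep2.not_isCyclic le_rfl)]
      rw [conj_S4, mem_cent1_iff_conj.1 hy.1, cent_S4]
      exact S4_le.2 ⟨⟨mem_cent1_self z, h.p.t_mem⟩, h.cent e.1, e.2⟩

theorem exists_ep_mem (hg : g * z * g⁻¹ ∈ T) : ∃ A, IsEp 2 3 A 𝐂[z] ∧ g * z * g⁻¹ ∈ A := by
  obtain ⟨A, hA, h1⟩ := h.exists_ep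
  have a2 := conj_sq h.p.t2 g
  have h0 := h.sylC.conj g
  rw [← cent1_conj] at h0
  by_cases h2 : g * z * g⁻¹ ∈ S4 z f
  · exact ⟨A, hA.mono h.cent, h1 h2⟩
  by_cases h3 : g * z * g⁻¹ ∈ 𝐂[f]
  · exact ⟨_, (isEp3 h.p h.zT h.fT hg (h.cent hg) h3 a2 h2).mono h.cent,
      mem_sup_right (mem_zpowers _)⟩
  have p := h.za hg a2 h3
  by_contra h4
  have h5 : ∀ e ∈ 𝐂[z], e ∈ 𝐂[g * z * g⁻¹] → e * e = 1 → e ∈ S4 z (g * z * g⁻¹) :=
    fun e he he' e2 => by_contra fun h5 => h4 ⟨_, isEp3 p (mem_cent1_self z) (h.cent hg) he he he' e2 h5,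
      mem_sup_left (s_mem_S4 _ _)⟩
  rcases h.out hg a2 h3 (fun e he => h5 e (h.cent he.1) he.2) with h6 | ⟨c, hc, -, e⟩
  · have h7 := Nat.le_of_dvd (by rw [h.p.card]; exact Nat.mul_pos (by norm_num) Nat.card_pos)
      (card_sup_dvd (A := S4 z f) (B := zpowers _) (Or.inr (zpowers_le.2 (h.normal.norm hg))))
    rw [← h6, h.p.card, Nat.card_zpowers, orderOf_eq_two a2 p.e1] at h7
    have h8 : E = T := eq_of_le_of_card_le h.ep.le (by rw [h.ep.card]; omega)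
    exact h3 (mem_cent1.2 (ab_iff.1 (h8 ▸ h.ep.ab) _ hg _ h.fT))
  obtain ⟨k, hk, h6⟩ := h0.exists_le_conj' (zpowers_le.2 hc.2)
    (h.syl.isPGroup.to_le (zpowers_le.2 hc.1))
  rw [conj_conj] at h6
  have h7 := h.toNF.conj (k * g)
  have h8 := h7.sq_mem_C (h6 (mem_zpowers c))
  have h9 := hA.conj (k * g)
  have h10 := conj_mono (k * g) h1
  rw [e, mem_cent1_comm] at h8
  rw [conj_S4] at h10
  rw [mul_cj k g z, mem_cent1_iff_conj.1 hk] at h7 h10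
  have h11 := eq_of_le_of_card_le (S4_le.2 ⟨s_mem_S4 z _, h5 _ h8 h7.p.e_mem h7.p.e2⟩)
    (by rw [p.card, h7.p.card])
  have h12 := h9.le_cent.trans (cent_anti (h11 ▸ h10))
  rw [cent_S4] at h12
  have := card_le (show (k * g) •ᶜ A ≤ S4 z (g * z * g⁻¹) from fun x hx =>
    h5 x (h12 hx).1 (h12 hx).2 ((sq x).symm.trans (h9.abelem.2 x hx)))
  rw [h9.card, p.card] at this
  omega

theorem fus (g : G) (hg : g * z * g⁻¹ ∈ T) : g ∈ 𝐍(ZN.KK (S4 z f)) := by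
  obtain ⟨A, hA, h1⟩ := h.exists_ep_mem hg
  refine inv_mem_iff.1 (h.mem (hA.mono h.cz) (le_trans ?_ h.cz))
  rw [← le_conj_iff_inv_conj_le, ← cent1_conj]
  exact hA.le_cent.trans (cent_le_cent1 h1)

theorem good : ZN.Good T ⊤ (ZN.KK (S4 z f)) z := by
  have hW := h.ep2
  have hC := h.e6.hc
  have z2 := orderOf_eq_two h.p.t2 h.p.t1
  refine ⟨h.KK_eq h.ep ▸ ZN.KK_odd hC h.ep.abelem h.ep.card.ge, h.le, h.fus, fun t _ ht2 => ?_⟩
  obtain ⟨g, hg⟩ := h.exists_conj h.perf (ZN.mul_self_of_inv ht2)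
  have h1 : orderOf (g * t * g⁻¹) = 2 := by rwa [orderOf_conj]
  suffices 𝐂[g * t * g⁻¹] ≤ 𝐍(ZN.KK (S4 z f)) ∧ ZN.th (g * t * g⁻¹) ≤ ZN.KK (S4 z f) by
    rw [cent1_conj, ZN.th_conj, conj_le_iff_le_inv_conj, conj_le_iff_le_inv_conj] at this
    exact ⟨g⁻¹, this⟩
  generalize g * t * g⁻¹ = u at hg h1
  have h0 : u ∈ 𝐂(S4 z f) := (cent_S4 z f).ge ⟨h.cent hg.1, hg.2⟩
  have h2 : S4 z f ≤ 𝐂[u] := le_cent1_iff.2 h0
  refine ⟨?_, h.th_le h0 h1⟩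
  obtain ⟨R, hR, h3⟩ := exists_syl_ge (inf_le_right : T ⊓ 𝐂[u] ≤ _)
    (h.syl.isPGroup.to_le inf_le_left)
  obtain ⟨k, -, hk⟩ := h.syl.exists_le_conj' le_top hR.isPGroup
  have hu : u ∈ R := h3 ⟨hg.1, mem_cent1_self u⟩
  have h4 := ZN.conj_le_Zc hR hu hk (zpowers_le.2 ⟨h.zT, le_cent1_iff.1 h.cent⟩) (two_elt h.p.t2)
  rw [conj_zpowers] at h4
  by_cases e : zpowers u = zpowers (k * z * k⁻¹)
  · have h5 : k⁻¹ ∈ 𝐍(ZN.KK (S4 z f)) := h.fus _ (by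
      simpa using OO.mem_conj.1 (hk (h3 ⟨h.zT, h2 (t_mem_S4 z f)⟩)))
    rw [← cent_zpowers, e, cent_zpowers, cent1_conj]
    exact conj_le_of_mem (inv_mem_iff.1 h5) h.cz
  · have hu' : u ∈ Zc R := ⟨hu, le_cent1_iff.1 hR.le⟩
    have h5 := (isEp_zpowers hu' h1).sup_two (isEp_zpowers (h4 (mem_zpowers _))
      ((orderOf_conj k z).trans z2)) (h4.trans (inf_le_right.trans (cent_anti (zpowers_le.2 hu)))) e
    rw [← ZN.KK_eq_KK hC h5.abelem hW.abelem (h5.not_isCyclic le_rfl) (hW.not_isCyclic le_rfl)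
      (h5.le.trans (inf_le_right.trans (cent_anti ((le_inf hW.le h2).trans h3))))]
    exact ZN.cent_le_norm_KK hC h1 hR h5.abelem (h5.not_isCyclic le_rfl) h5.le

end St

end Sg

theorem sg : SG.{u} := by
  intro G _ _ hs hn h6 ⟨E, hE⟩
  obtain ⟨T, hT, h1⟩ := exists_syl_ge (M := ⊤) le_top hE.isPGroup
  obtain ⟨z, f, p, h2, h3⟩ := exists_four hT.isPGroup (hE.of_le h1)
  have hK := Sg.St.good ⟨⟨h6, hT, p, h2, h3⟩, hE.of_le h1,
    (hs.eq_bot_or_eq_top_of_normal _ (normalIn_top.1 (der_normal ⊤))).resolve_left fun e' =>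
      hn ⟨⟨fun x y => ab_iff.1 (ab_iff_der.2 e') x (mem_top x) y (mem_top y)⟩⟩⟩
  generalize ZN.KK (S4 z f) = K at hK
  have h4 := (hE.of_le h1).dvd_card (by norm_num)
  by_cases h0 : K = ⊥
  · refine .inr (ZN.locChar_of_th h6.hc le_top fun t ht ht2 => ?_)
    obtain ⟨k, -, hk⟩ := hK.cent t ht ht2
    simpa [h0] using hk
  refine .inl ⟨𝐍(K), fun e => hK.odd ?_, h4.trans (card_dvd hK.le), fun g hg => ?_⟩
  · rw [(hs.eq_bot_or_eq_top_of_normal K (normalIn_top.1 ⟨le_top, e.ge⟩)).resolve_left h0]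
    exact h4.trans (card_dvd le_top)
  · simpa using ZN.odd_inf_conj (H := ⊤) hT (le_cent1_iff.1 h3) (orderOf_eq_two p.t2 p.t1) hK.le hK.fus
      (fun t ht ht2 => (hK.cent t ht ht2).imp fun _ e => e.1) hg

end Cfsg.Agent.OE
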