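import Cfsg.Agent.Lib.OE.Basic
import Cfsg.Agent.Lib.Frob.TwoFrob
import Cfsg.Agent.Lib.Frob.QuatSquare
import Cfsg.Agent.Lib.Coprime.TwoGen
import Cfsg.Agent.Lib.PGrp.ClassTwo
import Cfsg.Agent.S4021

/-!
# Package SOLV of plan OE: solvable groups with element orders exactly `1, …, 6`
-/

set_option autoImplicit false
set_option linter.unusedSectionVars false

namespace Cfsg.Agent.OE

open Subgroup Cfsg.Agent.OO Cfsg.Agent.Coprime GW GW2
open scoped Pointwise MatrixGroups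

universe u

namespace SOLV

variable {G : Type u} [Group G] [Finite G] {g w x y z : G}

theorem eq_of_mem_three (y3 : y ^ 3 = 1) (y1 : y ≠ 1) (hx : x ∈ zpowers y) (x1 : x ≠ 1) :
    x = y ∨ x = y⁻¹ := by
  obtain ⟨k, rfl⟩ := hx
  have h := zpow_mod_orderOf y k
  rw [orderOf_three y3 y1] at h
  have h0 : k % ((3 : ℕ) : ℤ) = 0 ∨ k % ((3 : ℕ) : ℤ) = 1 ∨ k % ((3 : ℕ) : ℤ) = 2 := by omega
  change y ^ k ≠ 1 at x1
  change y ^ k = y ∨ y ^ k = y⁻¹
  rw [← h] at x1 ⊢
  rcases h0 with e | e | e <;> rw [e] at x1 ⊢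
  · exact absurd (zpow_zero y) x1
  · exact .inl (zpow_one y)
  · exact .inr (by rw [inv_eq_of_cube y3, zpow_two])

theorem card_dvd (h : Frob.IsFC G) (hE : E6 G) (h5 : ∀ c : G, orderOf c ≠ 5) :
    Nat.card G ∣ 24 := by
  refine (Nat.dvd_iff_prime_pow_dvd_dvd _ _).2 fun p k hp hk => ?_
  have := Fact.mk hp
  obtain ⟨P, hP⟩ := Sylow.exists_subgroup_card_pow_prime p hk
  rw [← hP]
  rcases h.isCyclic_or_quaternion (IsPGroup.of_card hP) with hc | ⟨-, j, hj, ⟨e⟩⟩
  · obtain ⟨c, hc⟩ := IsCyclic.exists_ofOrder_eq_natCard (α := P)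
    rw [← hc, ← orderOf_coe]
    have := h5 c
    rcases hE.cases c with e | e | e | e | e | e <;> rw [e] at this ⊢ <;> omega
  · have h1 := (hE.sub P).of_injective e.symm.toMonoidHom e.symm.injective (QuaternionGroup.a 1)
    rw [QuaternionGroup.orderOf_a_one] at h1
    obtain rfl : j = 1 := by
      by_contra hc
      have := Nat.pow_le_pow_right (show 0 < 2 by norm_num) (show 2 ≤ j by omega); omega
    rw [Nat.card_congr e.toEquiv, PGrp.nat_card_quaternionGroup]; decide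

theorem a4 : ∀ a : alternatingGroup (Fin 4), a * a * (a * a) = 1 → a * a = 1 := by decide +kernel

/-- the Frobenius complements that occur -/
theorem fc (h : Frob.IsFC G) (hE : E6 G) (w4 : w * w * (w * w) = 1) (w2 : w * w ≠ 1)
    (y3 : y ^ 3 = 1) (y1 : y ≠ 1) :
    Nonempty (G ≃* QuaternionGroup 3) ∨ Nonempty (G ≃* SL(2, ZMod 3)) := by
  obtain ⟨z, hzw⟩ : ∃ z, z = w * w := ⟨_, rfl⟩
  rw [← hzw] at w4 w2
  have oz : orderOf z = 2 := orderOf_eq_prime (by rwa [sq]) w2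
  have zc : ∀ g, g * z = z * g := mem_center_iff.1 (h.mem_center_of_orderOf_eq_two oz)
  have hz : ∀ u, u * u = 1 → u ∈ zpowers z := fun u hu => by
    by_cases u1 : u = 1
    · exact u1 ▸ one_mem _
    · exact h.eq_of_orderOf_eq_two oz (orderOf_eq_prime (by rwa [sq]) u1) ▸ mem_zpowers z
  have oy := orderOf_three y3 y1
  have ox : orderOf (y * z) = 2 * 3 := by
    rw [Commute.orderOf_mul_eq_mul_orderOf_of_coprime (zc y) (by rw [oy, oz]; decide), oy, oz]
  have x3 : (y * z) ^ 3 = z := by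
    rw [Commute.mul_pow (zc y), y3, one_mul, pow_succ, sq, w4, one_mul]
  have zx : z ∈ zpowers (y * z) := by
    have := pow_mem (mem_zpowers (y * z)) 3; rwa [x3] at this
  have yx : y ∈ zpowers (y * z) := by simpa using mul_mem (mem_zpowers (y * z)) (inv_mem zx)
  have h5 : ∀ c : G, orderOf c ≠ 5 := fun c e => w2 (by
    have := hE.no5 e (zc c).symm
    rwa [show 5 = 2 * 2 + 1 by rfl, pow_succ, pow_mul, sq z, w4, one_pow, one_mul] at this)
  have wy : w * y ≠ y * w := fun e => w2 (hzw ▸ hE.no12 y3 y1 e (hzw ▸ w4))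
  have hC : ∀ c, c * y = y * c → c ∈ zpowers (y * z) := fun c hc => by
    have c6 : c ^ 6 = 1 := by
      rw [← orderOf_dvd_iff_pow_eq_one]
      have := h5 c
      rcases hE.cases c with e | e | e | e | e | e <;> rw [e] at this ⊢ <;> try omega
      have c4 : c * c * (c * c) = 1 := by
        rw [← pow_orderOf_eq_one c, e]; simp only [pow_succ, pow_zero, one_mul, mul_assoc]
      have := orderOf_dvd_of_pow_eq_one ((sq c).trans (hE.no12 y3 y1 hc c4))
      rw [e] at this; omega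
    have h1 : c ^ 3 ∈ zpowers (y * z) :=
      zpowers_le.2 zx (hz _ (by rw [← pow_add, c6]))
    have h2 : c ^ 2 ∈ zpowers (y * z) := zpowers_le.2 yx (h.mem_zpowers_of_commute Nat.prime_three oy
      (by rw [← pow_mul, c6]) (Commute.pow_right hc.symm 2))
    have := mul_mem h1 (inv_mem h2)
    rwa [show c ^ 3 * (c ^ 2)⁻¹ = c by group] at this
  have hC' : ∀ c ∈ zpowers (y * z), c * y = y * c := fun c hc => by
    refine mem_cent1.1 ((zpowers_le.2 (?_ : y * z ∈ 𝐂[y])) hc)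
    rw [mem_cent1, mul_assoc, ← zc]
  have h24 := card_dvd h hE h5
  have h12 : 4 * 3 ∣ Nat.card G := by
    refine Nat.Coprime.mul_dvd_of_dvd_of_dvd (by decide) ?_ (oy ▸ orderOf_dvd_natCard y)
    have h4 : orderOf w = 2 ^ (1 + 1) := orderOf_eq_prime_pow (by simpa [sq, ← hzw] using w2)
      (by rw [← w4, hzw, show 2 ^ (1 + 1) = 4 by rfl]; simp only [pow_succ, pow_zero, one_mul, mul_assoc])
    exact (show 4 = orderOf w from h4.symm) ▸ orderOf_dvd_natCard w
  by_cases hn : (zpowers y).Normal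
  · have hi : ∀ g, g * y * g⁻¹ = y ∨ g * y * g⁻¹ = y⁻¹ := fun g =>
      eq_of_mem_three y3 y1 (hn.conj_mem _ (mem_zpowers y) g) (conj_ne_one y1 g)
    have wi := (hi w).resolve_left fun e => wy (comm_of_conj_eq e)
    have hw : w ∉ zpowers (y * z) := fun e => wy (hC' w e)
    have i2 : (zpowers (y * z)).index = 2 := index_eq_two_iff_exists_notMem_and.2 ⟨w, hw, fun b => by
      rcases hi b with e | e
      · exact .inr (hC b (comm_of_conj_eq e))
      · refine .inl (hC _ (comm_of_conj_eq ?_))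
        rw [show b * w * y * (b * w)⁻¹ = b * (w * y * w⁻¹) * b⁻¹ by group, wi,
          show b * y⁻¹ * b⁻¹ = (b * y * b⁻¹)⁻¹ by group, e, inv_inv]⟩
    refine .inl (PGrp.nonempty_mulEquiv_quaternion ox ?_ hw (by rw [x3, sq, hzw]) ?_)
    · rw [← (zpowers (y * z)).card_mul_index, Nat.card_zpowers, ox, i2]
    · rw [show w * (y * z) * w⁻¹ = w * y * w⁻¹ * (w * z * w⁻¹) by group, wi, conj_eq_of_comm (zc w),
        mul_inv_rev, inv_eq_of_sq w4, zc]
  have c24 : Nat.card G = 24 := by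
    by_contra e
    have : Nat.card G = 12 := by
      obtain ⟨k, hk⟩ := h12
      have := Nat.le_of_dvd (by norm_num) h24
      have := Nat.card_pos (α := G)
      omega
    obtain ⟨e⟩ := Transfer.nonempty_mulEquiv_alternating_four this
      ((Nat.card_zpowers y).trans oy) hn
    refine w2 (e.injective ?_)
    rw [hzw, map_mul, map_one]
    exact a4 _ (by rw [← map_mul, ← map_mul, ← hzw, w4, map_one])
  have hN : (zpowers z).Normal := ⟨fun a ha g => by
    rwa [conj_eq_of_comm (mem_center_iff.1 (zpowers_le.2 (mem_center_iff.2 zc) ha) g)]⟩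
  let π := QuotientGroup.mk' (zpowers z)
  have hπ1 : ∀ x, π x = 1 ↔ x ∈ zpowers z := QuotientGroup.eq_one_iff
  have c12 : Nat.card (G ⧸ zpowers z) = 12 := by
    have := (zpowers z).card_mul_index
    rw [Nat.card_zpowers, oz, c24] at this
    change (zpowers z).index = 12
    omega
  have y1' : π y ≠ 1 := fun e => by
    have := orderOf_dvd_of_mem_zpowers ((hπ1 y).1 e)
    rw [oy, oz] at this; omega
  obtain ⟨e⟩ := Transfer.nonempty_mulEquiv_alternating_four c12 (Y := zpowers (π y))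
    ((Nat.card_zpowers _).trans (orderOf_three (by rw [← map_pow, y3, map_one]) y1')) fun hn' =>
    hn (normalizer_eq_top_iff.1 (eq_top_iff.2 fun g _ => mem_norm_of_conj_le (by
      rw [conj_zpowers, zpowers_le]
      obtain ⟨k, hk⟩ := hn'.conj_mem _ (mem_zpowers _) (π g)
      have h1 : (y ^ k)⁻¹ * (g * y * g⁻¹) ∈ zpowers z :=
        QuotientGroup.eq.1 (show π _ = π _ by simpa using hk)
      have h2 := (mul_mem_cancel_left (inv_mem (zpow_mem yx k))).1 (zpowers_le.2 zx h1)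
      exact h.mem_zpowers_of_commute Nat.prime_three oy (conj_cube y3 g) (hC' _ h2).symm)))
  refine .inr (S4021.cover w2 w4 hz e (fun q hq => e.injective ?_) 3 (by decide) E8.exists_hom_SL3)
  rw [map_pow, map_one, sq]
  exact a4 _ (by rw [← map_one e, ← hq]; simp only [pow_succ, pow_zero, one_mul, mul_assoc, map_mul])

theorem not_five_of {K : Subgroup G} (hK : ¬ 5 ∣ ♯K) (hx : x ∈ K) (x5 : x ^ 5 = 1) : x = 1 := by
  have := Fact.mk Nat.prime_five
  by_contra x1
  exact hK (orderOf_eq_prime x5 x1 ▸ OO.orderOf_dvd_card hx)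

/-- `O₅'(G) = 1` -/
theorem core (hs : Group.IsSolvable G) (hE : E6 G) (x5 : orderOf x = 5) (w4 : w * w * (w * w) = 1)
    (w2 : w * w ≠ 1) (y3 : y ^ 3 = 1) (y1 : y ≠ 1) : pPrimeCore 5 G = ⊥ := by
  have := Fact.mk Nat.prime_five
  have := Fact.mk Nat.prime_three
  by_contra hK
  have h5 : ¬ 5 ∣ ♯(pPrimeCore 5 G) := Core.not_dvd_card_pPrimeCore
  have hN : (pPrimeCore 5 G).Normal := inferInstance
  obtain ⟨S, hS⟩ := exists_syl 5 (⊤ : Subgroup G)
  obtain ⟨T, hT, hZ, hF⟩ := exists_frattini_pPrimeCore (isPSolvable_of_isSolvable hs) hS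
  generalize pPrimeCore 5 G = K at hK h5 hN hF
  have hT5 := hS.isPGroup.to_le hT
  have T1 : T ≠ ⊥ := fun e => by
    refine inf_cent_ne_bot_of_isPGroup hS.isPGroup hS.isPGroup (le_norm_self S) (fun e => ?_)
      (le_bot_iff.1 (e ▸ hZ))
    exact hS.2.2 (by rw [e, relIndex_bot_left, card_top, ← x5]; exact orderOf_dvd_natCard x)
  have fix : ∀ t ∈ T, t ≠ 1 → ∀ k ∈ K, t * k = k * t → k = 1 := fun t ht t1 k hk e =>
    not_five_of h5 hk (hE.no5 (orderOf_eq_prime (hE.pow5 hT5 ht) t1) e.symm)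
  have hc : IsCyclic T :=
    haveI := (Frob.isFC_of_fpf le_normalizer_of_normal hK fix).isCyclic_of_pow_eq_one
      (A := ⊤) Nat.prime_five fun a _ => Subtype.ext (hE.pow5 hT5 a.2)
    isCyclic_of_surjective _ topEquiv.surjective
  have cT : ♯T = 5 := by
    obtain ⟨c, hc⟩ := IsCyclic.exists_ofOrder_eq_natCard (α := T)
    rw [← hc]
    refine orderOf_eq_prime (Subtype.ext (hE.pow5 hT5 c.2)) fun e => T1 ?_
    rw [← card_eq_one, ← hc, e, orderOf_one]
  obtain ⟨t, ht, t1⟩ := exists_mem_ne_one T1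
  have dec : ∀ g : G, ∀ m, g ^ m = 1 → ∃ k ∈ K, ∃ n ∈ 𝐍(T), g = k * n ∧ n ^ m = 1 := fun g m hg => by
    obtain ⟨k, hk, n, hn, e⟩ := mem_sup_of_normal_left.1 (hF ▸ mem_top g)
    refine ⟨k, hk, n, hn, e.symm, ?_⟩
    have h1 : n ^ m ∈ K := by
      rw [← QuotientGroup.eq_one_iff] at hk ⊢
      have := congrArg (QuotientGroup.mk (s := K)) hg
      rwa [← e, QuotientGroup.mk_pow, QuotientGroup.mk_mul, hk, one_mul] at this
    refine fix t ht t1 _ h1 (comm_of_conj_eq (mul_inv_eq_one.1 (not_five_of h5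
      (mul_mem (hN.conj_mem _ h1 t) (inv_mem h1)) (hE.pow5 hT5 ?_))))
    rw [show t * n ^ m * t⁻¹ * (n ^ m)⁻¹ = t * (n ^ m * t⁻¹ * (n ^ m)⁻¹) by group]
    exact mul_mem ht ((mem_normalizer_iff.1 (pow_mem hn m) _).1 (inv_mem ht))
  have reg : ∀ n : G, ∀ m, n ^ m = 1 → m.Coprime 5 → Semiregular T (zpowers n) :=
    fun n m hm h a ha a1 => eq_bot_iff.2 fun s hs => by
      by_contra s1
      have h1 := orderOf_dvd_of_pow_eq_one
        (hE.no5 (orderOf_eq_prime (hE.pow5 hT5 hs.1) s1) (mem_cent1.1 hs.2).symm)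
      have h2 := (orderOf_dvd_of_mem_zpowers ha).trans (orderOf_dvd_of_pow_eq_one hm)
      exact a1 (orderOf_eq_one_iff.1 (Nat.eq_one_of_dvd_coprimes h h2 h1))
  have yK : y ∈ K := by
    obtain ⟨k, hk, n, hn, rfl, e⟩ := dec y 3 y3
    by_cases n1 : n = 1
    · simpa [n1] using hk
    have := regular_norm_dvd_pred (zpowers_le.2 hn) (reg n 3 e (by decide))
    rw [Nat.card_zpowers, orderOf_three e n1, cT] at this
    omega
  have nil : Nil K := prime_Frobenius_sol_kernel_nil (R := T) le_normalizer_of_normal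
    (cT ▸ Nat.prime_five) (eq_bot_iff.2 fun k hk => fix t ht t1 k hk.1 (mul_eq_of_cent hk.2 ht).symm)
  have V1 : Op 3 K ⊓ 𝐂(K) ≠ ⊥ := inf_cent_ne_bot_of_nil nil (Op_normal 3 K) fun e => y1 (by
    have := le_Op_of_nil nil (zpowers_le.2 yK) (abelem_isPGroup (abelem_zpowers y3))
    rwa [e, le_bot_iff, zpowers_eq_bot] at this)
  have V3 : IsPGroup 3 ↥(Op 3 K ⊓ 𝐂(K)) := (Op_isPGroup 3 K).to_le inf_le_left
  have VN : ∀ A : Subgroup G, A ≤ 𝐍(Op 3 K ⊓ 𝐂(K)) := fun A =>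
    le_norm_inf (le_norm_Op 3 le_normalizer_of_normal) (le_norm_cent le_normalizer_of_normal)
  have w4' : w ^ 4 = 1 := by rw [← w4]; simp only [pow_succ, pow_zero, one_mul, mul_assoc]
  obtain ⟨k, hk, n, hn, e, n4⟩ := dec w 4 w4'
  have V2 : Op 3 K ⊓ 𝐂(K) ⊓ 𝐂(zpowers n) ≠ ⊥ := fun h0 => by
    by_cases n1 : n = 1
    · exact V1 (by simpa [n1] using h0)
    have hf := (reg n 4 n4 (by decide)).isFrob (zpowers_le.2 hn) T1 (by simpa using n1)
    obtain ⟨j, hj⟩ := IsPGroup.iff_card.1 V3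
    have h1 := (Frobenius_Wielandt_fixpoint hf (VN _) (by
      rw [hj, ← hf.sdprod.card, cT, Nat.card_zpowers]
      exact (Nat.Coprime.mul_right (by decide) ((show Nat.Coprime 3 4 by decide).coprime_dvd_right
        (orderOf_dvd_of_pow_eq_one n4))).pow_left j) (sol_of_isPGroup V3)).2.1 h0
    obtain ⟨v, hv, v1⟩ := exists_mem_ne_one V1
    exact v1 (fix t ht t1 v (Op_le 3 K hv.1) (mul_eq_of_cent (h1 ht) hv))
  obtain ⟨v, hv, v1⟩ := exists_mem_ne_one V2
  refine w2 (hE.no12 (hE.pow3 V3 hv.1) v1 ?_ w4)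
  rw [e, mul_assoc, ← mul_eq_of_cent hv.2 (mem_zpowers n), ← mul_assoc, ← mul_eq_of_cent hv.1.2 hk,
    mul_assoc]

end SOLV

theorem solv : SOLV.{u} := fun G _ _ hs h => by
  have := Fact.mk Nat.prime_five
  have hE : E6 G := fun g => (h ▸ Set.mem_range_self g : orderOf g ∈ {k : ℕ | 1 ≤ k ∧ k ≤ 6}).2
  have ex : ∀ k, 1 ≤ k → k ≤ 6 → ∃ g : G, orderOf g = k := fun k h1 h2 =>
    (h ▸ ⟨h1, h2⟩ : k ∈ Set.range (orderOf : G → ℕ))
  obtain ⟨x, x5⟩ := ex 5 (by norm_num) (by norm_num)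
  obtain ⟨w, ow⟩ := ex 4 (by norm_num) (by norm_num)
  obtain ⟨y, oy⟩ := ex 3 (by norm_num) (by norm_num)
  have w4 : w * w * (w * w) = 1 := by
    rw [← pow_orderOf_eq_one w, ow]; simp only [pow_succ, pow_zero, one_mul, mul_assoc]
  have w2 : w * w ≠ 1 := fun e => by
    have := orderOf_dvd_of_pow_eq_one ((sq w).trans e); rw [ow] at this; omega
  have y3 : y ^ 3 = 1 := oy ▸ pow_orderOf_eq_one y
  have y1 : y ≠ 1 := fun e => by rw [e, orderOf_one] at oy; omega
  have h0 := SOLV.core hs hE x5 w4 w2 y3 y1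
  have hC := Core.centralizer_pCore_le h0
  have h5 : IsPGroup 5 (pCore 5 G) := Core.isPGroup_pCore 5
  have hN : (pCore 5 G).Normal := inferInstance
  generalize pCore 5 G = N at hC h5 hN
  have o5 : ∀ n ∈ N, n ≠ 1 → orderOf n = 5 := fun n hn n1 => orderOf_eq_prime (hE.pow5 h5 hn) n1
  have cop : ∀ g ∈ N, ∀ m, g ^ m = 1 → m.Coprime 5 → g = 1 := fun g hg m hm hc =>
    orderOf_eq_one_iff.1 (Nat.eq_one_of_dvd_coprimes hc (orderOf_dvd_of_pow_eq_one hm)
      (orderOf_dvd_of_pow_eq_one (hE.pow5 h5 hg)))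
  have inv : ∀ n ∈ N, w * w * n * (w * w)⁻¹ = n⁻¹ := fun n hn =>
    Frob.conj_eq_inv_of_fpf w4 (le_normalizer_of_normal (mem_top _)) (fun k hk e => by
      by_contra k1
      exact w2 (hE.no10 (o5 k hk k1) e (abelem_isPGroup (abelem_zpowers ((sq _).trans w4)))
        (mem_zpowers _))) hn
  let π := QuotientGroup.mk' N
  have hπ1 : ∀ x, π x = 1 ↔ x ∈ N := QuotientGroup.eq_one_iff
  have w2' : π w * π w ≠ 1 := fun e =>
    w2 (cop _ ((hπ1 _).1 (by rwa [map_mul])) 2 ((sq _).trans w4) (by decide))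
  have w4' : π w * π w * (π w * π w) = 1 := by simp only [← map_mul, w4, map_one]
  have zc : ∀ g, π w * π w * π g = π g * (π w * π w) := fun g => by
    have : (w * w)⁻¹ * (g * (w * w) * g⁻¹) ∈ N := hC (mem_centralizer_iff.2 fun n hn => by
      have h1 := inv _ (hN.conj_mem n hn g⁻¹)
      have h2 := inv n hn
      generalize w * w = z at h1 h2
      have : g * z * g⁻¹ * n * (g * z * g⁻¹)⁻¹ = z * n * z⁻¹ := by
        rw [h2, show g * z * g⁻¹ * n * (g * z * g⁻¹)⁻¹ = g * (z * (g⁻¹ * n * g⁻¹⁻¹) * z⁻¹) * g⁻¹ by group,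
          h1]; group
      calc n * (z⁻¹ * (g * z * g⁻¹)) = z⁻¹ * (z * n * z⁻¹) * (g * z * g⁻¹) := by group
        _ = _ := by rw [← this]; group)
    rw [← hπ1] at this
    simp only [map_mul, map_inv] at this
    rw [inv_mul_eq_one] at this
    exact (eq_mul_inv_iff_mul_eq.1 this)
  have N1 : 5 ∣ ♯N := by
    obtain ⟨k, hk⟩ := IsPGroup.iff_card.1 h5
    rw [hk]
    refine dvd_pow_self 5 fun e => y1 (cop y (hC ?_) 3 y3 (by decide))
    rw [e, pow_zero, card_eq_one] at hk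
    rw [hk, cent_bot]; exact mem_top y
  have hF := (Frob.isFC_quotient_of_lift h5.isNilpotent N1 (Q := ⊤) fun a _ a1 => by
    obtain ⟨g, rfl⟩ := QuotientGroup.mk'_surjective N a
    refine ⟨g, rfl, fun n hn _ e => by_contra fun n1 => w2' ?_⟩
    exact (hE.quot N).no10 (orderOf_eq_prime (by rw [← map_pow, hE.no5 (o5 n hn n1) e, map_one]) a1)
      (zc g) (abelem_isPGroup (abelem_zpowers ((sq _).trans w4'))) (mem_zpowers _)).of_mulEquiv
      topEquiv.symm
  exact ⟨N, hN, ⟨Frob.isMulCommutative_of_conj_eq_inv inv, fun a ha => hE.pow5 h5 ha⟩,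
    SOLV.fc hF (hE.quot N) w4' w2' (y := π y) (by rw [← map_pow, y3, map_one])
      fun e => y1 (cop y ((hπ1 y).1 e) 3 y3 (by decide))⟩

end Cfsg.Agent.OE
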