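import Cfsg.Agent.Lib.OE.Main
import Cfsg.Agent.Lib.OE.ID
import Cfsg.Agent.Lib.OE.AS
import Cfsg.Agent.Lib.OE.SOLV
import Cfsg.Agent.Lib.OE.SG
import Cfsg.Agent.Lib.OE.SE0

/-!
# Finite groups whose element orders are `1, …, 6`
-/

set_option autoImplicit false

namespace Cfsg.Agent.OE

open Subgroup Cfsg.Agent.OO

universe u

theorem no_six {n : ℕ} (hn : n ≤ 6) (g : alternatingGroup (Fin n)) : orderOf g ≠ 6 := fun h => by
  have h1 : (g : Equiv.Perm (Fin n)).cycleType.lcm = 6 := by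
    rw [Equiv.Perm.lcm_cycleType, orderOf_coe, h]
  have h2 := (Equiv.Perm.sum_cycleType_le (g : Equiv.Perm (Fin n))).trans
    ((Fintype.card_fin n).le.trans hn)
  have h3 := Equiv.Perm.mem_alternatingGroup.1 g.2
  rw [Equiv.Perm.sign_of_cycleType, neg_one_pow_eq_one_iff_even (by decide)] at h3
  have h4 := fun k => Equiv.Perm.two_le_of_mem_cycleType (σ := (g : Equiv.Perm (Fin n))) (n := k)
  generalize (g : Equiv.Perm (Fin n)).cycleType = m at h1 h2 h3 h4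
  induction m using Quotient.inductionOn with
  | _ l =>
  rcases l with _ | ⟨a, _ | ⟨b, _ | ⟨c, _ | ⟨d, l⟩⟩⟩⟩ <;> simp at h1 h2 h3 h4
  · rw [h1] at h3; exact absurd h3 (by decide)
  · obtain ⟨h5, h6⟩ := h4
    have : a ≤ 4 := by omega
    have : b ≤ 4 := by omega
    interval_cases a <;> interval_cases b <;> revert h1 h2 h3 <;> decide
  · obtain rfl : a = 2 := by omega
    obtain rfl : b = 2 := by omega
    obtain rfl : c = 2 := by omega
    revert h1; decide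
  · omega

theorem fin (ns0 : NS0.{u}) (st3 : ST3.{u}) (st5 : ST5.{u}) (rk : RK.{u}) (fv1 : FV1.{u})
    (fv2 : FV2.{u}) (fv3 : FV3.{u}) {G : Type u} [Group G] [Finite G]
    (h : Set.range (orderOf : G → ℕ) = {k : ℕ | 1 ≤ k ∧ k ≤ 6}) :
    (∃ (N : Subgroup G) (_ : N.Normal), IsElementaryAbelian 5 N ∧
        (Nonempty (G ⧸ N ≃* QuaternionGroup 3) ∨
          Nonempty (G ⧸ N ≃* Matrix.SpecialLinearGroup (Fin 2) (ZMod 3)))) ∨
      (∃ (N : Subgroup G) (_ : N.Normal), IsElementaryAbelian 2 N ∧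
        Nonempty (G ⧸ N ≃* ↥(alternatingGroup (Fin 5)))) ∨
      Nonempty (G ≃* Equiv.Perm (Fin 5)) ∨ Nonempty (G ≃* Equiv.Perm (Fin 6)) := by
  by_cases hs : Group.IsSolvable G
  · exact .inl (solv G hs h)
  have hE : E6 G := fun g => (h.le ⟨g, rfl⟩).2
  obtain ⟨N, h1, h2, h3, h4⟩ := ns0 G hE
    (ih_all id1 id2 st3 st5 rk sg (se0 ns0) fv1 fv2 fv3 _) hs
  by_cases h0 : pCore 2 G = ⊥
  · have e : G ≃* G ⧸ pCore 2 G :=
      QuotientGroup.quotientBot.symm.trans (QuotientGroup.quotientMulEquivOfEq h0.symm)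
    refine .inr (.inr ((as0 _ N (hE.quot _) h1 h2 h3 fun hN => ?_).imp (fun ⟨f⟩ => ⟨e.trans f⟩)
      fun ⟨f⟩ => ⟨e.trans f⟩))
    obtain ⟨g, hg⟩ := h.ge (show 6 ∈ {k : ℕ | 1 ≤ k ∧ k ≤ 6} from ⟨by norm_num, le_rfl⟩)
    subst hN
    rcases h2 with ⟨⟨f⟩⟩ | ⟨⟨f⟩⟩
    · exact no_six (by norm_num) _ (((e.trans topEquiv.symm).trans f).orderOf_eq g ▸ hg)
    · exact no_six le_rfl _ (((e.trans topEquiv.symm).trans f).orderOf_eq g ▸ hg)
  · obtain ⟨rfl, ⟨f⟩, h5⟩ := h4 h0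
    exact .inr (.inl ⟨pCore 2 G, inferInstance, ZN.abelem_of_sq fun x hx => by rw [sq, h5 x hx],
      ⟨topEquiv.symm.trans f⟩⟩)

end Cfsg.Agent.OE
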