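import Cfsg.Agent.Lib.NS.Basic
import Cfsg.Agent.Lib.ZN.Final

/-!
# Interfaces for the classification of finite groups whose element orders are at most six (plan OE)
-/

set_option autoImplicit false

namespace Cfsg.Agent.OE

open Subgroup Cfsg.Agent.OO Cfsg.Agent.Coprime GW GW2
open scoped Pointwise

universe u

/-- all element orders are at most six -/
def E6 (G : Type u) [Group G] : Prop := ∀ g : G, orderOf g ≤ 6

/-- the known simple groups -/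
def KS (G : Type u) [Group G] : Prop :=
  Nonempty (G ≃* alternatingGroup (Fin 5)) ∨ Nonempty (G ≃* alternatingGroup (Fin 6))

/-- the induction hypothesis -/
def IH (n : ℕ) : Prop := ∀ (X : Type u) [Group X] [Finite X], Nat.card X < n → IsSimpleGroup X →
  ¬ IsMulCommutative X → E6 X → KS X

section

variable {G : Type u} [Group G]

/-- characteristic two -/
def Ch (L : Subgroup G) : Prop := L ⊓ 𝐂(Op 2 L) ≤ Op 2 L

/-- `P / O₂(P) ≅ S₃` with Sylow 2-subgroup `T` (`ZN.Par` without the condition on the centre) -/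
structure Pq (T P : Subgroup G) : Prop where
  syl : Syl 2 T P
  idx : T.relIndex P = 3
  idx2 : (Op 2 P).relIndex T = 2
  char : Ch P

/-- the structure of a `{2,3}`-group of characteristic two -/
structure T3 (L : Subgroup G) : Prop where
  sq : ∀ T, Syl 2 T L → ∀ t ∈ T, t * t ∈ Op 2 L
  three : ∀ R, Syl 3 R L → ∀ y ∈ L, y ^ 3 = 1 → y ∈ Op 2 L ⊔ R
  gen : ∀ T M, Syl 2 T L → L ⊓ 𝐍(T) ≤ M → (∀ P ≤ L, Pq T P → P ≤ M) → L ≤ M
  pair : ∀ T P P', Syl 2 T L → P ≤ L → P' ≤ L → Pq T P → Pq T P' → P ≤ 𝐍(Op 2 P ⊓ Op 2 P')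

/-- `L / O₂(L)` is `D₁₀` or `A₅` -/
structure T5 (L : Subgroup G) : Prop where
  char : Ch L
  ne : Op 2 L ≠ ⊥
  el : ∀ q ∈ Op 2 L, q * q = 1
  idx : (Op 2 L).relIndex L = 10 ∨ (Op 2 L).relIndex L = 60
  inv : ∀ v ∈ L, v ∉ Op 2 L → v * v ∈ Op 2 L →
    ∃ x ∈ L, orderOf x = 5 ∧ v * x * v⁻¹ * x ∈ Op 2 L
  sq : ∀ T, Syl 2 T L → ∀ t ∈ T, t * t ∈ Op 2 L
  rot : ∀ T, Syl 2 T L → (Op 2 L).relIndex T = 4 → ∃ k ∈ L ⊓ 𝐍(T), k ^ 3 = 1 ∧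
    ∀ t ∈ T, t ∉ Op 2 L → k * t * k⁻¹ * t⁻¹ ∉ Op 2 L
  real : ∀ y ∈ L, orderOf y = 3 → ∃ j ∈ L, j * j ∈ Op 2 L ∧ j * y * j⁻¹ * y ∈ Op 2 L

end

/-- package ID -/
def ID1 : Prop := ∀ (G : Type u) [Group G] [Finite G], IsSimpleGroup G → ¬ IsMulCommutative G →
  E6 G → DH G → KS G

/-- package ID -/
def ID2 : Prop := ∀ (G : Type u) [Group G] [Finite G], IsSimpleGroup G → ¬ IsMulCommutative G →
  E6 G → CIT.IsCIT G → KS G

/-- package NS0 -/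
def NS0 : Prop := ∀ (X : Type u) [Group X] [Finite X], E6 X → IH.{u} (Nat.card X + 1) →
  ¬ Group.IsSolvable X → ∃ N : Subgroup (X ⧸ pCore 2 X), N.Normal ∧ KS N ∧ 𝐂(N) = ⊥ ∧
    (pCore 2 X ≠ ⊥ → N = ⊤ ∧ Nonempty (N ≃* alternatingGroup (Fin 5)) ∧
      ∀ q ∈ pCore 2 X, q * q = 1)

/-- package AS: the almost simple groups -/
def AS : Prop := ∀ (X : Type u) [Group X] [Finite X] (N : Subgroup X), E6 X → N.Normal → KS N →
  𝐂(N) = ⊥ → N ≠ ⊤ → Nonempty (X ≃* Equiv.Perm (Fin 5)) ∨ Nonempty (X ≃* Equiv.Perm (Fin 6))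

/-- package SOLV -/
def SOLV : Prop := ∀ (G : Type u) [Group G] [Finite G], Group.IsSolvable G →
  Set.range (orderOf : G → ℕ) = {k : ℕ | 1 ≤ k ∧ k ≤ 6} →
  ∃ (N : Subgroup G) (_ : N.Normal), IsElementaryAbelian 5 N ∧
    (Nonempty (G ⧸ N ≃* QuaternionGroup 3) ∨
      Nonempty (G ⧸ N ≃* Matrix.SpecialLinearGroup (Fin 2) (ZMod 3)))

/-- package ST3 -/
def ST3 : Prop := ∀ (G : Type u) [Group G] [Finite G] (L : Subgroup G), E6 G → Ch L → ¬ 5 ∣ ♯L → T3 L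

/-- package ST5 -/
def ST5 : Prop := ∀ (G : Type u) [Group G] [Finite G] (L : Subgroup G), E6 G → IH.{u} (♯L + 1) →
  Ch L → Op 2 L ≠ ⊥ → 5 ∣ ♯L → (∀ T, Syl 2 T L → L ≤ 𝐍(T)) ∨ T5 L

/-- package AM -/
def AM : Prop := ∀ (G : Type u) [Group G] [Finite G] (A B : Subgroup G), E6 G → ZN.Par (A ⊓ B) A →
  Pq (A ⊓ B) B → B ≤ 𝐂(Ohm 2 (Zc (A ⊓ B))) →
  ¬ ∀ N ≤ A ⊓ B, A ≤ 𝐍(N) → B ≤ 𝐍(N) → N = ⊥

/-- package RK -/
def RK : Prop := ∀ (G : Type u) [Group G] [Finite G], IsSimpleGroup G → ¬ IsMulCommutative G →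
  E6 G → ¬ NS.E8 G → DH G

/-- package SG -/
def SG : Prop := ∀ (G : Type u) [Group G] [Finite G], IsSimpleGroup G → ¬ IsMulCommutative G →
  E6 G → NS.E8 G → (∃ M : Subgroup G, ZL.SE M) ∨ ZN.LocChar (⊤ : Subgroup G)

/-- package SE0 -/
def SE0 : Prop := ∀ (G : Type u) [Group G] [Finite G] (M : Subgroup G), IsSimpleGroup G → E6 G →
  IH.{u} (Nat.card G) → NS.E8 G → ¬ ZL.SE M

/-- package FV: parabolic subgroups normalize `O₂(L)` -/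
def FV1 : Prop := ∀ (G : Type u) [Group G] [Finite G] (S L P : Subgroup G), E6 G →
  ZN.LocChar (⊤ : Subgroup G) → Syl 2 S ⊤ → S ≤ L → T5 L → Pq S P → P ≤ 𝐍(Op 2 L)

/-- package FV: no swap -/
def FV2 : Prop := ∀ (G : Type u) [Group G] [Finite G] (T L : Subgroup G) (τ : G), E6 G → T5 L →
  Syl 2 T L → τ ∈ 𝐍(T) → τ * τ ∈ T → τ ∈ 𝐍(Op 2 L)

/-- package FV: the `L₃(4)` case -/
def FV3 : Prop := ∀ (G : Type u) [Group G] [Finite G] (S L L' : Subgroup G), E6 G →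
  ZN.LocChar (⊤ : Subgroup G) → Syl 2 S ⊤ → S ≤ L → S ≤ L' → T5 L → T5 L' →
  𝐍(Op 2 L) ≤ L → Op 2 L ≠ Op 2 L' → CIT.IsCIT G

end Cfsg.Agent.OE
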