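import Cfsg.Agent.Lib.OE.Basic
import Cfsg.Agent.Lib.NS.Sig
import Cfsg.Agent.Lib.NS.Fus
import Cfsg.Agent.Lib.W4.Tools

/-!
# Normal four-subgroups of a Sylow 2-subgroup (plan OE, lemma L1)
-/

set_option autoImplicit false
set_option linter.unusedSectionVars false

namespace Cfsg.Agent.OE

open Subgroup Cfsg.Agent.OO Cfsg.Agent.Coprime GW GW2
open scoped Pointwise commutatorElement

universe u

variable {G : Type u} [Group G] [Finite G] {H M T : Subgroup G} {a b c e f g x y z : G}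

omit [Finite G] in
theorem two_elt (a2 : a * a = 1) : IsPGroup 2 (zpowers a) :=
  abelem_isPGroup (abelem_zpowers ((sq a).trans a2))

theorem E6.not_five (h : E6 G) (z1 : z ≠ 1) (z2 : z * z = 1) : ¬ 5 ∣ ♯𝐂[z] := fun e => by
  obtain ⟨x, hx, h5⟩ := cauchy Nat.prime_five e
  exact z1 (h.no10 h5 (mem_cent1.1 hx).symm (ZN.isPGroup_zpowers_inv (orderOf_eq_two z2 z1))
    (mem_zpowers z))

theorem E6.hc (h : E6 G) : ZN.HC G := fun _ ht =>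
  h.sol (h.not_five (ZN.ne_one_of_inv ht) (ZN.mul_self_of_inv ht))

theorem mem_Op (hc : Ch H) (hz : H ≤ 𝐂[z]) (z2 : z * z = 1) (hf : f ∈ H)
    (e : ∀ q ∈ Op 2 H, ⁅f, q⁆ ∈ zpowers z) : f ∈ Op 2 H := by
  have hn : H ≤ 𝐍(zpowers z) := le_norm_of_le_cent (cent_zpowers z ▸ hz)
  refine le_Op (K := H ⊓ W4.CM (zpowers z) (Op 2 H)) ⟨inf_le_left, le_norm_inf (le_norm_self H)
    (W4.le_norm_CM hn (Op_normal 2 H).norm)⟩ (fun ⟨g, hg⟩ => ?_) ⟨hf, hn hf, e⟩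
  have h1 : g * g ∈ Op 2 H := hc ⟨H.mul_mem hg.1 hg.1, mem_cent_iff_conj.2 fun q hq => by
    have h2 := hg.2.2 q hq
    have h3 : g * q * g⁻¹ = ⁅g, q⁆ * q := by simp [commutatorElement_def]
    have h4 : g * ⁅g, q⁆ * g⁻¹ = ⁅g, q⁆ :=
      mem_cent1_iff_conj.1 (cent1_le_of_mem_zpowers h2 (hz hg.1))
    rw [mul_cj, h3, cj_mul, h4, h3, ← mul_assoc]
    rcases (mem_zp z2).1 h2 with e | e <;> simp [e, z2]⟩
  obtain ⟨k, hk⟩ := Op_isPGroup 2 H ⟨_, h1⟩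
  exact ⟨k + 1, Subtype.ext (by simpa [pow_succ', pow_mul, sq] using congrArg Subtype.val hk)⟩

/-- a normal four-subgroup of a Sylow 2-subgroup -/
structure NF (T : Subgroup G) (z f : G) : Prop where
  e6 : E6 G
  syl : Syl 2 T ⊤
  p : F4 z f
  normal : S4 z f ⊴ T
  cent : T ≤ 𝐂[z]

namespace NF

variable (h : NF T z f)
include h

theorem zT : z ∈ T := h.normal.1 (t_mem_S4 z f)

theorem fT : f ∈ T := h.normal.1 (s_mem_S4 z f)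

theorem sylC : Syl 2 T 𝐂[z] := h.syl.mono h.cent le_top

theorem conj (g : G) : NF (g •ᶜ T) (g * z * g⁻¹) (g * f * g⁻¹) :=
  ⟨h.e6, h.syl.conj_of_mem (mem_top g), h.p.conj g, conj_S4 g z f ▸ h.normal.conj g,
    cent1_conj g z ▸ conj_mono g h.cent⟩

theorem conj_f (hg : g ∈ T) (hf : g ∉ 𝐂[f]) : g * f * g⁻¹ = z * f :=
  (h.p.eq_or (h.p.conj_cent (h.cent hg)) (conj_mem_of_norm (h.normal.2 hg) (s_mem_S4 z f))).resolve_left
    fun e => hf (mem_cent1_iff_conj.2 e)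

theorem mul_mem_C (hx : x ∈ T) (hy : y ∈ T) (hx' : x ∉ 𝐂[f]) (hy' : y ∉ 𝐂[f]) : x * y ∈ 𝐂[f] := by
  rw [mem_cent1_iff_conj, mul_cj, h.conj_f hy hy', cj_mul, h.conj_f hx hx',
    mem_cent1_iff_conj.1 (h.cent hx), ← mul_assoc, h.p.t2, one_mul]

theorem sq_mem_C (hx : x ∈ T) : x * x ∈ 𝐂[f] := by
  by_cases hx' : x ∈ 𝐂[f]
  exacts [mul_mem hx' hx', h.mul_mem_C hx hx hx' hx']

theorem conj_mem_C (hg : g ∈ T) (hx : x ∈ T) (e : g * x * g⁻¹ ∈ 𝐂[f]) : x ∈ 𝐂[f] := by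
  by_contra hx'
  by_cases hg' : g ∈ 𝐂[f]
  · exact hx' ((mul_mem_cancel_left hg').1 ((mul_mem_cancel_right (inv_mem hg')).1 e))
  · exact hg' (inv_mem_iff.1 ((mul_mem_cancel_left (h.mul_mem_C hg hx hg' hx')).1 e))

theorem idx (ha : a ∈ T) (af : a ∉ 𝐂[f]) : (T ⊓ 𝐂[f]).relIndex T = 2 :=
  relIndex_eq_two_iff.2 ⟨a, ha, fun b hb => by
    by_cases hb' : b ∈ 𝐂[f]
    · exact Or.inr ⟨⟨hb, hb'⟩, fun e => af ((mul_mem_cancel_left hb').1 e.2)⟩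
    · exact Or.inl ⟨⟨mul_mem hb ha, h.mul_mem_C hb ha hb' af⟩, fun e => hb' e.2⟩⟩

/-- every involution is conjugate into `C_T(f)` -/
theorem exists_conj (hp : der (⊤ : Subgroup G) = ⊤) (a2 : a * a = 1) :
    ∃ g, g * a * g⁻¹ ∈ T ⊓ 𝐂[f] := by
  by_cases e : T ≤ 𝐂[f]
  · obtain ⟨g, -, hg⟩ := h.syl.exists_conj_le le_top (two_elt a2)
    exact ⟨g, le_inf le_rfl e (hg (conj_mem_conj (mem_zpowers a)))⟩
  · obtain ⟨b, hb, e⟩ := SetLike.not_le_iff_exists.1 e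
    exact NS.Fu.thompson hp h.syl inf_le_left (h.idx hb e) a2

theorem comm_mem (hx : x ∈ T) : ⁅f, x⁆ ∈ zpowers z := by
  rw [show ⁅f, x⁆ = f * (x * f * x⁻¹)⁻¹ by simp only [commutatorElement_def]; group]
  by_cases e : x ∈ 𝐂[f]
  · rw [mem_cent1_iff_conj.1 e, mul_inv_cancel]; exact one_mem _
  · rw [h.conj_f hx e, mul_inv_rev, mul_inv_cancel_left]; exact inv_mem (mem_zpowers z)

/-- Lemma L1 -/
theorem l1 : f ∈ Op'p 2 𝐂[z] := by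
  have hn := (Opi_normal ({2} : Set ℕ)ᶜ 𝐂[z]).norm
  have h1 := hn (mem_cent1_self z)
  rw [← quoPre_Op_quo_Op', mem_quoPre]
  refine ⟨hn h.p.e_mem, mem_Op (z := coset _ z) (cent_Op_le_of_Op'_eq_bot
    (sol_quo (h.e6.hc z (orderOf_eq_two h.p.t2 h.p.t1)) _) (Opi_quo_Opi _ _)) (quo_cent1_le h1)
    (by rw [← coset_mul h1 h1, h.p.t2, coset_one]) (coset_mem_quo _ h.p.e_mem) fun q hq => ?_⟩
  obtain ⟨s, hs, rfl⟩ := (mem_quo_of_le (h.cent.trans hn)).1 (Op_le_syl (h.sylC.quo hn) hq)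
  rw [← coset_commutator (hn h.p.e_mem) (hn (h.cent hs)), ← quo_zpowers h1]
  exact coset_mem_quo _ (h.comm_mem hs)

/-- generation of `C(z)` -/
theorem cz_le (h1 : O 𝐂[z] ≤ M) (h2 : T ≤ M) (h3 : ∀ y ∈ 𝐂[z] ⊓ 𝐍(T ⊓ Op'p 2 𝐂[z]), y ^ 3 = 1 →
    y * f * y⁻¹ ∈ T ⊓ 𝐂[f] → y ∈ M) : 𝐂[z] ≤ M := by
  have hQ := h.sylC.inf_normal (Op'p_normal 2 𝐂[z])
  refine (hQ.frattini (Op'p_normal 2 𝐂[z])).sup_eq.ge.trans (sup_le ((sdprod_Op'p hQ).sup_eq.ge.trans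
    (sup_le h1 (inf_le_left.trans h2))) (le_of_forall_syl fun q hq hd => ?_))
  rcases h.e6.prime hq hd with rfl | rfl | rfl
  · exact ⟨T, h.sylC.mono (le_inf h.cent (le_norm_inf (le_norm_self T)
      (h.cent.trans (Op'p_normal 2 _).norm))) inf_le_left, h2⟩
  · have := Fact.mk hq
    obtain ⟨R, hR⟩ := exists_syl 3 (𝐂[z] ⊓ 𝐍(T ⊓ Op'p 2 𝐂[z]))
    refine ⟨R, hR, fun y hy => ?_⟩
    have y3 := h.e6.pow3 hR.isPGroup hy
    have h4 := (conj_mem_of_norm (hR.le hy).2 ⟨h.fT, h.l1⟩).1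
    refine h3 y (hR.le hy) y3 ⟨h4, by_contra fun e => ?_⟩
    refine h.p.t1 (h.e6.l0 y3 (by rintro rfl; exact e (by simpa using mem_cent1_self f)) h.p.e2 ?_
      h.p.comm.eq (mem_cent1.1 (hR.le hy).1).symm)
    have h5 := h.conj_f h4 e
    rw [mul_inv_eq_iff_eq_mul] at h5
    rw [mul_assoc z, h5, mul_assoc z f, ← mul_assoc z z, h.p.t2, one_mul]
  · exact absurd (hd.trans (card_dvd inf_le_left)) (h.e6.not_five h.p.t1 h.p.t2)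

theorem za (ha : a ∈ T) (a2 : a * a = 1) (af : a ∉ 𝐂[f]) : F4 z a :=
  f4_of_mem h.p.t1 h.p.t2 (fun e => af (e ▸ one_mem _)) a2 (h.cent ha) fun e => af (e ▸ h.p.t_mem)

theorem eq_z (ha : a ∈ T) (a2 : a * a = 1) (af : a ∉ 𝐂[f]) (he : e ∈ S4 z a) (hf : e ∈ 𝐂[f])
    (e1 : e ≠ 1) : e = z := by
  rcases (h.za ha a2 af).mem.1 he with rfl | rfl | rfl | rfl
  exacts [absurd rfl e1, rfl, absurd hf af, absurd ((mul_mem_cancel_left h.p.t_mem).1 hf) af]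

theorem fa (ha : a ∈ T) (a2 : a * a = 1) (af : a ∉ 𝐂[f]) : f * a * f⁻¹ = z * a := by
  have := h.conj_f ha af
  rw [inv_eq_of_sq a2] at this
  rw [inv_eq_of_sq h.p.e2]
  calc f * a * f = f * (a * f * a) * a := by rw [mul_assoc f (a * f * a), mul_assoc (a * f), a2]; group
    _ = z * a := by rw [this, ← mul_assoc f, ← h.p.comm.eq, mul_assoc z, h.p.e2, mul_one]

/-- either `T` is dihedral of order eight or `z` is a square in `C_T(a) ∩ C(f)` -/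
theorem out (ha : a ∈ T) (a2 : a * a = 1) (af : a ∉ 𝐂[f])
    (hi : ∀ e ∈ T ⊓ 𝐂[a], e * e = 1 → e ∈ S4 z a) :
    T = S4 z f ⊔ zpowers a ∨ ∃ c ∈ T ⊓ 𝐂[a], c ∈ 𝐂[f] ∧ c * c = z := by
  refine or_iff_not_imp_right.2 fun h0 => ?_
  have k : ∀ b ∈ T ⊓ 𝐂[a], b ∈ 𝐂[f] → b ∈ S4 z a := fun b hb hf => by
    by_contra hn
    obtain ⟨c, hc, c1, c2⟩ := NS.Fu.exists_four h.syl.isPGroup hb.1 fun e => hn (hi b hb e)
    have h1 := zpowers_le.2 hb hc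
    exact h0 ⟨c, h1, zpowers_le.2 hf hc,
      h.eq_z ha a2 af (hi _ (mul_mem h1 h1) c2) (h.sq_mem_C h1.1) c1⟩
  have hle : S4 z f ⊔ zpowers a ≤ T := sup_le h.normal.1 (zpowers_le.2 ha)
  have hB : T ⊓ 𝐂[a] ≤ S4 z f ⊔ zpowers a := le_trans (fun b hb => by
    by_cases hf : b ∈ 𝐂[f]
    · exact k b hb hf
    · exact (mul_mem_cancel_right (s_mem_S4 z a)).1
        (k _ (mul_mem hb ⟨ha, mem_cent1_self a⟩) (h.mul_mem_C hb.1 ha hf af)))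
    (S4_le.2 ⟨mem_sup_left (t_mem_S4 z f), mem_sup_right (mem_zpowers a)⟩)
  refine (eq_of_nil_of_inf_norm_le h.syl.nil hle fun g hg => ?_).symm
  obtain ⟨x, hx, y, hy, e⟩ := (mem_sup_norm_left (zpowers_le.2 (h.normal.2 ha))).1
    (conj_mem_of_norm hg.2 (mem_sup_right (mem_zpowers a)))
  have hC : S4 z f ≤ 𝐂[f] := h.p.le_cent'
  rcases (mem_zp a2).1 hy with rfl | rfl
  · exact absurd (h.conj_mem_C hg.1 ha (e ▸ mul_mem (hC hx) (one_mem _))) af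
  have hxa : x ∈ 𝐂[y] := by
    have e2 : x * y * (x * y) = 1 := e ▸ conj_sq a2 g
    rw [mem_cent1, ← inv_eq_of_sq e2, mul_inv_rev, inv_eq_of_sq a2, inv_eq_of_sq (h.p.sq hx)]
  by_cases x1 : x = 1
  · exact hB ⟨hg.1, mem_cent1_iff_conj.2 (by rw [← e, x1, one_mul])⟩
  obtain rfl := h.eq_z ha a2 af (k x ⟨h.normal.1 hx, hxa⟩ (hC hx)) (hC hx) x1
  refine (mul_mem_cancel_left (mem_sup_left (s_mem_S4 x f))).1
    (hB ⟨mul_mem h.fT hg.1, mem_cent1_iff_conj.2 ?_⟩)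
  rw [mul_cj, ← e, cj_mul, h.fa ha a2 af, mem_cent1_iff_conj.1 h.p.e_mem, ← mul_assoc, h.p.t2, one_mul]

end NF

end Cfsg.Agent.OE
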