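import Cfsg.Agent.Lib.OE.Am3
import Cfsg.Agent.Lib.NS.RK2

/-!
# Simple groups of characteristic two type whose element orders are at most six
-/

set_option autoImplicit false
set_option linter.unusedSectionVars false

namespace Cfsg.Agent.OE

open Subgroup Cfsg.Agent.OO Cfsg.Agent.Coprime GW GW2
open scoped Pointwise commutatorElement

universe u

namespace Mn

variable {G : Type u} [Group G] [Finite G] {L M P P' Q S T X Y : Subgroup G} {g z τ : G}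

/-- the standing hypotheses -/
structure H (G : Type u) [Group G] [Finite G] : Prop where
  st3 : ST3.{u}
  st5 : ST5.{u}
  fv1 : FV1.{u}
  fv2 : FV2.{u}
  fv3 : FV3.{u}
  simple : IsSimpleGroup G
  nab : ¬ IsMulCommutative G
  e6 : E6 G
  ih : IH.{u} (Nat.card G)
  lc : ZN.LocChar (⊤ : Subgroup G)
  ncit : ¬ CIT.IsCIT G
  nse : ∀ M : Subgroup G, ¬ ZL.SE M

theorem exists_tau (hS : IsPGroup 2 S) (h : T < S) : ∃ τ ∈ S ⊓ 𝐍(T), τ ∉ T ∧ τ * τ ∈ T := by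
  have h1 := lt_inf_norm_of_nil (nil_of_isPGroup hS) h
  obtain ⟨t, ht, t1, t2⟩ := CIT.exists_inv (isPGroup_quo (hS.to_le (inf_le_left : S ⊓ 𝐍(T) ≤ S)) T)
    (quo_ne_bot inf_le_right h1.not_ge)
  obtain ⟨τ, hτ, rfl⟩ := (mem_quo_of_le inf_le_right).1 ht
  exact ⟨τ, hτ, fun e => t1 (coset_eq_one e), (coset_eq_one_iff (mul_mem hτ.2 hτ.2)).1
    (by rw [coset_mul hτ.2 hτ.2, t2])⟩

theorem le_or_le (h : ∀ x ∈ X, x ∈ P ∨ x ∈ P') : X ≤ P ∨ X ≤ P' := by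
  by_contra! c
  obtain ⟨a, ha, ha'⟩ := SetLike.not_le_iff_exists.1 c.1
  obtain ⟨b, hb, hb'⟩ := SetLike.not_le_iff_exists.1 c.2
  rcases h _ (mul_mem ha hb) with e | e
  · exact ha' ((mul_mem_cancel_right ((h b hb).resolve_right hb')).1 e)
  · exact hb' ((mul_mem_cancel_left ((h a ha).resolve_left ha')).1 e)

theorem inf_eq (h : Pq T P) (h' : Pq T P') (ne : P ≠ P') : P ⊓ P' = T := by
  refine le_antisymm (fun g hg => by_contra fun hg' => ne ?_) (le_inf h.le h'.le)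
  exact le_antisymm (h.max h'.le hg.1 hg' hg.2) (h'.max h.le hg.2 hg' hg.1)

theorem Op_ne_bot (hX : IsPGroup 2 X) (h0 : X ≠ ⊥) : Op 2 𝐍(X) ≠ ⊥ := fun e =>
  h0 (le_bot_iff.1 ((le_Op ⟨le_norm_self X, le_rfl⟩ hX).trans e.le))

theorem OZ_ne_bot (hX : IsPGroup 2 X) (h0 : X ≠ ⊥) : Ohm 2 (Zc X) ≠ ⊥ :=
  Ohm_ne_bot (hX.to_le (Zc_le X)) (Zc_ne_bot (nil_of_isPGroup hX) h0)

theorem OZ_le (X : Subgroup G) : Ohm 2 (Zc X) ≤ X := (Ohm_le _ _).trans (Zc_le X)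

theorem norm_OZ (X : Subgroup G) : 𝐍(X) ≤ 𝐍(Ohm 2 (Zc X)) :=
  (norm_le_norm_Zc X).trans (norm_le_norm_Ohm 2 _)

theorem fr_card (h : ZN.Fr S P P' z) : ♯(Op 2 P) = ♯(Op 2 P') := by
  have h1 := card_mul_relIndex h.l.Q_le
  have h2 := card_mul_relIndex h.r.Q_le
  rw [h.l.idx2] at h1; rw [h.r.idx2] at h2; omega

theorem fr_max (h : ZN.Fr S P P' z) : Op 2 P ∈ Transfer.maxElem 2 S :=
  ⟨h.l.Q_le, h.ab, fun B hB hB' => by
    rcases le_or_le fun x hx => h.mem_or (hB hx) (hB'.2 x hx) with e | e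
    exacts [card_le_of_le e, fr_card h ▸ card_le_of_le e]⟩

theorem fr_BB (h : ZN.Fr S P P' z) : ZN.BB S = S := inf_eq_left.2 (h.le_cent.trans
  (cent_anti (le_inf (ZN.UU_le_of_mem (fr_max h)) (ZN.UU_le_of_mem (fr_max h.symm)))))

namespace H

theorem ne_top (h : H G) (hX : IsPGroup 2 X) (h0 : X ≠ ⊥) : 𝐍(X) ≠ ⊤ := fun e => by
  have := h.simple
  rcases (normalizer_eq_top_iff.1 e).eq_bot_or_eq_top with e | e
  · exact h0 e
  · have h1 := NS.Rk.perf h.nab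
    have h2 := commutator_lt_of_isPGroup hX hX (le_norm_self X) h0
    rw [e] at h2; exact h2.ne h1

theorem ch (h : H G) (hX : IsPGroup 2 X) (h0 : X ≠ ⊥) : Ch 𝐍(X) := by
  have := h.lc X le_top hX h0
  rwa [top_inf_eq] at this

theorem five (h : H G) (hX : IsPGroup 2 X) (h0 : X ≠ ⊥) (h5 : 5 ∣ ♯𝐍(X)) :
    (∀ T, Syl 2 T 𝐍(X) → 𝐍(X) ≤ 𝐍(T)) ∨ T5 𝐍(X) :=
  h.st5 G _ h.e6 (fun Y _ _ hY => h.ih Y (by
    have := card_lt (lt_top_iff_ne_top.2 (h.ne_top hX h0)); rw [card_top] at this; omega))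
    (h.ch hX h0) (Op_ne_bot hX h0) h5

theorem loc (h : H G) (hX : IsPGroup 2 X) (h0 : X ≠ ⊥) :
    T3 𝐍(X) ∨ (∀ T, Syl 2 T 𝐍(X) → 𝐍(X) ≤ 𝐍(T)) ∨ T5 𝐍(X) := by
  by_cases h5 : 5 ∣ ♯𝐍(X)
  exacts [.inr (h.five hX h0 h5), .inl (h.st3 G _ h.e6 (h.ch hX h0) h5)]

theorem swap (h : H G) (hS : IsPGroup 2 S) (hT : T ≤ S) (hτ : τ ∈ S ⊓ 𝐍(T)) (τ2 : τ * τ ∈ T)
    (f : ZN.Fr T P (τ •ᶜ P) z) : False := by
  obtain ⟨a, ha, ha'⟩ := f.exists_l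
  have n : τ * τ ∈ 𝐍(Op 2 P) := Pq.le_norm_Q P (f.l.le τ2)
  have c1 : ∀ {x : G}, τ * x * τ⁻¹ ∈ Op 2 (τ •ᶜ P) ↔ x ∈ Op 2 P := by
    intro x; rw [Op_conj, conj_mem_conj_iff]
  have c2 : ∀ {x : G}, τ * x * τ⁻¹ ∈ Op 2 P ↔ x ∈ Op 2 (τ •ᶜ P) := by
    intro x; rw [Op_conj, mem_conj, mem_norm_iff.1 n (τ⁻¹ * x * τ)]
    rw [show τ * τ * (τ⁻¹ * x * τ) * (τ * τ)⁻¹ = τ * x * τ⁻¹ by group]
  have k : ∀ y ∈ S, y * y ∈ T → y * y ∈ Op 2 P ∨ y * y ∈ Op 2 (τ •ᶜ P) := fun y hy hy' =>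
    f.mem_or hy' (by rw [sq, h.e6.pow4 hS hy])
  have e : τ * (τ * τ) * τ⁻¹ = τ * τ := by group
  have k1 : τ * τ ∈ Op 2 P ∧ τ * τ ∈ Op 2 (τ •ᶜ P) := by
    rcases k τ hτ.1 τ2 with e' | e'
    exacts [⟨e', e ▸ c1.2 e'⟩, ⟨e ▸ c2.2 e', e'⟩]
  have e2 : a * τ * (a * τ) = a * (τ * a * τ⁻¹) * (τ * τ) := by group
  have hT' := f.l.Q_le ha
  rcases k (a * τ) (mul_mem (hT hT') hτ.1) (e2 ▸ mul_mem (mul_mem hT' (conj_mem_of_norm hτ.2 hT')) τ2)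
    with e' | e' <;> rw [e2] at e'
  · exact ha' (c2.1 ((mul_mem_cancel_left ha).1 ((mul_mem_cancel_right k1.1).1 e')))
  · exact ha' ((mul_mem_cancel_right (c1.2 ha)).1 ((mul_mem_cancel_right k1.2).1 e'))

theorem step (h : H G) (hS : Syl 2 S ⊤) (hX : IsPGroup 2 X) (h0 : X ≠ ⊥) (hXM : X ≤ M)
    (hT : Syl 2 T (𝐍(X) ⊓ M)) (hlt : T < S)
    (hm : ∀ Y T' : Subgroup G, Y ≠ ⊥ → Y ≤ T → T < T' → T' ≤ S → T' ≤ 𝐍(Y) → 𝐍(Y) ≤ M) :
    𝐍(X) ≤ M := by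
  obtain ⟨τ, hτ, τ1, τ2⟩ := exists_tau hS.isPGroup hlt
  have m : ∀ Y : Subgroup G, Y ≠ ⊥ → Y ≤ T → T ≤ 𝐍(Y) → τ ∈ 𝐍(Y) → 𝐍(Y) ≤ M := fun Y a b c d =>
    hm Y (T ⊔ zpowers τ) a b (lt_of_le_of_ne le_sup_left fun e => τ1 (e ▸ mem_sup_right (mem_zpowers τ)))
      (sup_le hlt.le (zpowers_le.2 hτ.1)) (sup_le c (zpowers_le.2 d))
  have xT : X ≤ T := hT.le_of_normal ⟨le_inf (le_norm_self X) hXM, inf_le_left⟩ hX
  have T0 : T ≠ ⊥ := fun e => h0 (le_bot_iff.1 (e ▸ xT))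
  have nT := m T T0 le_rfl (le_norm_self T) hτ.2
  have hT' : Syl 2 T 𝐍(X) := IsSylowIn.of_syl_norm (hT.le.trans inf_le_left)
    (hT.mono (le_inf (hT.le.trans inf_le_left) (le_norm_self T)) (inf_le_inf_left _ nT))
  rcases h.loc hX h0 with l | l | l
  · by_contra c
    obtain ⟨P, -, hP, hPM⟩ : ∃ P ≤ 𝐍(X), Pq T P ∧ ¬ P ≤ M := by
      by_contra! c'; exact c (l.gen T M hT' (inf_le_right.trans nT) c')
    have hp := hP.par fun e => hPM ((le_norm_of_le_cent e).trans (m _ (OZ_ne_bot hT.isPGroup T0)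
      (OZ_le T) ((le_norm_self T).trans (norm_OZ T)) (norm_OZ T hτ.2)))
    have eT := conj_eq_of_mem_norm hτ.2
    have hp' := hp.conj τ
    rw [eT] at hp'
    have e := inf_eq hP hp'.pq fun e => hPM ((Pq.le_norm_Q P).trans (m _ hP.Q_ne_bot hP.Q_le
      (hP.le.trans (Pq.le_norm_Q P)) (norm_le_norm_Op 2 P (conj_eq_self_iff.1 e.symm))))
    obtain ⟨z, f⟩ := ZN.Edge.exists_fr ⟨e ▸ hp, e ▸ hp', fun N h1 h2 h3 => by
      rw [e] at h1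
      by_contra N0
      have h4 : P ≤ 𝐍(N ⊔ τ •ᶜ N) := le_norm_sup h2 (by
        rw [← conj_eq_of_mem (hP.le τ2), ← conj_conj, conj_le_norm_conj]; exact h3)
      refine hPM (h4.trans (m _ (fun e => N0 (le_bot_iff.1 (le_sup_left.trans e.le)))
        (sup_le h1 (conj_le_of_mem_norm hτ.2 h1)) (hP.le.trans h4) (conj_eq_self_iff.1 ?_)))
      rw [conj_sup, conj_conj, conj_eq_of_mem_norm (h2 (hP.le τ2)), sup_comm]⟩
    exact h.swap hS.isPGroup hlt.le hτ τ2 (e ▸ f)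
  · exact (l T hT').trans nT
  · exact (Pq.le_norm_Q _).trans (m _ l.ne (Op_le_syl hT') (hT'.le.trans (Pq.le_norm_Q _))
      (h.fv2 G T _ τ h.e6 l hT' hτ.2 τ2))

/-- no proper subgroup contains all 2-local subgroups above `S` -/
theorem uniq (h : H G) (hS : Syl 2 S ⊤) (S0 : S ≠ ⊥) (hM : M ≠ ⊤)
    (hu : ∀ X : Subgroup G, X ≠ ⊥ → X ≤ S → S ≤ 𝐍(X) → 𝐍(X) ≤ M) : False := by
  have nS := hu S S0 le_rfl (le_norm_self S)
  have sM := (le_norm_self S).trans nS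
  have hS' : Syl 2 S M := hS.mono sM le_top
  have key : ∀ n, ∀ X T : Subgroup G, IsPGroup 2 X → X ≠ ⊥ → X ≤ M → Syl 2 T (𝐍(X) ⊓ M) →
      ♯S - ♯T = n → 𝐍(X) ≤ M := fun n => by
    induction n using Nat.strong_induction_on with
    | _ n ih =>
    intro X T hX h0 hXM hT hn
    obtain ⟨m, hm, e⟩ := hS'.exists_conj_le (hT.le.trans inf_le_right) hT.isPGroup
    have hT' := hT.conj m
    rw [conj_inf, conj_eq_of_mem hm, ← norm_conj] at hT'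
    have x1 := isPGroup_conj (g := m).2 hX
    have x2 : m •ᶜ X ≠ ⊥ := by simpa using h0
    have x3 := conj_le_of_mem hm hXM
    rw [← conj_le_conj_iff (g := m), conj_eq_of_mem hm, ← norm_conj]
    rcases e.lt_or_eq with e | e
    · refine h.step hS x1 x2 x3 hT' e fun Y T' a b c d e' => ?_
      obtain ⟨T₁, h1, h2⟩ := exists_syl_ge (le_inf e' (d.trans sM)) (hS.isPGroup.to_le d)
      refine ih _ ?_ Y T₁ (hT'.isPGroup.to_le b) a (b.trans (e.le.trans sM)) h1 rfl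
      have h3 := card_lt (c.trans_le h2)
      have h4 := card_lt e
      rw [card_conj] at h3 h4; omega
    · rw [e] at hT'
      exact hu _ x2 (hT'.le_of_normal ⟨le_inf (le_norm_self _) x3, inf_le_left⟩ x1)
        (hT'.le.trans inf_le_left)
  have all : ∀ X : Subgroup G, IsPGroup 2 X → X ≠ ⊥ → X ≤ M → 𝐍(X) ≤ M := fun X a b c =>
    let ⟨T, hT⟩ := exists_syl 2 (𝐍(X) ⊓ M); key _ X T a b c hT rfl
  refine h.nse M ⟨hM, (dvd_card_of_isPGroup hS.isPGroup S0).trans (card_dvd sM), fun g hg h2 => hg ?_⟩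
  obtain ⟨T, hT⟩ := exists_syl 2 (M ⊓ g •ᶜ M)
  have T0 := hT.ne_bot h2
  have n1 := all T hT.isPGroup T0 (hT.le.trans inf_le_left)
  have n2 : 𝐍(T) ≤ g •ᶜ M := by
    rw [le_conj_iff_inv_conj_le, ← norm_conj]
    exact all _ (isPGroup_conj.2 hT.isPGroup) (conj_eq_bot_iff.not.2 T0)
      (le_conj_iff_inv_conj_le.1 (hT.le.trans inf_le_right))
  have hT' : Syl 2 T ⊤ := IsSylowIn.of_syl_norm le_top
    (hT.mono (le_inf le_top (le_norm_self T)) (inf_le_right.trans (le_inf n1 n2)))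
  obtain ⟨a, ha, e1⟩ := hS'.exists_conj' (hT'.mono (hT.le.trans inf_le_left) le_top)
  obtain ⟨b, hb, e2⟩ := (hS'.conj g).exists_conj' (hT'.mono (hT.le.trans inf_le_right) le_top)
  have h3 : a⁻¹ * (b * g) ∈ M := nS (conj_eq_self_iff.1 (by
    rw [← conj_conj, ← conj_conj, ← e2, e1, inv_conj_conj]))
  have h4 := mem_conj.1 hb
  rwa [mul_mem_cancel_left (inv_mem ha), show b * g = g * (g⁻¹ * b * g) by group,
    mul_mem_cancel_right h4] at h3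

theorem not_closed (hL : T5 L) (hS : Syl 2 S L) : ¬ L ≤ 𝐍(S) := fun e => by
  have h1 := hS.not_dvd
  rw [← Op_eq_of_normal_syl hS e] at h1
  rcases hL.idx with e | e <;> rw [e] at h1 <;> omega

theorem not_t5 (h : H G) (hS : Syl 2 S ⊤) (S0 : S ≠ ⊥) (hL : S ≤ L) : ¬ T5 L := fun l => by
  have hQ := Op_isPGroup 2 L
  have lN := Pq.le_norm_Q L
  have h5 : 5 ∣ ♯L := by
    rw [← card_mul_relIndex (Op_le 2 L)]
    rcases l.idx with e | e <;> rw [e] <;> exact Dvd.dvd.mul_left (by norm_num) _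
  have nc := not_closed l (hS.mono hL le_top)
  have t5 : ∀ g ∈ 𝐍(S), T5 𝐍(g •ᶜ Op 2 L) := fun g hg => by
    have sN : S ≤ 𝐍(g •ᶜ Op 2 L) := by
      rw [← conj_eq_of_mem_norm hg, conj_le_norm_conj]; exact hL.trans lN
    refine (h.five (isPGroup_conj.2 hQ) (by simpa using l.ne) (by
      rw [norm_conj, card_conj]; exact h5.trans (card_dvd lN))).resolve_left fun c => nc ?_
    have := c S (hS.mono sN le_top)
    rw [norm_conj, ← conj_eq_of_mem_norm hg, conj_le_norm_conj] at this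
    exact lN.trans this
  have t1 : T5 𝐍(Op 2 L) := by simpa using t5 1 (one_mem _)
  have e1 : Op 2 𝐍(Op 2 L) = Op 2 L := le_antisymm (le_Op ⟨(Op_le_syl (hS.mono (hL.trans lN)
    le_top)).trans hL, lN.trans (Pq.le_norm_Q _)⟩ (Op_isPGroup _ _))
    (le_Op ⟨le_norm_self _, le_rfl⟩ hQ)
  have k : ∀ L', S ≤ L' → T5 L' → Op 2 L' = Op 2 L := fun L' a b => by
    by_contra c
    exact h.ncit (h.fv3 G S _ L' h.e6 h.lc hS (hL.trans lN) a t1 b (by rw [e1])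
      (by rw [e1]; exact Ne.symm c))
  have nS : 𝐍(S) ≤ 𝐍(Op 2 L) := fun g hg => conj_eq_self_iff.1 (by
    have := k _ (by rw [← conj_eq_of_mem_norm hg, conj_le_norm_conj]; exact hL.trans lN) (t5 g hg)
    rwa [norm_conj, Op_conj, e1] at this)
  refine h.uniq hS S0 (h.ne_top hQ l.ne) fun X a b c => ?_
  have hS' := hS.mono c le_top
  rcases h.loc (hS.isPGroup.to_le b) a with l' | l' | l'
  · exact l'.gen S _ hS' (inf_le_right.trans nS) fun P _ hP => h.fv1 G S L P h.e6 h.lc hS hL l hP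
  · exact (l' S hS').trans nS
  · exact k _ c l' ▸ Pq.le_norm_Q _

theorem exists_pair (h : H G) (hS : Syl 2 S ⊤) (S0 : S ≠ ⊥) : ∃ P P', Pq S P ∧ Pq S P' ∧
    ∀ N ≤ S, P ≤ 𝐍(N) → P' ≤ 𝐍(N) → N = ⊥ := by
  by_contra! c
  have t3 : ∀ X : Subgroup G, X ≠ ⊥ → X ≤ S → S ≤ 𝐍(X) → T3 𝐍(X) ∨ 𝐍(X) ≤ 𝐍(S) := fun X a b c =>
    (h.loc (hS.isPGroup.to_le b) a).imp_right fun l =>
      (l.resolve_right (h.not_t5 hS S0 c)) S (hS.mono c le_top)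
  have pr : ∀ P P', Pq S P → Pq S P' → P ≤ 𝐍(Op 2 P ⊓ Op 2 P') := fun P P' a b => by
    obtain ⟨N, n1, n2, n3, n4⟩ := c P P' a b
    rcases t3 N n4 n1 (a.le.trans n2) with l | l
    · exact l.pair S P P' (hS.mono (a.le.trans n2) le_top) n2 n3 a b
    · exact absurd (a.le_Q le_rfl (n2.trans l)) a.not_le_Q
  let D : Subgroup G := S ⊓ ⨅ P, ⨅ _ : Pq S P, Op 2 P
  have mD : ∀ {x : G}, x ∈ D ↔ x ∈ S ∧ ∀ P, Pq S P → x ∈ Op 2 P := by
    intro x; simp only [D, mem_inf, mem_iInf]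
  have n1 : 𝐍(S) ≤ 𝐍(D) := le_norm_iff.2 fun g hg x hx => mD.2 ⟨conj_mem_of_norm hg (mD.1 hx).1,
    fun P hP => by
      have := (mD.1 hx).2 _ (conj_eq_of_mem_norm (inv_mem hg) ▸ hP.conj g⁻¹)
      rwa [Op_conj, mem_conj, inv_inv] at this⟩
  have n2 : ∀ P, Pq S P → P ≤ 𝐍(D) := fun P hP => le_norm_iff.2 fun g hg x hx =>
    have k := fun P' hP' => conj_mem_of_norm (pr P P' hP hP' hg) ⟨(mD.1 hx).2 P hP, (mD.1 hx).2 P' hP'⟩
    mD.2 ⟨hP.Q_le (k P hP).1, fun P' hP' => (k P' hP').2⟩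
  refine h.uniq hS S0 (h.ne_top (hS.isPGroup.to_le (inf_le_left : D ≤ S)) fun D0 => ?_)
    fun X a b c => ?_
  · have sq' : ∀ x ∈ S, x ^ 2 = 1 := fun x hx => by
      rw [sq, ← mem_bot, ← D0]; exact mD.2 ⟨mul_mem hx hx, fun P hP => hP.sq_mem_Q hx⟩
    refine S0 (le_bot_iff.1 (D0 ▸ le_inf le_rfl (le_iInf₂ fun P hP => ?_)))
    exact (le_inf hP.le (le_cent_mono (abelem_le_cent (ZN.abelem_of_sq sq')) le_rfl hP.Q_le)).trans
      hP.char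
  · rcases t3 X a b c with l | l
    · exact l.gen S _ (hS.mono c le_top) (inf_le_right.trans n1) fun P _ => n2 P
    · exact l.trans n1

theorem not_e8 (h : H G) : ¬ NS.E8 G := fun ⟨E, hE⟩ => by
  have := h.simple
  obtain ⟨S, hS, hES⟩ := exists_syl_ge le_top hE.isPGroup
  have S0 : S ≠ ⊥ := fun e => by
    have := card_le_of_le hES
    rw [e, hE.card, card_bot] at this; omega
  obtain ⟨P, P', a, b, c⟩ := h.exists_pair hS S0
  have e := inf_eq a b fun e => a.Q_ne_bot (c _ a.Q_le (Pq.le_norm_Q _) (e ▸ Pq.le_norm_Q _))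
  have e' : P' ⊓ P = S := by rw [inf_comm, e]
  by_cases c1 : P ≤ 𝐂(Ohm 2 (Zc S)) <;> by_cases c2 : P' ≤ 𝐂(Ohm 2 (Zc S))
  · exact OZ_ne_bot hS.isPGroup S0 (c _ (OZ_le S) (le_norm_of_le_cent c1) (le_norm_of_le_cent c2))
  · exact am G P' P h.e6 (e' ▸ b.par c2) (e' ▸ a) (e' ▸ c1) (e' ▸ fun N n1 n2 n3 => c N n1 n3 n2)
  · exact am G P P' h.e6 (e ▸ a.par c1) (e ▸ b) (e ▸ c2) (e ▸ c)
  obtain ⟨z, f⟩ := ZN.Edge.exists_fr ⟨e ▸ a.par c1, e ▸ b.par c2, e ▸ c⟩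
  rw [e] at f
  have cl : ∀ P, ZN.Cl ⊤ S P := fun P X _ _ _ _ T t1 t2 _ => by
    rw [hS.eq_of_le t2 le_top t1, fr_BB f]
  have nb : ∀ u ∈ Op 2 P ⊓ Op 2 P', u ∈ 𝐂(P) → u = 1 := fun u u1 u2 => by
    by_contra u0
    refine (⟨f, le_top, le_top, cl P, cl P', u1, u0, u2⟩ : ZN.Big ⊤ S P P' z u).not_mem hS ?_
    exact (show pResidual 2 G ≤ Oup 2 ⊤ from (closure_le _).2 fun x hx => mem_Oup (mem_top x) hx)
      (NS.Rk.res h.nab ▸ mem_top u)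
  have hD : Op 2 P' ⊓ Op 2 P ≤ zpowers z := fun d hd => by
    rcases f.cent_or ⟨hd.2, hd.1⟩ with e' | e'
    · exact nb d ⟨hd.2, hd.1⟩ e' ▸ one_mem _
    · exact (mul_mem_cancel_right (mem_zpowers z)).1
        (nb _ (mul_mem ⟨hd.2, hd.1⟩ f.z_mem) e' ▸ one_mem _)
  have h1 := (fr_max f).2.2 E hES hE.abelem
  have h2 := card_le_of_le hD
  have h3 := card_mul_relIndex (inf_le_right : Op 2 P' ⊓ Op 2 P ≤ _)
  rw [inf_relIndex_right, f.idx] at h3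
  rw [Nat.card_zpowers, f.z_ord] at h2
  rw [hE.card] at h1
  omega

end H

end Mn

theorem ih_all (id1 : ID1.{u}) (id2 : ID2.{u}) (st3 : ST3.{u}) (st5 : ST5.{u}) (rk : RK.{u})
    (sg : SG.{u}) (se0 : SE0.{u}) (fv1 : FV1.{u}) (fv2 : FV2.{u}) (fv3 : FV3.{u}) (n : ℕ) :
    IH.{u} n := by
  induction n using Nat.strong_induction_on with
  | _ n ih =>
  intro G _ _ hn hs ha hE
  by_cases h8 : NS.E8 G
  · by_cases hc : CIT.IsCIT G
    · exact id2 G hs ha hE hc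
    have nse := fun M => se0 G M hs hE (ih _ hn) h8
    exact absurd h8 (Mn.H.not_e8 ⟨st3, st5, fv1, fv2, fv3, hs, ha, hE, ih _ hn,
      (sg G hs ha hE h8).resolve_left fun ⟨M, hM⟩ => nse M hM, hc, nse⟩)
  · exact id1 G hs ha hE (rk G hs ha hE h8)

end Cfsg.Agent.OE
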