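import Cfsg.Agent.Lib.OE.Act
import Cfsg.Agent.Lib.OE.AS

/-!
# Package NS0 of plan OE: the nonsolvable groups
-/

set_option autoImplicit false
set_option linter.unusedSectionVars false

namespace Cfsg.Agent.OE

open Subgroup Cfsg.Agent.OO Cfsg.Agent.Coprime GW GW2 Equiv
open scoped commutatorElement Pointwise

universe u

namespace Ns

section

variable (G : Type*) [Group G]

/-- a subgroup `A₄` -/
def HA : Prop := ∃ e f y : G, e ≠ 1 ∧ f ≠ 1 ∧ e ≠ f ∧ e * e = 1 ∧ f * f = 1 ∧ e * f = f * e ∧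
  y * e * y⁻¹ = f ∧ y * f * y⁻¹ = e * f ∧ y ^ 3 = 1

/-- a subgroup `3² : 4` -/
def HH : Prop := ∃ a b s : G, a ≠ 1 ∧ a ^ 3 = 1 ∧ a * b = b * a ∧ s * a * s⁻¹ = b ∧
  s * b * s⁻¹ = a⁻¹ ∧ s ^ 4 = 1

/-- a subgroup `5 : 4` -/
def HF : Prop := ∃ x s : G, x ≠ 1 ∧ x ^ 5 = 1 ∧ s * x * s⁻¹ = x ^ 2 ∧ s ^ 4 = 1

/-- a subgroup `D₁₀` -/
def HD : Prop := ∃ x t : G, x ≠ 1 ∧ x ^ 5 = 1 ∧ t * t = 1 ∧ t * x * t⁻¹ = x⁻¹

end

section

variable {G H : Type*} [Group G] [Group H] (φ : G →* H) (hφ : Function.Injective φ)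
include hφ

theorem HA.map (h : HA G) : HA H := by
  obtain ⟨e, f, y, h1, h2, h3, h4, h5, h6, h7, h8, h9⟩ := h
  refine ⟨φ e, φ f, φ y, (map_ne_one_iff φ hφ).2 h1, (map_ne_one_iff φ hφ).2 h2, hφ.ne h3, ?_, ?_, ?_, ?_,
    ?_, ?_⟩ <;> simp only [← map_mul, ← map_inv, ← map_pow, *, map_one]

theorem HH.map (h : HH G) : HH H := by
  obtain ⟨a, b, s, h1, h2, h3, h4, h5, h6⟩ := h
  refine ⟨φ a, φ b, φ s, (map_ne_one_iff φ hφ).2 h1, ?_, ?_, ?_, ?_, ?_⟩ <;>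
    simp only [← map_mul, ← map_inv, ← map_pow, *, map_one]

theorem HF.map (h : HF G) : HF H := by
  obtain ⟨x, s, h1, h2, h3, h4⟩ := h
  refine ⟨φ x, φ s, (map_ne_one_iff φ hφ).2 h1, ?_, ?_, ?_⟩ <;>
    simp only [← map_mul, ← map_inv, ← map_pow, *, map_one]

theorem HD.map (h : HD G) : HD H := by
  obtain ⟨x, s, h1, h2, h3, h4⟩ := h
  refine ⟨φ x, φ s, (map_ne_one_iff φ hφ).2 h1, ?_, ?_, ?_⟩ <;>
    simp only [← map_mul, ← map_inv, ← map_pow, *, map_one]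

end

theorem ha5 : HA (alternatingGroup (Fin 5)) :=
  ⟨⟨swap 0 1 * swap 2 3, Perm.mem_alternatingGroup.2 (by decide)⟩,
    ⟨swap 1 2 * swap 0 3, Perm.mem_alternatingGroup.2 (by decide)⟩,
    ⟨swap 0 1 * swap 1 2, Perm.mem_alternatingGroup.2 (by decide)⟩, by decide⟩

theorem ha6 : HA (alternatingGroup (Fin 6)) :=
  ⟨⟨swap 0 1 * swap 2 3, Perm.mem_alternatingGroup.2 (by decide)⟩,
    ⟨swap 1 2 * swap 0 3, Perm.mem_alternatingGroup.2 (by decide)⟩,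
    ⟨swap 0 1 * swap 1 2, Perm.mem_alternatingGroup.2 (by decide)⟩, by decide⟩

theorem hh6 : HH (alternatingGroup (Fin 6)) :=
  ⟨⟨swap 0 1 * swap 1 2, Perm.mem_alternatingGroup.2 (by decide)⟩,
    ⟨swap 3 4 * swap 4 5, Perm.mem_alternatingGroup.2 (by decide)⟩,
    ⟨swap 0 3 * (swap 1 4 * swap 4 2 * swap 2 5), Perm.mem_alternatingGroup.2 (by decide)⟩, by decide⟩

theorem hd5 : HD (alternatingGroup (Fin 5)) :=
  ⟨⟨swap 0 1 * swap 1 2 * swap 2 3 * swap 3 4, Perm.mem_alternatingGroup.2 (by decide)⟩,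
    ⟨swap 1 4 * swap 2 3, Perm.mem_alternatingGroup.2 (by decide)⟩, by decide⟩

theorem hf5 : HF (Perm (Fin 5)) :=
  ⟨swap 0 1 * swap 1 2 * swap 2 3 * swap 3 4, swap 1 2 * swap 2 4 * swap 4 3, by decide⟩

theorem hf6 : HF (Perm (Fin 6)) :=
  ⟨swap 0 1 * swap 1 2 * swap 2 3 * swap 3 4, swap 1 2 * swap 2 4 * swap 4 3, by decide⟩

variable {G X : Type u} [Group G] [Finite G] [Group X] [Finite X] {φ : G →* X} {K L M N : Subgroup G}

theorem orderOf_five {x : G} (h : x ^ 5 = 1) (h1 : x ≠ 1) : orderOf x = 5 :=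
  haveI := Fact.mk Nat.prime_five; orderOf_eq_prime h h1

/-- lifting through a kernel of coprime order -/
theorem lift {p q : ℕ} [Fact p.Prime] [Fact q.Prime] (hφ : Function.Surjective φ)
    (hk : IsPGroup q φ.ker) (hne : p ≠ q) {C : Subgroup X} (hC : IsPGroup p C) :
    ∃ B : Subgroup G, IsPGroup p B ∧ (∀ c ∈ C, ∃ b ∈ B, φ b = c) ∧
      (∀ a ∈ B, ∀ b ∈ B, φ a = φ b → a = b) ∧ ∀ (r : ℕ) [Fact r.Prime], ∀ s ∈ 𝐍(C),
        IsPGroup r (zpowers s) → ∃ t ∈ 𝐍(B), φ t = s ∧ IsPGroup r (zpowers t) := by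
  obtain ⟨B, hB⟩ := exists_syl p (C.comap φ)
  have h1 := hB.map φ
  rw [map_comap_eq_self_of_surjective hφ] at h1
  have h2 := h1.eq_self hC
  have h3 := IsPGroup.coprime_card_of_ne p q hne B φ.ker hB.isPGroup hk
  refine ⟨B, hB.isPGroup, fun c hc => h2.ge hc, fun a ha b hb e => inv_mul_eq_one.1 (mem_bot.1
    ((inf_eq_bot_of_coprime_card h3).le ⟨B.mul_mem (inv_mem ha) hb, by simp [e]⟩)), fun r _ s hs e => ?_⟩
  rw [← h2, ← map_normalizer_eq φ hφ h3 (.inl hB.sol)] at hs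
  obtain ⟨t, ht, rfl⟩ := hs
  exact ⟨_, constt_mem {r} ht, by rw [map_constt, constt_eq_self (isPGroup_zpowers_iff.1 e)],
    isPGroup_zpowers_iff.2 (piElt_constt _ t)⟩

theorem dvd_of_not_sol (h : E6 G) (hs : ¬ Sol L) : 2 ∣ ♯L ∧ 3 ∣ ♯L ∧ 5 ∣ ♯L := by
  refine ⟨by_contra fun e => hs (Char.solvable_of_two_primes Nat.prime_three Nat.prime_five
    fun r hr hd => ?_), by_contra fun e => hs (Char.solvable_of_two_primes Nat.prime_two Nat.prime_five
    fun r hr hd => ?_), by_contra fun e => hs (h.sol e)⟩ <;>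
  rcases h.prime hr hd with rfl | rfl | rfl <;> simp_all

theorem sol_top (h : Sol (⊤ : Subgroup G)) : Group.IsSolvable G :=
  Group.isSolvable_of_surjective (f := (⊤ : Subgroup G).subtype) fun x => ⟨⟨x, mem_top x⟩, rfl⟩

theorem not_sol_quot [N.Normal] (hs : ¬ Group.IsSolvable G) (hN : Sol N) :
    ¬ Group.IsSolvable (G ⧸ N) := fun _ =>
  hs (Group.isSolvable_of_ker_le_range N.subtype (QuotientGroup.mk' N) (by simp))

/-- a solvable normal subgroup contains no Sylow subgroup -/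
theorem exists_not_mem [N.Normal] (h : E6 G) (hs : ¬ Group.IsSolvable G) (hN : Sol N) {p : ℕ}
    [Fact p.Prime] (hp : p = 3 ∨ p = 5) : ∃ x, IsPGroup p (zpowers x) ∧ x ∉ N := by
  by_contra! e
  obtain ⟨P, hP⟩ := exists_syl p (⊤ : Subgroup G)
  have h1 := dvd_of_not_sol (h.quot N) fun e1 => not_sol_quot hs hN (sol_top e1)
  rw [card_top, ← index_eq_card] at h1
  refine hP.not_dvd (Dvd.dvd.trans ?_ (relIndex_dvd_of_le_left ⊤ fun x hx =>
    e x (hP.isPGroup.to_le (zpowers_le.2 hx))))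
  rw [relIndex_top_right]
  rcases hp with rfl | rfl
  exacts [h1.2.1, h1.2.2]

theorem sol_cent (h : E6 G) {x : G} (hx : x ∈ M) (h1 : x ≠ 1) (h2 : x ^ 5 ≠ 1) : Sol 𝐂(M) :=
  h.sol fun e =>
    let ⟨_, hy, e'⟩ := cauchy Nat.prime_five e
    h2 (h.no5 e' (mem_cent_iff.1 hy x hx))

theorem no5 [M.Normal] (h : E6 G) (hs : ¬ Group.IsSolvable G) (hM : IsElementaryAbelian 5 M) :
    M = ⊥ := by
  have := Fact.mk Nat.prime_five
  by_contra h0
  obtain ⟨v, hv, v1⟩ := exists_mem_ne_one h0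
  have h1 : IsPGroup 5 𝐂(M) := fun c => ⟨1, Subtype.ext (by
    simpa using h.no5 (orderOf_five (hM.2 v hv) v1) (mem_cent_iff.1 c.2 v hv).symm)⟩
  have hn : ∀ g, g ∈ 𝐍(M) := fun g => by simp [normalizer_eq_top]
  have h2 : ∀ s : G, s ≠ 1 → s * s = 1 → ∀ w ∈ M, s * w * s⁻¹ = w⁻¹ := fun s s1 s2 w hw =>
    eq_inv_of_mul_eq_one_right (by_contra fun e => s1 (h.no10 (orderOf_five (hM.2 _ (mul_mem hw
      (conj_mem_of_norm (hn s) hw))) e) (comm_of_conj_eq (by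
        rw [← conj_mul, show s * (s * w * s⁻¹) * s⁻¹ = s * s * w * (s * s)⁻¹ by group, s2, one_mul,
          inv_one, mul_one, ab_iff.1 hM.1 _ (conj_mem_of_norm (hn s) hw) w hw]))
      (two_zpowers (by rw [show 4 = 2 * 2 by rfl, pow_mul, sq s, s2, one_pow])) (mem_zpowers s)))
  obtain ⟨t, -, ht⟩ := cauchy Nat.prime_two (dvd_of_not_sol h fun e => hs (sol_top e)).1
  have t2 : t * t = 1 := by rw [← sq, ← ht, pow_orderOf_eq_one]
  have t1 : t ≠ 1 := fun e => by simp [e] at ht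
  have h3 : IsPGroup 2 (zpowers t) :=
    two_zpowers (by rw [show 4 = 2 * 2 by rfl, pow_mul, sq t, t2, one_pow])
  obtain ⟨x, hx, e⟩ := exists_not_mem h hs (sol_of_isPGroup h1) (.inr rfl)
  have hn' : ∀ g, g ∈ 𝐍(𝐂(M)) := fun g => norm_le_norm_cent M (hn g)
  obtain ⟨n, hn1, hn2⟩ := coprime_cent_lift (A := zpowers t) (fun g _ => hn' g)
    (IsPGroup.coprime_card_of_ne 5 2 (by decide) _ _ h1 h3) (.inl (sol_of_isPGroup h1)) (hn' x)
    fun a ha => by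
      rcases (mem_zp t2).1 ha with rfl | rfl
      · simp
      refine mem_cent_iff_conj.2 fun w hw => ?_
      calc _ = x * a * x⁻¹ * (a⁻¹ * w * a⁻¹⁻¹) * (x * a * x⁻¹)⁻¹ := by
            simp only [commutatorElement_def]; group
        _ = w := by
          rw [inv_eq t2, h2 a t1 t2 w hw, h2 _ (conj_ne_one t1 x) (conj_sq t2 x) _ (inv_mem hw), inv_inv]
  refine e ((mul_mem_cancel_left hn1).1 ((show n * x = 1 from by_contra fun e1 => t1 (h.no10
    (orderOf_five (h.pow5 (isPGroup_sup h1 hx (.inr fun g _ => hn' g))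
      (mul_mem_sup hn1 (mem_zpowers x))) e1) (mem_cent_iff.1 hn2 t (mem_zpowers t)) h3
        (mem_zpowers t))) ▸ one_mem _))

theorem cent_eq_bot (h : E6 G) (hs : ¬ Sol K) : 𝐂(K) = ⊥ := eq_bot_iff.2 fun c hc => by_contra fun e => by
  obtain ⟨x, hx, e1⟩ := cauchy Nat.prime_five (dvd_of_not_sol h hs).2.2
  obtain ⟨t, ht, e2⟩ := cauchy Nat.prime_two (dvd_of_not_sol h hs).1
  have := h.mul_le (mem_cent_iff.1 hc t ht) (by
    rw [e2, orderOf_five (h.no5 e1 (mem_cent_iff.1 hc x hx).symm) e]; decide)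
  rw [e2, orderOf_five (h.no5 e1 (mem_cent_iff.1 hc x hx).symm) e] at this
  omega

theorem ks (h : E6 G) (ih : IH.{u} (Nat.card G + 1)) (hM : Core.IsMinNormal M) (hs : ¬ Sol M) :
    KS M := by
  have := hM.normal
  obtain ⟨K, hK, hle⟩ := hM.exists_component_le hs
  have h1 := Core.component_not_isSolvable hK
  have h2 := cent_eq_bot h h1
  have h3 : K.Normal := normalIn_top.1 ⟨le_top, fun g _ => conj_eq_self_iff.1 (by_contra fun e =>
    Core.component_ne_bot (Core.component_map_conj hK g) (le_bot_iff.1 (h2 ▸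
      Core.component_le_centralizer_of_ne (Core.component_map_conj hK g) hK e)))⟩
  obtain rfl := hM.eq_of_le hle (Core.component_ne_bot hK)
  exact ih K (Nat.lt_succ_of_le (card_le_card_group K)) (Core.isSimpleGroup_of_isQuasisimple hK.2
    (eq_bot_iff.2 fun z hz => Subtype.ext (mem_bot.1 (h2.le (mem_cent_iff.2 fun y hy =>
      congrArg Subtype.val (mem_center_iff.1 hz ⟨y, hy⟩))))))
    (Core.not_isMulCommutative_of_isQuasisimple hK.2) (h.sub K)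

theorem exists_min (hs : ¬ Group.IsSolvable G) : ∃ M : Subgroup G, Core.IsMinNormal M := by
  have : Nontrivial G := not_subsingleton_iff_nontrivial.1 fun _ => hs inferInstance
  exact Core.exists_isMinNormal

theorem ha (h : E6 G) (ih : IH.{u} (Nat.card G + 1)) (hs : ¬ Group.IsSolvable G)
    (h3 : pCore 3 G = ⊥) : HA G := by
  have := Fact.mk Nat.prime_three
  obtain ⟨M, hM⟩ := exists_min hs
  have := hM.normal
  by_cases e : Sol M
  swap
  · rcases ks h ih hM e with ⟨⟨i⟩⟩ | ⟨⟨i⟩⟩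
    · exact (ha5.map i.symm.toMonoidHom i.symm.injective).map M.subtype M.subtype_injective
    · exact (ha6.map i.symm.toMonoidHom i.symm.injective).map M.subtype M.subtype_injective
  obtain ⟨p, hp, hE⟩ := hM.exists_isElementaryAbelian e
  obtain ⟨v, hv, v1⟩ := exists_mem_ne_one hM.ne_bot
  have := Fact.mk hp
  rcases h.prime hp (orderOf_eq_prime (hE.2 v hv) v1 ▸ OO.orderOf_dvd_card hv) with rfl | rfl | rfl
  rotate_left
  · exact absurd (le_bot_iff.1 (h3 ▸ Core.le_pCore (abelem_isPGroup hE))) hM.ne_bot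
  · exact absurd (no5 h hs hE) hM.ne_bot
  have s2 : ∀ a ∈ M, a * a = 1 := fun a ha => (sq a).symm.trans (hE.2 a ha)
  obtain ⟨y, hy, e1⟩ := exists_not_mem h hs (sol_cent h hv v1 fun e1 => v1 (by
    rwa [show 5 = 2 * 2 + 1 by rfl, pow_succ, pow_mul, hE.2 v hv, one_pow, one_mul] at e1)) (.inl rfl)
  have y3 := h.pow3 hy (mem_zpowers y)
  rw [mem_cent_iff_conj] at e1
  push Not at e1
  obtain ⟨q, hq, e2⟩ := e1
  have hn : ∀ {a}, a ∈ M → y * a * y⁻¹ ∈ M := fun ha => hM.normal.conj_mem _ ha y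
  have c := ab_iff.1 hE.1
  have e3 : y * (y * (y * q * y⁻¹) * y⁻¹) * y⁻¹ = q := by
    rw [show y * (y * (y * q * y⁻¹) * y⁻¹) * y⁻¹ = y * y * y * q * (y * y * y)⁻¹ by group, cube y3]
    group
  have e4 : q * (y * q * y⁻¹) ≠ 1 := fun e4 =>
    e2 ((eq_inv_of_mul_eq_one_right e4).trans (inv_eq (s2 q hq)))
  have e5 := mul_mem hq (hn hq)
  refine ⟨q * (y * q * y⁻¹), _, y, e4, conj_ne_one e4 y, fun e6 => e2 ?_, s2 _ e5, s2 _ (hn e5),
    c _ e5 _ (hn e5), rfl, ?_, y3⟩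
  · rw [← conj_mul, c q hq _ (hn hq), mul_right_inj] at e6
    rwa [← e6] at e3
  · rw [cj_mul y q, cj_mul y (y * q * y⁻¹), e3, c _ (hn (hn hq)) q hq, mul_assoc q,
      ← mul_assoc (y * q * y⁻¹), s2 _ (hn hq), one_mul]

theorem no3 (h : E6 G) (ih : IH.{u} (Nat.card G + 1)) (hs : ¬ Group.IsSolvable G)
    (h2 : pCore 2 G = ⊥) : pCore 3 G = ⊥ := by
  have := Fact.mk Nat.prime_two
  have := Fact.mk Nat.prime_three
  by_contra h0
  have hR := Core.isPGroup_pCore (G := G) 3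
  obtain ⟨e, f, y, k1, k2, k3, k4, k5, k6, k7, k8, k9⟩ := ha (h.quot (pCore 3 G)) (fun X _ _ e => ih X
    (e.trans_le (Nat.succ_le_succ (Nat.le_of_dvd Nat.card_pos (card_quotient_dvd_card _)))))
    (not_sol_quot hs (sol_of_isPGroup hR)) Core.pCore_quotient_pCore
  have p : F4 e f := ⟨k1, k2, k3, k4, k5, k6⟩
  obtain ⟨B, hB, l1, l2, l3⟩ := lift (QuotientGroup.mk'_surjective (pCore 3 G))
    (by rwa [QuotientGroup.ker_mk']) (by decide) p.two
  obtain ⟨a, ha, rfl⟩ := l1 e (t_mem_S4 _ _)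
  obtain ⟨b, hb, rfl⟩ := l1 f (s_mem_S4 _ _)
  obtain ⟨z, hz, rfl, z3⟩ := l3 3 y (conj_eq_self_iff.1 (by rw [conj_S4, k7, k8, p.S4_rot]))
    (three_zpowers k9)
  have hn : ∀ g, g ∈ 𝐍(pCore 3 G) := fun g => by simp [normalizer_eq_top]
  have a2 : a * a = 1 := l2 _ (mul_mem ha ha) _ (one_mem B) (by rw [map_mul, k4, map_one])
  have h3 := h.a4 hR (e := a) (f := b) ⟨fun e => k1 (by rw [e, map_one]), fun e => k2 (by rw [e, map_one]),
    fun e => k3 (by rw [e]), a2, l2 _ (mul_mem hb hb) _ (one_mem B) (by rw [map_mul, k5, map_one]),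
    l2 _ (mul_mem ha hb) _ (mul_mem hb ha) (by rw [map_mul, k6, map_mul])⟩
    ⟨l2 _ (conj_mem_of_norm hz ha) _ hb (by rw [map_mul, map_mul, map_inv, k7]),
      l2 _ (conj_mem_of_norm hz hb) _ (mul_mem ha hb) (by rw [map_mul, map_mul, map_inv, k8, map_mul])⟩
    (h.pow3 z3 (mem_zpowers z)) (hn _) (hn _) (hn _)
  obtain ⟨v, hv, v1⟩ := exists_mem_ne_one h0
  have h4 := sol_cent h hv v1 fun e1 => v1 (h.no15 (orderOf_five e1 v1) rfl (h.pow3 hR hv))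
  have h5 : Fit 𝐂(pCore 3 G) ≤ pCore 3 G := Fit_le_of_forall fun p hp => by
    have hN := normalIn_top.1 ((normalIn_top.2 inferInstance : 𝐂(pCore 3 G) ⊴ ⊤).Op p)
    by_cases e1 : Op p 𝐂(pCore 3 G) = ⊥
    · exact e1.le.trans bot_le
    obtain ⟨M, hM, hle⟩ := Core.exists_isMinNormal_le e1
    have := hM.normal
    have hE := hM.isElementaryAbelian_of_isPGroup ((Op_isPGroup p _).to_le hle)
    obtain ⟨w, hw, w1⟩ := exists_mem_ne_one hM.ne_bot
    rcases h.prime hp.out (orderOf_eq_prime (hE.2 w hw) w1 ▸ OO.orderOf_dvd_card hw) with rfl | rfl | rfl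
    · exact absurd (le_bot_iff.1 (h2 ▸ Core.le_pCore (abelem_isPGroup hE))) hM.ne_bot
    · exact Core.le_pCore (Op_isPGroup 3 _)
    · exact absurd (no5 h hs hE) hM.ne_bot
  exact k1 ((QuotientGroup.eq_one_iff a).2 (h5 (cent_sub_Fitting h4 ⟨h3, cent_anti h5 h3⟩)))

theorem exists_ks (h : E6 G) (ih : IH.{u} (Nat.card G + 1)) (hs : ¬ Group.IsSolvable G)
    (h2 : pCore 2 G = ⊥) : ∃ M : Subgroup G, Core.IsMinNormal M ∧ ¬ Sol M := by
  obtain ⟨M, hM⟩ := exists_min hs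
  have := hM.normal
  refine ⟨M, hM, fun e => ?_⟩
  obtain ⟨p, hp, hE⟩ := hM.exists_isElementaryAbelian e
  obtain ⟨v, hv, v1⟩ := exists_mem_ne_one hM.ne_bot
  have := Fact.mk hp
  rcases h.prime hp (orderOf_eq_prime (hE.2 v hv) v1 ▸ OO.orderOf_dvd_card hv) with rfl | rfl | rfl
  · exact hM.ne_bot (le_bot_iff.1 (h2 ▸ Core.le_pCore (abelem_isPGroup hE)))
  · exact hM.ne_bot (le_bot_iff.1 (no3 h ih hs h2 ▸ Core.le_pCore (abelem_isPGroup hE)))
  · exact hM.ne_bot (no5 h hs hE)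

section

variable (h : E6 G) (hφ : Function.Surjective φ) (hk : IsPGroup 2 φ.ker)
include h hφ hk

theorem lift5 {x s : X} (x1 : x ≠ 1) (x5 : x ^ 5 = 1) (s4 : s ^ 4 = 1) {n : ℤ}
    (e : s * x * s⁻¹ = x ^ n) : ∃ y t : G, orderOf y = 5 ∧ φ t = s ∧ t ^ 4 = 1 ∧
      t * y * t⁻¹ = y ^ n := by
  have := Fact.mk Nat.prime_two
  have := Fact.mk Nat.prime_five
  obtain ⟨B, hB, l1, l2, l3⟩ := lift hφ hk (by decide) (five_zpowers x5)
  obtain ⟨y, hy, rfl⟩ := l1 x (mem_zpowers x)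
  obtain ⟨t, ht, rfl, t2⟩ := l3 2 s (mem_norm_of_conj_le (by
    rw [conj_zpowers, e]; exact zpowers_le.2 (zpow_mem_zpowers _ n))) (two_zpowers s4)
  exact ⟨y, t, orderOf_five (h.pow5 hB hy) fun e1 => x1 (by rw [e1, map_one]), rfl,
    h.pow4' t2 (mem_zpowers t), l2 _ (conj_mem_of_norm ht hy) _ (zpow_mem hy n)
      (by rw [map_mul, map_mul, map_inv, e, map_zpow])⟩

theorem ker_eq_bot (hF : HF X) : φ.ker = ⊥ := by
  obtain ⟨x, s, h1, h2, h3, h4⟩ := hF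
  obtain ⟨y, t, k1, -, k2, k3⟩ := lift5 h hφ hk h1 h2 h4 (n := 2) (by rw [h3, zpow_ofNat])
  exact h.f20 hk k1 (by rw [k3, zpow_ofNat]) k2 (by simp [normalizer_eq_top]) (by simp [normalizer_eq_top])

theorem ker_sq (hD : HD X) : ∀ q ∈ φ.ker, q * q = 1 := by
  obtain ⟨x, s, h1, h2, h3, h4⟩ := hD
  obtain ⟨y, t, k1, rfl, -, k3⟩ := lift5 h hφ hk h1 h2 (n := -1)
    (by rw [show 4 = 2 * 2 by rfl, pow_mul, sq s, h3, one_pow]) (by rw [h4, zpow_neg_one])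
  rw [zpow_neg_one] at k3
  refine h.d10 hk k1 (h.no10 k1 (comm_of_conj_eq ?_) hk (show φ (t * t) = 1 by rw [map_mul, h3])) k3
    (by simp [normalizer_eq_top]) (by simp [normalizer_eq_top])
  rw [show t * t * y * (t * t)⁻¹ = t * (t * y * t⁻¹) * t⁻¹ by group, k3, ← conj_inv, k3, inv_inv]

theorem exists_cent (hH : HH X) : ∃ a ∈ 𝐂(φ.ker), φ a ≠ 1 := by
  have := Fact.mk Nat.prime_two
  have := Fact.mk Nat.prime_three
  obtain ⟨a, b, s, h1, h2, h3, h4, h5, h6⟩ := hH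
  obtain ⟨B, hB, l1, l2, l3⟩ := lift hφ hk (by decide) (C := S4 a b) (isPGroup_sup (three_zpowers h2)
    (three_zpowers (h4 ▸ conj_cube h2 s)) (.inl (le_norm_of_le_cent (by
      rw [cent_zpowers, zpowers_le]; exact mem_cent1.2 h3))))
  obtain ⟨c, hc, rfl⟩ := l1 a (t_mem_S4 _ _)
  obtain ⟨d, hd, rfl⟩ := l1 b (s_mem_S4 _ _)
  obtain ⟨t, ht, rfl, t2⟩ := l3 2 s (mem_norm_of_conj_le (by
    rw [conj_S4, h4, h5]; exact S4_le.2 ⟨s_mem_S4 _ _, inv_mem (t_mem_S4 _ _)⟩)) (two_zpowers h6)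
  exact ⟨c, h.hh4 hk (h.pow3 hB hc) (l2 _ (mul_mem hc hd) _ (mul_mem hd hc) (by rw [map_mul, h3, map_mul]))
    (l2 _ (conj_mem_of_norm ht hc) _ hd (by rw [map_mul, map_mul, map_inv, h4]))
    (l2 _ (conj_mem_of_norm ht hd) _ (inv_mem hc) (by rw [map_mul, map_mul, map_inv, h5, map_inv]))
    (h.pow4' t2 (mem_zpowers t)) (by simp [normalizer_eq_top]) (by simp [normalizer_eq_top]), h1⟩

end

end Ns

open Ns in
theorem ns0 : NS0.{u} := fun X _ _ h ih hs => by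
  have := Fact.mk Nat.prime_two
  have hQ := Core.isPGroup_pCore (G := X) 2
  have h1 := h.quot (pCore 2 X)
  have ih' : IH.{u} (Nat.card (X ⧸ pCore 2 X) + 1) := fun Y _ _ e => ih Y
    (e.trans_le (Nat.succ_le_succ (Nat.le_of_dvd Nat.card_pos (card_quotient_dvd_card _))))
  obtain ⟨N, hN, h2⟩ := exists_ks h1 ih' (not_sol_quot hs (sol_of_isPGroup hQ)) Core.pCore_quotient_pCore
  have h3 := ks h1 ih' hN h2
  have h4 := cent_eq_bot h1 h2
  refine ⟨N, hN.normal, h3, h4, fun h0 => ?_⟩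
  have hφ := QuotientGroup.mk'_surjective (pCore 2 X)
  have hk := QuotientGroup.ker_mk' (pCore 2 X)
  have h5 : N = ⊤ := by_contra fun e => h0 (hk ▸ ker_eq_bot h hφ (hk.symm ▸ hQ) (by
    rcases as0 _ N h1 hN.normal h3 h4 e with ⟨⟨i⟩⟩ | ⟨⟨i⟩⟩
    · exact hf5.map i.symm.toMonoidHom i.symm.injective
    · exact hf6.map i.symm.toMonoidHom i.symm.injective))
  rcases h3 with ⟨⟨i⟩⟩ | ⟨⟨i⟩⟩
  · exact ⟨h5, ⟨i⟩, hk ▸ ker_sq h hφ (hk.symm ▸ hQ)
      ((hd5.map i.symm.toMonoidHom i.symm.injective).map N.subtype N.subtype_injective)⟩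
  obtain ⟨a, ha, a1⟩ := exists_cent h hφ (hk.symm ▸ hQ)
    ((hh6.map i.symm.toMonoidHom i.symm.injective).map N.subtype N.subtype_injective)
  rw [hk] at ha
  obtain ⟨v, hv, v1⟩ := exists_mem_ne_one h0
  have h6 := sol_cent h hv v1 fun e1 => v1 (h.no10 (orderOf_five e1 v1) rfl hQ hv)
  have := Normal.map (inferInstance : 𝐂(pCore 2 X).Normal) _ hφ
  refine absurd (sol_of_le (Core.isSolvable_map h6 _) (hN.le_of_inf_ne_bot fun e => a1 (mem_bot.1 (e.le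
    ⟨h5.ge (mem_top _), mem_map_of_mem _ ha⟩)))) h2

end Cfsg.Agent.OE
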