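import Cfsg.Agent.Lib.OE.L1
import Cfsg.Agent.Lib.NS.RK2

/-!
# Package RK of plan OE: the simple groups of 2-rank two
-/

set_option autoImplicit false

namespace Cfsg.Agent.OE

open Subgroup Cfsg.Agent.OO Cfsg.Agent.Coprime GW GW2 NS NS.Rk
open scoped Pointwise commutatorElement

universe u

namespace Rk

variable {G : Type u} [Group G] [Finite G] {S : Subgroup G} {a f g x y z : G}

theorem dh_of_dqs [IsSimpleGroup G] (hn : ¬ IsMulCommutative G) (h6 : E6 G) (hS : Syl 2 S ⊤)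
    {n : ℕ} {x y : S} (h : PGrp.IsDQS n x y) : DH G := by
  have k : ∀ v : S, (v : G) ∈ zpowers (x : G) ↔ v ∈ zpowers x := fun v =>
    ⟨fun ⟨i, hi⟩ => ⟨i, Subtype.ext (by simpa using hi)⟩, fun ⟨i, hi⟩ => ⟨i, by simp [← hi]⟩⟩
  by_cases hs : ∃ s : S, s ∉ zpowers x ∧ s * s = 1
  · obtain ⟨s, hs, s2⟩ := hs
    have e : s * x * s⁻¹ = x⁻¹ := by
      obtain ⟨j, -, ⟨i, hi⟩, hj⟩ := h.exists_conj'
      have h4 : x ^ 4 = 1 := Subtype.ext (h6.pow4' hS.isPGroup x.2)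
      have := hj s hs 1
      rw [zpow_one, mul_one] at this
      rw [this, eq_inv_iff_mul_eq_one, ← zpow_add_one, hi, zpow_mul, zpow_ofNat, h4, one_zpow]
    refine CS2.dh_of_syl hS (a := x) (fun v hv n => ?_) fun v hv w hw n n' => ?_
    · obtain ⟨i, hi⟩ := h.mul_inv_mem (mt (k ⟨v, hv⟩).2 n) hs
      simp only [eq_mul_inv_iff_mul_eq] at hi
      have : (⟨v, hv⟩ : S) * ⟨v, hv⟩ = 1 := by
        rw [← hi, show x ^ i * s * (x ^ i * s) = x ^ i * (s * x ^ i * s⁻¹) * (s * s) by group, s2,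
          ← conj_zpow, e]
        simp
      exact congrArg Subtype.val this
    · have := h.mul_inv_mem (mt (k ⟨v, hv⟩).2 n) (g' := (⟨w, hw⟩ : S)⁻¹)
        (by rw [inv_mem_iff]; exact mt (k ⟨w, hw⟩).2 n')
      rw [inv_inv] at this
      exact (k _).2 this
  · push Not at hs
    obtain ⟨m, rfl⟩ := Nat.exists_eq_add_of_le' h.1
    have ho := h.2.2.1
    have z1 : x ^ 2 ^ (m + 1) ≠ 1 := pow_ne_one_of_lt_orderOf (by positivity)
      (ho ▸ Nat.pow_lt_pow_right one_lt_two (Nat.lt_succ_self _))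
    have z2 : x ^ 2 ^ (m + 1) * x ^ 2 ^ (m + 1) = 1 := by
      rw [← pow_add, ← two_mul, ← pow_succ', ← ho, pow_orderOf_eq_one]
    have z3 : ((x ^ 2 ^ (m + 1) : S) : G) ≠ 1 := fun e => z1 (Subtype.ext e)
    have z4 : ((x ^ 2 ^ (m + 1) : S) : G) * (x ^ 2 ^ (m + 1) : S) = 1 := congrArg Subtype.val z2
    refine absurd (fun g hg => ?_) (not_iso hn hS (x ^ 2 ^ (m + 1) : S).2 z3 z4)
    have h2 : (⟨_, hg⟩ : S) * ⟨_, hg⟩ = 1 := Subtype.ext (BSW.conj_mul_self z4)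
    exact congrArg Subtype.val (CIT.eq_of_mem_zpowers ho (by_contra fun e => hs _ e h2)
      (fun e => BSW.conj_ne_one z3 (congrArg Subtype.val e)) h2)

theorem dh_of_sc [IsSimpleGroup G] (hn : ¬ IsMulCommutative G) (h6 : E6 G) (h8 : ¬ E8 G)
    (h : F4 z f) (hS : Syl 2 S ⊤) (hle : S4 z f ≤ S) (hz : S ≤ 𝐂[z])
    (hi : ∀ x ∈ S, x * x = 1 → x ∈ S4 z f) : DH G := by
  have := Fact.mk Nat.prime_two
  have hA : R4.SC (S4 z f) := R4.sc_of_scl hS (isEp h).abelem fun a ha g _ hg =>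
    hi _ hg (conj_sq (h.sq ha) g)
  have h1 := le_cent hn h hS hA hle hz
  by_cases hab : Ab S
  · have h2 : ¬ 8 ∣ Nat.card G := W0.w0 G inferInstance hn (fun P hP => by
      obtain ⟨g, -, e⟩ := hS.exists_conj_le le_top hP
      exact ab_conj.1 (ab_of_le hab e)) fun B hB => by
        obtain ⟨n, k⟩ := exists_isEp_of_abelem hB (le_top (a := B))
        by_contra! e
        refine h8 ((k.exists_le (k := 3) ?_).imp fun C hC => hC.top)
        by_contra! e'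
        have h3 : ♯B ≤ 2 ^ 2 := k.card ▸ Nat.pow_le_pow_right two_pos (by omega)
        exact absurd (e.trans h3) (by norm_num)
    have h3 := (h.mk_pair (mem_top z) (mem_top f) (by rwa [card_top])).syl
    refine CS2.dh_of_syl h3 (a := z) (fun x hx _ => h.sq hx) fun x hx y hy n n' => ?_
    have m := mem_zpowers z
    rcases h.mem.1 hx with rfl | rfl | rfl | rfl
    · exact absurd (one_mem _) n
    · exact absurd m n
    all_goals rcases h.mem.1 hy with rfl | rfl | rfl | rfl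
    · exact absurd (one_mem _) n'
    · exact absurd m n'
    · exact h.e2 ▸ one_mem _
    · exact h.ete.symm ▸ m
    · exact absurd (one_mem _) n'
    · exact absurd m n'
    · rw [mul_assoc, h.e2, mul_one]; exact m
    · exact h.mul_sq ▸ one_mem _
  obtain ⟨r, h2, h3, h5⟩ := exists_q4 hn hA h.card hS hle h1
  have k : R4.US S (S4 z f) r := ⟨h5, hS, h2, h3, hle, h1, hi, hab⟩
  refine ((k.hyp hA fun n hn' => ?_).false_of (perf hn)).elim
  have h4 := cent_le_cent1 (t_mem_S4 z f) hn'.2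
  by_cases e : n ^ 4 = 1
  · have h7 : n ∈ S := hS.mem_of_mem_norm (mem_top n) hn'.1
      ((isPiNum_singleton_pow Nat.prime_two 2).of_dvd (orderOf_dvd_of_pow_eq_one e))
    exact ⟨cent_le_norm _ hn'.2, fun x hx => k.comm h7 hx⟩
  have y3 : (n ^ 4) ^ 3 = 1 := by
    rw [← pow_mul, ← orderOf_dvd_iff_pow_eq_one]
    rcases h6.cases n with e | e | e | e | e | e <;> rw [e] <;> try norm_num
    exact h6.not_five h.t1 h.t2 (e ▸ OO.orderOf_dvd_card h4)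
  have := Fact.mk Nat.prime_three
  have h7 := R4.ncard_modEq_conj (abelem_isPGroup (abelem_zpowers y3))
    (X := {x | x ∈ S ∧ x * x = z}) fun g hg w hw =>
      ⟨conj_mem_of_norm (zpowers_le.2 (pow_mem hn'.1 4) hg) hw.1, by
        rw [← cj_mul, hw.2, mem_cent1_iff_conj.1 (zpowers_le.2 (pow_mem h4 4) hg)]⟩
  rw [k.ncard_fib (t_mem_S4 z f) h.t1] at h7
  obtain ⟨w, hw⟩ := Set.nonempty_of_ncard_ne_zero (fun e => by rw [e] at h7; exact absurd h7 (by decide) :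
    Set.ncard {w ∈ {x | x ∈ S ∧ x * x = z} | ∀ a ∈ zpowers (n ^ 4), a * w * a⁻¹ = w} ≠ 0)
  exact absurd (hw.1.2.symm.trans (h6.no12 y3 e (comm_of_conj_eq (hw.2 _ (mem_zpowers _))).symm
    (h6.pow4 hS.isPGroup hw.1.1))) h.t1

theorem sq_mem (h : NF S z f) (h8 : ¬ E8 G) (ha : a ∈ S) (a2 : a * a = 1) (af : a ∉ 𝐂[f])
    (hx : x ∈ S) : x * x ∈ zpowers z := by
  have k : ∀ x ∈ S, ∀ y ∈ S, y ∉ 𝐂[f] → y ∈ 𝐂[x * x] → x * x ∈ zpowers z := fun x hx y hy e e' => by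
    rcases h.p.mem.1 (mem_four h8 h.p (h.cent (mul_mem hx hx)) (h.sq_mem_C hx)
      (h.e6.pow4 h.syl.isPGroup hx)) with e1 | e1 | e1 | e1 <;> rw [e1] at e' ⊢
    exacts [one_mem _, mem_zpowers z, absurd e' e, absurd (h.p.cent_mul.le ⟨h.cent hy, e'⟩).2 e]
  have k1 : ∀ y ∈ S, y ∉ 𝐂[f] → y * y ∈ zpowers z := fun y hy e =>
    k y hy y hy e (mem_cent1.2 (mul_assoc y y y).symm)
  by_cases e : x ∈ 𝐂[f]
  swap
  · exact k1 x hx e
  have h1 := k1 _ (mul_mem ha hx) (mt (mul_mem_cancel_right e).1 af)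
  have h2 : a * x * a⁻¹ = a * x * (a * x) * x⁻¹ := by rw [inv_eq_of_sq a2]; group
  generalize a * x * (a * x) = w at h1 h2
  refine k x hx a ha af (mem_cent1_iff_conj.2 ?_)
  have h3 := h.e6.pow4 h.syl.isPGroup hx
  rw [cj_mul, h2, mul_assoc, ← mul_assoc x⁻¹,
    mem_cent1.1 (cent1_le_of_mem_zpowers h1 (h.cent (inv_mem hx))), mul_assoc, ← mul_assoc w, ← mul_inv_rev,
    inv_eq_of_sq h3]
  rcases (mem_zp h.p.t2).1 h1 with e | e <;> simp [e, h.p.t2]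

theorem dh_of_not_cent [IsSimpleGroup G] (hn : ¬ IsMulCommutative G) (h : NF S z f) (h8 : ¬ E8 G)
    (ha : a ∈ S) (a2 : a * a = 1) (af : a ∉ 𝐂[f]) : DH G := by
  obtain ⟨g, hg, g1⟩ : ∃ g, g * z * g⁻¹ ∈ S ∧ g * z * g⁻¹ ≠ z := by
    by_contra! e
    exact not_iso hn h.syl h.zT h.p.t1 h.p.t2 e
  have b2 := conj_sq h.p.t2 g
  have k : ∀ c ∈ S, c ∈ 𝐂[g * z * g⁻¹] → c * c ≠ z := fun c hc e e' => by
    obtain ⟨k, hk, h1⟩ := (cent1_conj g z ▸ h.sylC.conj g).exists_le_conj' (zpowers_le.2 e)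
      (h.syl.isPGroup.to_le (zpowers_le.2 hc))
    have h2 := conj_mem_conj (g := k * g) (sq_mem h h8 ha a2 af
      (mem_conj.1 (conj_conj k g S ▸ h1 (mem_zpowers c))))
    rw [conj_zpowers, mul_cj k g z, mem_cent1_iff_conj.1 hk, show ∀ m : G,
      m * (m⁻¹ * c * m * (m⁻¹ * c * m)) * m⁻¹ = c * c from fun m => by group, e'] at h2
    exact ((mem_zp b2).1 h2).elim h.p.t1 g1.symm
  have k1 : ∀ b ∈ S, b * b = 1 → b ∉ 𝐂[f] → DH G ∨ ∃ c ∈ S ⊓ 𝐂[b], c ∈ 𝐂[f] ∧ c * c = z :=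
    fun b hb b2 bf => (h.out hb b2 bf fun e he e2 =>
      mem_four h8 (h.za hb b2 bf) (h.cent he.1) he.2 e2).imp_left fun e =>
        dh_of_out h.p (e ▸ h.syl) (h.normal.norm hb) (h.cent hb) bf b2
  by_cases e : g * z * g⁻¹ ∈ 𝐂[f]
  · refine (k1 a ha a2 af).resolve_right fun ⟨c, hc, h1, h2⟩ => k c hc.1 ?_ h2
    exact cent_le_cent1 (mem_four h8 h.p (h.cent hg) e b2) ((cent_S4 z f).ge ⟨h.cent hc.1, h1⟩)
  · exact (k1 _ hg b2 e).resolve_right fun ⟨c, hc, _, h2⟩ => k c hc.1 hc.2 h2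

end Rk

theorem rk : RK.{u} := fun G _ _ hs hn h6 h8 => by
  have := Fact.mk Nat.prime_two
  obtain ⟨S, hS⟩ := exists_syl 2 (⊤ : Subgroup G)
  rcases PGrp.isCyclic_or_dqs_or_exists_normal_elemAb hS.isPGroup with
    h | ⟨-, n, x, y, h⟩ | ⟨E, h1, h2, h3⟩
  · obtain ⟨a, ha⟩ := exists_zpowers_eq h
    exact CS2.dh_of_syl hS (a := a) (fun x hx n => absurd (ha ▸ hx) n)
      fun x hx y _ n => absurd (ha ▸ hx) n
  · exact Rk.dh_of_dqs hn h6 hS h
  have hW : IsEp 2 2 (E.map S.subtype) S := ⟨map_subtype_le _, abelem_map h2 _,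
    by rw [card_map_of_injective S.subtype_injective, h3]⟩
  have hN : S ≤ 𝐍(E.map S.subtype) := (normalIn_map_subtype E).norm
  generalize E.map S.subtype = A at hW hN
  obtain ⟨z, ⟨hz, hzS⟩, z1⟩ := exists_mem_ne_one (inf_cent_ne_bot_of_isPGroup hS.isPGroup
    hW.isPGroup hN (hW.ne_bot two_ne_zero))
  obtain ⟨f, hf, hf'⟩ : ∃ f ∈ A, f ∉ zpowers z := by
    by_contra! e
    exact hW.not_isCyclic le_rfl (isCyclic_of_le' inferInstance e)
  have p : F4 z f := ⟨z1, fun e => hf' (e ▸ one_mem _), fun e => hf' (e ▸ mem_zpowers _),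
    R4.abelem_sq hW.abelem hz, R4.abelem_sq hW.abelem hf, ab_iff.1 hW.ab z hz f hf⟩
  obtain rfl : S4 z f = A := (isEp p).eq_of_le hW (S4_le.2 ⟨hz, hf⟩)
  have hz' : S ≤ 𝐂[z] := le_cent1_iff.2 hzS
  by_cases ha : ∃ a ∈ S, a * a = 1 ∧ a ∉ 𝐂[f]
  · obtain ⟨a, ha, a2, ha'⟩ := ha
    exact Rk.dh_of_not_cent hn ⟨h6, hS, p, ⟨hW.le, hN⟩, hz'⟩ h8 ha a2 ha'
  · push Not at ha
    exact Rk.dh_of_sc hn h6 h8 p hS hW.le hz' fun x hx x2 =>
      mem_four h8 p (hz' hx) (ha x hx x2) x2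

end Cfsg.Agent.OE
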