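import Cfsg.Agent.Lib.OE.Act

/-!
# Package ST3 of plan OE: `{2,3}`-groups of characteristic two with element orders at most six
-/

set_option autoImplicit false
set_option linter.unusedSectionVars false

namespace Cfsg.Agent.OE

open Subgroup Cfsg.Agent.OO Cfsg.Agent.Coprime GW GW2
open scoped Pointwise commutatorElement

universe u

namespace ST3

variable {G : Type u} [Group G] [Finite G] {E H L M P P' R T : Subgroup G} {a b g t y : G}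

local instance : Fact (Nat.Prime 3) := ⟨Nat.prime_three⟩

theorem Op'_eq {p q : ℕ} [Fact p.Prime] [Fact q.Prime] (hpq : q ≠ p)
    (h : ∀ r, r.Prime → r ∣ ♯H → r = p ∨ r = q) : Op' p H = Op q H :=
  le_antisymm (le_Op (Opi_normal _ H) (PiGrp.isPGroup fun r hr hd =>
    (h r hr (hd.trans (card_dvd_of_le (Opi_le _ H)))).resolve_left (Op'_piGrp p H r hr hd)))
    (Op_le_Op' hpq H)

theorem primes (hE : E6 G) (h5 : ¬ 5 ∣ ♯H) (r : ℕ) (hr : r.Prime) (hd : r ∣ ♯H) : r = 2 ∨ r = 3 := by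
  rcases hE.prime hr hd with e | e | e
  exacts [.inl e, .inr e, absurd (e ▸ hd) h5]

theorem O3 (hE : E6 G) (h5 : ¬ 5 ∣ ♯H) : Op' 3 H = Op 2 H :=
  Op'_eq (by decide) fun r hr hd => (primes hE h5 r hr hd).symm

theorem O2 (hE : E6 G) (h5 : ¬ 5 ∣ ♯H) : Op' 2 H = Op 3 H := Op'_eq (by decide) (primes hE h5)

theorem frat {p : ℕ} [Fact p.Prime] (hP : Syl p P (Op'p p H)) (hg : g ∈ H) :
    ∃ k ∈ Op' p H, ∃ n ∈ H ⊓ 𝐍(P), k * n = g :=
  (mem_sup_norm_left (inf_le_left.trans (Opi_normal _ H).norm)).1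
    ((Pf.B4.Op'_sup_norm hP).symm ▸ hg)

theorem eq_one (h2 : IsPGroup 2 T) (ha : a ∈ T) (a3 : a ^ 3 = 1) : a = 1 := by
  by_contra a1
  exact a1 (NS.eq_one_of_two h2 ha (by rw [orderOf_three a3 a1]; decide))

/-- groups of exponent three are 2-Engel -/
theorem engel (hE : E6 G) (hR : IsPGroup 3 R) (ha : a ∈ R) (hb : b ∈ R) :
    a * (b * a * b⁻¹) = b * a * b⁻¹ * a := by
  have b3 := hE.pow3 hR hb
  have h1 := hE.norm3 hR b3 (le_norm_self R hb) ha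
  have h2 := hE.norm3 hR b3 (le_norm_self R hb) (inv_mem ha)
  rw [show b * a⁻¹ * b⁻¹ = (b * a * b⁻¹)⁻¹ by group] at h2
  generalize b * a * b⁻¹ = c at h1 h2 ⊢
  rw [eq_inv_of_mul_eq_one_left h1, ← inv_inj, inv_inv, mul_inv_rev, eq_inv_of_mul_eq_one_left h2]
  group

theorem sq (hE : E6 G) (hc : Ch L) (h5 : ¬ 5 ∣ ♯L) (hT : Syl 2 T L) (ht : t ∈ T) :
    t * t ∈ Op 2 L := by
  obtain ⟨R, hR⟩ := exists_syl 3 (Op'p 3 L)
  obtain ⟨k, hk, n, hn, rfl⟩ := frat hR (hT.le ht)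
  rw [O3 hE h5] at hk
  have hQ := (Op_normal 2 L).norm
  have hnT : n ∈ T := (mul_mem_cancel_left (Op_le_syl hT hk)).1 ht
  suffices n * n ∈ Op 2 L by
    rw [show k * n * (k * n) = k * (n * k * n⁻¹) * (n * n) by group]
    exact mul_mem (mul_mem hk (conj_mem_of_norm (hQ hn.1) hk)) this
  by_contra hu
  have n4 := hE.pow4 hT.isPGroup hnT
  have hC : n * n ∉ 𝐂(R) := fun e => hu (O3 hE h5 ▸ Pf.B4.mem_Op'_of_cent (hE.sol h5) hR
    (mul_mem hn.1 hn.1) e ((show Nat.Coprime 2 3 by decide).coprime_dvd_left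
      (orderOf_dvd_of_pow_eq_one ((pow_two _).trans n4))))
  obtain ⟨r, hr, e⟩ : ∃ r ∈ R, r * (n * n) ≠ n * n * r := by
    by_contra! e; exact hC (mem_cent_iff.2 e)
  obtain ⟨a, ha⟩ : ∃ a, a = r * (n * n * r⁻¹ * (n * n)⁻¹) := ⟨_, rfl⟩
  have haR : a ∈ R := ha ▸ mul_mem hr (conj_mem_of_norm (mul_mem hn.2 hn.2) (inv_mem hr))
  have a1 : a ≠ 1 := fun e' => e (by
    rw [← one_mul (n * n * r), ← e', ha]; generalize n * n = u; group)
  have hb : n * a * n⁻¹ ∈ R := conj_mem_of_norm hn.2 haR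
  have sb : n * (n * a * n⁻¹) * n⁻¹ = a⁻¹ := by
    rw [← mul_cj, ha]
    generalize n * n = u at n4
    rw [cj_mul, ← mul_cj, n4]
    group
  generalize hb' : n * a * n⁻¹ = b at hb sb
  have ab : a * b = b * a := by
    have h1 := engel hE hR.isPGroup haR hb
    have h2 : n * ⁅a, b⁆ * n⁻¹ = ⁅a, b⁆ := by
      rw [conjugate_commutatorElement, hb', sb]
      calc ⁅b, a⁻¹⁆ = (b * a * b⁻¹)⁻¹ * a := by simp only [commutatorElement_def]; group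
        _ = _ := by rw [← (Commute.inv_right h1).eq]; simp only [commutatorElement_def]; group
    by_contra e
    exact hu (hE.no12 (hE.pow3 hR.isPGroup (mul_mem (mul_mem (mul_mem haR hb) (inv_mem haR)) (inv_mem hb)))
      (fun e' => e (commutatorElement_eq_one_iff_mul_comm.1 e')) (comm_of_conj_eq h2) n4 ▸ one_mem _)
  have haL := Op'p_le 3 L (hR.le haR)
  have a3 := hE.pow3 hR.isPGroup haR
  exact a1 (eq_one (Op_isPGroup 2 L) (hc ⟨haL, hE.hh4 (Op_isPGroup 2 L) a3 ab hb' sb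
    (hE.pow4' hT.isPGroup hnT) (hQ haL) (hQ hn.1)⟩) a3)

theorem comm_of_sq (h : ∀ t ∈ T, t * t = 1) (ha : a ∈ T) (hb : b ∈ T) : a * b = b * a := by
  rw [← inv_eq_of_sq (h _ (mul_mem ha hb)), mul_inv_rev, inv_eq_of_sq (h a ha), inv_eq_of_sq (h b hb)]

/-- 3-closure -/
theorem closed (hE : E6 G) (h5 : ¬ 5 ∣ ♯H) (h2 : ∀ T, Syl 2 T H → ∀ t ∈ T, t * t = 1)
    (h0 : Op 2 H = ⊥) (hy : y ∈ H) (y3 : y ^ 3 = 1) : y ∈ Op 3 H := by
  obtain ⟨E, hS⟩ := exists_syl 2 (Op'p 2 H)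
  obtain ⟨k, hk, n, hn, rfl⟩ := frat hS hy
  rw [O2 hE h5] at hk
  have hQ := (Op_normal 3 H).norm
  refine mul_mem hk (by_contra fun hu => ?_)
  have n3 : n ^ 3 = 1 := hE.pow3 (isPGroup_sup (Op_isPGroup 3 H) (three_zpowers y3)
    (.inr (zpowers_le.2 (hQ hy)))) ((mul_mem_cancel_left (mem_sup_left hk)).1
      (mem_sup_right (mem_zpowers _)))
  have hC : n ∉ 𝐂(E) := fun e => hu (O2 hE h5 ▸ Pf.B4.mem_Op'_of_cent (hE.sol h5) hS hn.1 e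
    ((show Nat.Coprime 3 2 by decide).coprime_dvd_left (orderOf_dvd_of_pow_eq_one n3)))
  obtain ⟨e, he, ne⟩ : ∃ e ∈ E, n * e * n⁻¹ ≠ e := by
    by_contra! e; exact hC (mem_cent_iff_conj.2 e)
  have hEH := hS.le.trans (Op'p_le 2 H)
  obtain ⟨T, hT, hET⟩ := exists_syl_ge hEH hS.isPGroup
  have s2 : ∀ t ∈ E, t * t = 1 := fun t ht => h2 T hT t (hET ht)
  obtain ⟨e1, h1⟩ : ∃ e1, e1 = n * e * n⁻¹ := ⟨_, rfl⟩
  obtain ⟨e2, h2⟩ : ∃ e2, e2 = n * e1 * n⁻¹ := ⟨_, rfl⟩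
  have h3 : n * e2 * n⁻¹ = e := by
    rw [h2, h1, show n * (n * (n * e * n⁻¹) * n⁻¹) * n⁻¹ = (n * n * n) * e * (n * n * n)⁻¹ by group,
      cube n3]; group
  have m1 : e1 ∈ E := h1 ▸ conj_mem_of_norm hn.2 he
  have m2 : e2 ∈ E := h2 ▸ conj_mem_of_norm hn.2 m1
  have f1 : e * e1 ≠ 1 := fun e' => ne (by
    rw [← h1, eq_inv_of_mul_eq_one_right e', inv_eq_of_sq (s2 e he)])
  have r1 : n * (e * e1) * n⁻¹ = e1 * e2 := by rw [cj_mul, ← h1, ← h2]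
  have r2 : n * (e1 * e2) * n⁻¹ = e * e1 * (e1 * e2) := by
    rw [cj_mul, ← h2, h3, mul_assoc, ← mul_assoc e1, s2 e1 m1, one_mul, comm_of_sq s2 m2 he]
  have m3 := mul_mem he m1
  have m4 := mul_mem m1 m2
  have h4 := hE.a4 (Op_isPGroup 3 H) ⟨f1, r1 ▸ conj_ne_one f1 n, fun e' => ne (by
    rw [comm_of_sq s2 m1 m2] at e'
    rwa [← mul_right_cancel e'] at h3), s2 _ m3, s2 _ m4, comm_of_sq s2 m3 m4⟩ ⟨r1, r2⟩ n3
    (hQ (hEH m3)) (hQ (hEH m4)) (hQ hn.1)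
  exact f1 (eq_one hS.isPGroup m3 (hE.pow3 (Op_isPGroup 3 H)
    (cent_Op_le_of_Op'_eq_bot (hE.sol h5) ((O3 hE h5).trans h0) ⟨hEH m3, h4⟩)))

section

variable (hE : E6 G) (hc : Ch L) (h5 : ¬ 5 ∣ ♯L)
include hE hc h5

omit hE hc in
theorem five : ¬ 5 ∣ ♯(L ⁒ Op 2 L) := fun e => h5 (e.trans (card_quo_dvd _ _))

theorem sq' (hT : Syl 2 T L) : ∀ t ∈ T ⁒ Op 2 L, t * t = 1 := fun t ht => by
  have hQ := hT.le.trans (Op_normal 2 L).norm
  obtain ⟨t, ht', rfl⟩ := (mem_quo_of_le hQ).1 ht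
  rw [← coset_mul (hQ ht') (hQ ht'), coset_eq_one (sq hE hc h5 hT ht')]

theorem closed' {y : Coset (Op 2 L)} (hy : y ∈ L ⁒ Op 2 L) (y3 : y ^ 3 = 1) :
    y ∈ Op 3 (L ⁒ Op 2 L) :=
  closed (hE.coset _) (five h5) (fun T hT => by
    obtain ⟨T, hT', rfl⟩ := exists_syl_quo_eq (Op_normal 2 L).norm hT
    exact sq' hE hc h5 hT') (Op_quo_Op 2 L) hy y3

theorem closed'' (hy : y ∈ L) (y3 : y ^ 3 = 1) : coset (Op 2 L) y ∈ Op 3 (L ⁒ Op 2 L) :=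
  closed' hE hc h5 (coset_mem_quo _ hy) (by
    rw [← coset_pow ((Op_normal 2 L).norm hy), y3, coset_one])

theorem three (hR : Syl 3 R L) (hy : y ∈ L) (y3 : y ^ 3 = 1) : y ∈ Op 2 L ⊔ R := by
  have hQ := (Op_normal 2 L).norm
  rw [sup_comm, ← quoPre_quo_eq_sup (hR.le.trans hQ), mem_quoPre]
  exact ⟨hQ hy, Op_le_syl (hR.quo hQ) (closed'' hE hc h5 hy y3)⟩

theorem pair (hT : Syl 2 T L) (hP : P ≤ L) (hP' : P' ≤ L) (h : Pq T P) (h' : Pq T P') :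
    P ≤ 𝐍(Op 2 P ⊓ Op 2 P') := by
  have hQ := (Op_normal 2 L).norm
  obtain ⟨y, hy, y3, hy'⟩ := h.exists_three
  refine h.max (le_norm_inf (h.le.trans (Pq.le_norm_Q P)) (h'.le.trans (Pq.le_norm_Q P'))) hy hy'
    (mem_norm_of_conj_mem fun t ht => ?_)
  have htL := hP (Op_le 2 P ht.1)
  have h1 : ⁅y, t⁆ ∈ Op 2 P := mul_mem (conj_mem_of_norm (Pq.le_norm_Q P hy) ht.1) (inv_mem ht.1)
  have h2 : ⁅y, t⁆ ∈ Op 2 L := by
    have h3 := closed'' hE hc h5 (hP hy) y3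
    rw [← coset_eq_one_iff (hQ (hP (Op_le 2 P h1)))]
    refine eq_one (isPGroup_quo (Op_isPGroup 2 P) _) (coset_mem_quo _ h1)
      ((hE.coset _).pow3 (Op_isPGroup 3 (L ⁒ Op 2 L)) ?_)
    rw [coset_commutator (hQ (hP hy)) (hQ htL), commutatorElement_def, mul_assoc, mul_assoc,
      ← mul_assoc (coset _ t)]
    exact mul_mem h3 (conj_mem_of_norm ((Op_normal 3 _).norm (coset_mem_quo _ htL)) (inv_mem h3))
  rw [show y * t * y⁻¹ = ⁅y, t⁆ * t by simp [commutatorElement_def]]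
  exact mul_mem ⟨h1, h'.le_Q (Op_le_syl hT) (hP'.trans hQ) h2⟩ ht

omit hc h5 in
theorem idx (h2 : ∀ t ∈ E, t * t = 1) (y3 : y ^ 3 = 1) (hn : E ≤ 𝐍(zpowers y)) (h : ¬ E ≤ 𝐂[y]) :
    E.relIndex (zpowers y ⊔ E) = 3 ∧ (Op 2 (zpowers y ⊔ E)).relIndex E = 2 := by
  have y1 : y ≠ 1 := fun e => h fun t _ => mem_cent1.2 (by simp [e])
  have E2 : IsPGroup 2 E := fun ⟨t, ht⟩ => ⟨1, Subtype.ext (by simpa [pow_two] using h2 t ht)⟩
  have h0 : ∀ X : Subgroup G, IsPGroup 2 X → X ⊓ zpowers y = ⊥ := fun X hX =>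
    inf_eq_bot_of_coprime_card (coprime_of_isPGroup_ne hX (three_zpowers y3) (by decide))
  have h3 : E.relIndex (zpowers y ⊔ E) = 3 := by
    rw [relIndex_sup_eq (.inr hn), ← inf_relIndex_right, h0 E E2, relIndex_bot_left, Nat.card_zpowers,
      orderOf_three y3 y1]
  refine ⟨h3, ?_⟩
  have h4 : Op 2 (zpowers y ⊔ E) = E ⊓ 𝐂[y] := by
    refine le_antisymm (le_inf (Op_le_syl ⟨le_sup_right, E2, by rw [h3]; decide⟩) ?_)
      (le_Op ⟨inf_le_left.trans le_sup_right, sup_le (le_norm_of_le_cent ?_) (le_norm_of_le_cent ?_)⟩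
        (E2.to_le inf_le_left))
    · rw [← cent_zpowers]
      exact le_cent_of_inf_eq_bot ((Op_le _ _).trans (sup_le (le_norm_self _) hn))
        (le_sup_left.trans (Op_normal 2 _).norm) (h0 _ (Op_isPGroup 2 _))
    · rw [le_cent_comm, cent_zpowers]; exact inf_le_right
    · exact fun a ha => mem_cent_iff.2 fun b hb => comm_of_sq h2 hb.1 ha
  obtain ⟨a, ha, ha'⟩ := SetLike.not_le_iff_exists.1 h
  have hi : ∀ b ∈ E, b ∉ 𝐂[y] → b * y * b⁻¹ = y⁻¹ := fun b hb hb' => by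
    rcases mem_zpowers_three y3 (conj_mem_of_norm (hn hb) (mem_zpowers y)) with e | e | e
    exacts [absurd e (conj_ne_one y1 b), absurd (mem_cent1_iff_conj.2 e) hb', e]
  rw [h4]
  refine relIndex_eq_two_iff.2 ⟨a, ha, fun b hb => ?_⟩
  by_cases hb' : b ∈ 𝐂[y]
  · exact Or.inr ⟨⟨hb, hb'⟩, fun e => ha' ((mul_mem_cancel_left hb').1 e.2)⟩
  · refine Or.inl ⟨⟨mul_mem hb ha, mem_cent1_iff_conj.2 ?_⟩, fun e => hb' e.2⟩
    rw [mul_cj, hi a ha ha', show b * y⁻¹ * b⁻¹ = (b * y * b⁻¹)⁻¹ by group, hi b hb hb', inv_inv]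

theorem loc (hT : Syl 2 T L) (hN : L ⊓ 𝐍(T) ≤ M) (hM : ∀ P ≤ L, Pq T P → P ≤ M)
    {y : Coset (Op 2 L)} (hy : y ∈ L ⁒ Op 2 L) (y3 : y ^ 3 = 1)
    (hn : T ⁒ Op 2 L ≤ 𝐍(zpowers y)) : y ∈ M ⁒ Op 2 L := by
  have hQ := Op_normal 2 L
  have hQT : Op 2 L ⊴ T := ⟨Op_le_syl hT, hT.le.trans hQ.norm⟩
  by_cases h : T ⁒ Op 2 L ≤ 𝐂[y]
  · refine quo_mono _ hN ?_
    rw [quo_inf_norm_eq hQT]
    exact ⟨hy, le_norm_of_le_cent (le_refl _) (le_cent1_iff.1 h)⟩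
  obtain ⟨h3, h2⟩ := idx (hE.coset _) (sq' hE hc h5 hT) y3 hn h
  obtain ⟨P, hP⟩ : ∃ P, P = quoPre (Op 2 L) (zpowers y ⊔ T ⁒ Op 2 L) := ⟨_, rfl⟩
  have hPL : P ≤ L := hP ▸ quoPre_le_of_le hQ (sup_le (zpowers_le.2 hy) (quo_mono _ hT.le))
  have hTP : T ≤ P := hP ▸ (quo_le_iff_le_quoPre hQT.norm).1 le_sup_right
  have hQP : Op 2 L ⊴ P := hP ▸ normalIn_quoPre _
  have hP' : P ⁒ Op 2 L = zpowers y ⊔ T ⁒ Op 2 L := hP ▸ quo_quoPre _
  have hQP' := le_Op hQP (Op_isPGroup 2 L)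
  refine quo_mono _ (hM P hPL ⟨hT.mono hTP hPL, ?_, ?_, ?_⟩) (hP' ▸ mem_sup_left (mem_zpowers y))
  · rw [← relIndex_quo hQT hQP.norm, hP', h3]
  · rw [← relIndex_quo ⟨hQP', (Op_le 2 P).trans hQP.norm⟩ hQT.norm, quo_Op hQP (Op_isPGroup 2 L),
      hP', h2]
  · exact ((inf_le_inf hPL (cent_anti hQP')).trans hc).trans hQP'

theorem gen (hT : Syl 2 T L) (hN : L ⊓ 𝐍(T) ≤ M) (hM : ∀ P ≤ L, Pq T P → P ≤ M) : L ≤ M := by
  have hQ := Op_normal 2 L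
  have hTM : T ≤ M := (le_inf hT.le (le_norm_self T)).trans hN
  have s2 := sq' hE hc h5 hT
  have hE' := hE.coset (Op 2 L)
  have hS := hT.quo hQ.norm
  have key := fun y => loc hE hc h5 hT hN hM (y := y)
  have cl := fun y => closed' hE hc h5 (y := y)
  have h5' := five h5
  have hTM' := quo_mono (Op 2 L) hTM
  rw [← quo_le_quo_iff hQ.norm ((Op_le_syl hT).trans hTM)]
  generalize L ⁒ Op 2 L = X at *
  generalize T ⁒ Op 2 L = E at *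
  generalize M ⁒ Op 2 L = Y at *
  have R3 := Op_isPGroup 3 X
  have hn := hS.le.trans (Op_normal 3 X).norm
  have h1 : Op 3 X ≤ Y := coprime_abelian_gen_cent (ab_iff.2 fun a ha b hb => comm_of_sq s2 ha hb) hn
    (coprime_of_isPGroup_ne R3 hS.isPGroup (by decide)) fun B hB hc r hr => by
      obtain ⟨e, he, hE⟩ := (isCyclic_quo_iff (le_norm_of_le_cent fun a ha =>
        mem_cent_iff.2 fun b hb => comm_of_sq s2 (hB hb) ha)).1 hc
      have k : ∀ y ∈ Op 3 X ⊓ 𝐂(B), e * y * e⁻¹ ∈ zpowers y → y ∈ Y := fun y hy h =>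
        key y (Op_le 3 X hy.1) (hE'.pow3 R3 hy.1) (hE.trans (sup_le (zpowers_le.2
          (mem_norm_of_conj_le (by rwa [conj_zpowers, zpowers_le]))) (le_norm_of_le_cent (by
            rw [le_cent_comm, zpowers_le]; exact hy.2))))
      have eB : e ∈ 𝐂(B) := mem_cent_iff.2 fun b hb => comm_of_sq s2 (hB hb) he
      obtain ⟨s, hs⟩ : ∃ s, s = e * r * e⁻¹ := ⟨_, rfl⟩
      have hs' : e * s * e⁻¹ = r := by
        rw [hs, show e * (e * r * e⁻¹) * e⁻¹ = e * e * r * (e * e)⁻¹ by group, s2 e he]; group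
      have ms : s ∈ Op 3 X ⊓ 𝐂(B) :=
        hs ▸ ⟨conj_mem_of_norm (hn he) hr.1, (𝐂(B)).mul_mem (mul_mem eB hr.2) (inv_mem eB)⟩
      have mj := mul_mem hr (inv_mem ms)
      have j1 := k _ mj (by
        rw [cj_mul, ← hs, show e * s⁻¹ * e⁻¹ = (e * s * e⁻¹)⁻¹ by group, hs',
          show s * r⁻¹ = (r * s⁻¹)⁻¹ by group]
        exact inv_mem (mem_zpowers _))
      have j2 := k _ (mul_mem mj hr) (by
        rw [cj_mul, cj_mul, ← hs, show e * s⁻¹ * e⁻¹ = (e * s * e⁻¹)⁻¹ by group, hs',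
          show s * r⁻¹ * s = r * s⁻¹ * r by
            rw [← mul_one (s * r⁻¹ * s), ← cube (hE'.pow3 R3 (mul_mem (inv_mem ms.1) hr.1))]; group]
        exact mem_zpowers _)
      exact (mul_mem_cancel_left j1).1 j2
  refine le_of_forall_syl fun q hq hd => ?_
  rcases primes hE' h5' q hq hd with rfl | rfl
  · exact ⟨E, hS, hTM'⟩
  · obtain ⟨R, hR⟩ := exists_syl 3 X
    exact ⟨R, hR, fun y hy => h1 (cl y (hR.le hy) (hE'.pow3 hR.isPGroup hy))⟩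

end

end ST3

theorem st3 : ST3.{u} := fun _ _ _ _ hE hc h5 =>
  ⟨fun _ hT _ ht => ST3.sq hE hc h5 hT ht, fun _ hR _ hy y3 => ST3.three hE hc h5 hR hy y3,
    fun _ _ hT hN hM => ST3.gen hE hc h5 hT hN hM,
    fun _ _ _ hT hP hP' h h' => ST3.pair hE hc h5 hT hP hP' h h'⟩

end Cfsg.Agent.OE
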