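import Cfsg.Agent.Lib.OE.Act
import Cfsg.Agent.Lib.OE.SOLV

/-!
# Package ST5 of plan OE: groups of characteristic two of order divisible by five
-/

set_option autoImplicit false
set_option linter.unusedSectionVars false

namespace Cfsg.Agent.OE

open Subgroup Cfsg.Agent.OO Cfsg.Agent.Coprime GW GW2
open scoped Pointwise

universe u

namespace ST5

variable {G : Type u} [Group G] [Finite G] {L Q : Subgroup G} {n x : G}

theorem a5_inv : ∀ v : alternatingGroup (Fin 5), v * v = 1 → v ≠ 1 →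
    ∃ x, x ^ 5 = 1 ∧ x ≠ 1 ∧ v * x * v⁻¹ * x = 1 := by decide +kernel

theorem a5_sq : ∀ t : alternatingGroup (Fin 5), t * t * (t * t) = 1 → t * t = 1 := by decide +kernel

theorem a5_rot : ∀ a : alternatingGroup (Fin 5), a * a = 1 → a ≠ 1 → ∃ k, k ^ 3 = 1 ∧ ∀ t,
    t * a = a * t → t * t = 1 ∧ k * t * k⁻¹ * a = a * (k * t * k⁻¹) ∧
      (t ≠ 1 → k * t * k⁻¹ * t⁻¹ ≠ 1) := by decide +kernel

theorem a5_real : ∀ y : alternatingGroup (Fin 5), y ^ 3 = 1 →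
    ∃ j, j * j = 1 ∧ j * y * j⁻¹ * y = 1 := by decide +kernel

theorem two_elt' (h : n * n = 1) : IsPGroup 2 (zpowers n) :=
  abelem_isPGroup (abelem_zpowers ((sq _).trans h))

theorem o5 (x5 : orderOf x = 5) (hn : n ∈ zpowers x) (n1 : n ≠ 1) : orderOf n = 5 :=
  ((Nat.dvd_prime Nat.prime_five).1 (x5 ▸ orderOf_dvd_of_mem_zpowers hn)).resolve_left
    (mt orderOf_eq_one_iff.1 n1)

theorem cyc (hE : E6 G) (hQ : IsPGroup 2 Q) (h1 : Q ≠ ⊥) (x5 : orderOf x = 5) (hx : x ∈ 𝐍(Q))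
    (hn : n ∈ 𝐍(Q)) (e : n * x = x * n) : n ∈ zpowers x := by
  have := Fact.mk Nat.prime_five
  obtain ⟨k, hk⟩ := (Frob.isFC_of_fpf (A := 𝐍(Q) ⊓ 𝐂[x]) inf_le_left h1 fun a ha a1 k hk e =>
    hE.no10 (orderOf_eq_prime (hE.no5 x5 (mem_cent1.1 ha.2)) a1) e.symm hQ hk).mem_zpowers_of_commute
    Nat.prime_five (x := ⟨x, hx, mem_cent1.2 rfl⟩) (y := ⟨n, hn, mem_cent1.2 e⟩)
    ((orderOf_coe _).symm.trans x5) (Subtype.ext (hE.no5 x5 e)) (Subtype.ext e.symm)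
  exact ⟨k, congrArg Subtype.val hk⟩

theorem norm_cases (hE : E6 G) (hQ : IsPGroup 2 Q) (h1 : Q ≠ ⊥) (x5 : orderOf x = 5) (hx : x ∈ 𝐍(Q))
    (hn : n ∈ 𝐍(Q)) (e : n ∈ 𝐍(zpowers x)) : n ∈ zpowers x ∨ n * n = 1 ∧ n * x * n⁻¹ = x⁻¹ := by
  classical
  refine or_iff_not_imp_left.2 fun h0 => ?_
  have x0 : x ^ 5 = 1 := x5 ▸ pow_orderOf_eq_one x
  have key : ∀ s ∈ 𝐍(Q), s ∉ zpowers x → s ^ 4 * x * (s ^ 4)⁻¹ = x → s ^ 4 = 1 := fun s hs s0 e => by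
    by_contra s1
    have h2 := cyc hE hQ h1 x5 hx (pow_mem hs 4) (comm_of_conj_eq e)
    have h3 := hE.no5 (w := s) (o5 x5 h2 s1) (by group)
    exact s0 (by rwa [eq_inv_of_mul_eq_one_left ((pow_succ s 4).symm.trans h3), inv_mem_iff] at h2)
  have no2 : ∀ s ∈ 𝐍(Q), s ∉ zpowers x → s * x * s⁻¹ ≠ x ^ 2 := fun s hs s0 e => by
    refine h1 (hE.f20 hQ x5 e (key s hs s0 ?_) hx hs)
    calc _ = s * (s * (s * (s * x * s⁻¹) * s⁻¹) * s⁻¹) * s⁻¹ := by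
          simp only [pow_succ, pow_zero, one_mul, mul_inv_rev, mul_assoc]
      _ = (x ^ 5) ^ 3 * x := by simp only [e, ← conj_pow]; group
      _ = x := by rw [x0, one_pow, one_mul]
  have := mem_zpowers_iff_mem_range_orderOf.1 (conj_mem_of_norm e (mem_zpowers x))
  obtain ⟨i, hi, e⟩ := Finset.mem_image.1 this
  rw [x5, Finset.mem_range] at hi
  interval_cases i
  · have := orderOf_conj n x
    rw [← e, pow_zero, orderOf_one] at this
    omega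
  · exact absurd (cyc hE hQ h1 x5 hx hn (comm_of_conj_eq (e.symm.trans (pow_one x)))) h0
  · exact absurd e.symm (no2 n hn h0)
  · refine absurd ?_ (no2 n⁻¹ (inv_mem hn) (by rwa [inv_mem_iff]))
    calc _ = n⁻¹ * (x ^ 5 * x) * n := by rw [x0]; group
      _ = n⁻¹ * (x ^ 3) ^ 2 * n := by group
      _ = _ := by rw [e, conj_pow]; group
  have e' : n * x * n⁻¹ = x⁻¹ := e.symm.trans (eq_inv_of_mul_eq_one_left ((pow_succ x 4).symm.trans x0))
  refine ⟨by_contra fun n1 => h0 ?_, e'⟩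
  have h2 := cyc hE hQ h1 x5 hx (mul_mem hn hn) (comm_of_conj_eq (by
    rw [show n * n * x * (n * n)⁻¹ = n * (n * x * n⁻¹) * n⁻¹ by group, e', ← conj_inv, e', inv_inv]))
  have := pow_mem h2 3
  rwa [show (n * n) ^ 3 = n ^ 5 * n by rw [← pow_two, ← pow_mul, pow_succ], hE.no5 (w := n) (o5 x5 h2 n1) (by group), one_mul] at this

theorem exists_prod (hE : E6 G) (hc : Ch L) (h1 : Op 2 L ≠ ⊥) (h5 : 5 ∣ ♯L) (hs : Sol L) :
    ∃ x ∈ L, orderOf x = 5 ∧ IsProd (Op 2 L) (L ⊓ 𝐍(zpowers x)) L := by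
  have := Fact.mk Nat.prime_five
  obtain ⟨S, hS⟩ := exists_syl 5 L
  obtain ⟨T, hT, hZ, hF⟩ := exists_frattini_pPrimeCoreOf (isPSolvable_of_isSolvable hs) hS
  have hT5 := hS.isPGroup.to_le hT
  obtain ⟨x, hx, x1⟩ := exists_mem_ne_one (inf_cent_ne_bot_of_isPGroup hS.isPGroup hS.isPGroup
    (le_norm_self S) fun e => hS.2.2 (by rwa [e, relIndex_bot_left]))
  have x5 : orderOf x = 5 := orderOf_eq_prime (hE.pow5 hS.isPGroup hx.1) x1
  have hQ := (Op_normal 2 L).norm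
  have xL := hS.le hx.1
  obtain rfl : T = zpowers x := le_antisymm (fun t ht => cyc hE (Op_isPGroup 2 L) h1 x5 (hQ xL)
    (hQ (hS.le (hT ht))) (mul_eq_of_cent hx.2 (hT ht)).symm) (zpowers_le.2 (hZ hx))
  rw [pPrimeCoreOf, ← Op'_eq_map] at hF
  have hK := Opi_normal ({5} : Set ℕ)ᶜ L
  have nil : Nil (Op' 5 L) := prime_Frobenius_sol_kernel_nil (R := zpowers x)
    ((zpowers_le.2 xL).trans hK.norm) (by rw [Nat.card_zpowers, x5]; exact Nat.prime_five)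
    (eq_bot_iff.2 fun k hk => SOLV.not_five_of ((piGrp_compl_singleton Nat.prime_five).1
      (Op'_piGrp 5 L)) hk.1 (hE.no5 x5 (mul_eq_of_cent hk.2 (mem_zpowers x))))
  have hle : Op' 5 L ≤ Op 2 L := fun k hk => mem_of_constt_mem (π := {2})
    (Op_le_of_normal 2 hK (le_Op_of_nil nil (zpowers_le.2 (constt_mem _ hk))
      (isPGroup_zpowers_iff.2 (piElt_constt _ k)) (mem_zpowers _)))
    (hc ⟨hK.le (constt_mem _ hk), cent_anti (le_Op_of_nil nil (le_Opi (Op_normal 2 L)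
      ((piGrp_singleton (Op_isPGroup 2 L)).mono (by simp))) (Op_isPGroup 2 L))
      (Op'_le_cent_Op 2 _ (le_Opi_of_nil nil (zpowers_le.2 (constt_mem _ hk))
        (piGrp_zpowers.2 (piElt_constt _ k)) (mem_zpowers _)))⟩)
  have := IsProd.of_norm (A := Op 2 L) (B := L ⊓ 𝐍(zpowers x)) (.inr (inf_le_left.trans hQ))
  rw [le_antisymm (sup_le (Op_le 2 L) inf_le_left) (hF.trans (sup_le_sup_right hle _))] at this
  exact ⟨x, xL, x5, this⟩

theorem sol (hE : E6 G) (hc : Ch L) (h1 : Op 2 L ≠ ⊥) (h5 : 5 ∣ ♯L) (hs : Sol L) :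
    (∀ T, Syl 2 T L → L ≤ 𝐍(T)) ∨ T5 L := by
  obtain ⟨x, hx, x5, hp⟩ := exists_prod hE hc h1 h5 hs
  have hQ := (Op_normal 2 L).norm
  have Q2 := Op_isPGroup 2 L
  have cs := fun n (hn : n ∈ L ⊓ 𝐍(zpowers x)) => norm_cases hE Q2 h1 x5 (hQ hx) (hQ hn.1) hn.2
  have two : ∀ {T : Subgroup G}, IsPGroup 2 T → ∀ n ∈ T, n ∈ zpowers x → n = 1 :=
    fun hT n hn ⟨k, e⟩ => hE.no10 x5 (by rw [← e]; group) hT hn
  have fr : ∀ n ∈ L ⊓ 𝐍(zpowers x), n ∈ Op 2 L → n = 1 := fun n hn hq => by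
    rcases cs n hn with e | ⟨-, e⟩
    · exact two Q2 n hq e
    · exact hE.no10 x5 (by
        have h2 := two Q2 _ (mul_mem hq (conj_mem_of_norm (hQ hx) (inv_mem hq))) (by
          rw [show n * (x * n⁻¹ * x⁻¹) = n * x * n⁻¹ * x⁻¹ by group, e]
          exact mul_mem (inv_mem (mem_zpowers x)) (inv_mem (mem_zpowers x)))
        rw [← mul_inv_eq_one, ← h2]; group) Q2 hq
  have red : ∀ q ∈ Op 2 L, ∀ n ∈ L, ∀ m : ℕ, (q * n) ^ m * (n ^ m)⁻¹ ∈ Op 2 L := fun q hq n hn m => by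
    induction m with
    | zero => simp
    | succ m ih =>
      rw [show (q * n) ^ (m + 1) * (n ^ (m + 1))⁻¹ = q * (n * ((q * n) ^ m * (n ^ m)⁻¹) * n⁻¹) by
        rw [pow_succ', pow_succ']; group]
      exact mul_mem hq (conj_mem_of_norm (hQ hn) ih)
  by_cases hj : ∃ j ∈ L, j * j = 1 ∧ j * x * j⁻¹ = x⁻¹
  swap
  · refine .inl fun T hT => le_antisymm (fun t ht => ?_) (Op_le_syl hT) ▸ hQ
    obtain ⟨q, hq, n, hn, rfl⟩ := hp.mem_iff.1 (hT.le ht)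
    rwa [two hT.isPGroup n ((mul_mem_cancel_left (Op_le_syl hT hq)).1 ht)
      ((cs n hn).resolve_right fun e => hj ⟨n, hn.1, e⟩), mul_one]
  obtain ⟨j, hj, j2, jx⟩ := hj
  have idx : (Op 2 L).relIndex L = 10 := by
    have h2 : (zpowers x).relIndex (L ⊓ 𝐍(zpowers x)) = 2 :=
      relIndex_eq_two_iff_exists_notMem_and.2 ⟨j, ⟨hj, mem_norm_of_conj_le (by
        rw [conj_zpowers, jx, zpowers_inv])⟩, fun e => by
          rw [two (two_elt' j2) j (mem_zpowers j) e, one_mul, inv_one, mul_one, eq_inv_iff_mul_eq_one,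
            ← pow_two, ← orderOf_dvd_iff_pow_eq_one, x5] at jx
          omega, fun b hb => ((cs b hb).imp_right fun e =>
        cyc hE Q2 h1 x5 (hQ hx) (hQ (mul_mem hb.1 hj)) (comm_of_conj_eq (by
          rw [show b * j * x * (b * j)⁻¹ = b * (j * x * j⁻¹) * b⁻¹ by group, jx, ← conj_inv, e.2,
            inv_inv]))).symm⟩
    rw [hp.symm.relIndex_eq, ← inf_relIndex_right, (eq_bot_iff (a := Op 2 L ⊓ _)).2 fun n hn => fr n hn.2 hn.1,
      relIndex_bot_left, ← card_mul_relIndex (zpowers_le.2 (mem_inf.2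
        ⟨hx, le_norm_self _ (mem_zpowers x)⟩)), h2,
      Nat.card_zpowers, x5]
  refine .inr ⟨hc, h1, hE.d10 Q2 x5 j2 jx (hQ hx) (hQ hj), .inl idx, fun v hv v1 v2 => ?_,
    fun T hT t ht => ?_, fun T hT e => ?_, fun y hy y3 => ?_⟩
  · obtain ⟨q, hq, n, hn, rfl⟩ := hp.mem_iff.1 hv
    have h2 := red q hq n hn.1 2
    rw [pow_two (q * n), mul_mem_cancel_left v2, inv_mem_iff] at h2
    rcases cs n hn with e | ⟨-, e⟩
    · rw [two (two_elt' ((pow_two n).symm.trans (fr _ (pow_mem hn 2) h2))) n (mem_zpowers n) e,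
        mul_one] at v1
      exact absurd hq v1
    · refine ⟨x, hx, x5, ?_⟩
      rw [show q * n * x * (q * n)⁻¹ * x = q * (n * x * n⁻¹ * q⁻¹ * x) by group, e]
      exact mul_mem hq (by simpa using conj_mem_of_norm (hQ (inv_mem hx)) (inv_mem hq))
  · obtain ⟨q, hq, n, hn, rfl⟩ := hp.mem_iff.1 (hT.le ht)
    have h2 := red q hq n hn.1 2
    have h3 : n * n = 1 := (cs n hn).elim (fun e => by
      rw [two hT.isPGroup n ((mul_mem_cancel_left (Op_le_syl hT hq)).1 ht) e, mul_one]) And.left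
    rwa [pow_two, pow_two, h3, inv_one, mul_one] at h2
  · have := relIndex_mul_relIndex _ _ _ (Op_le_syl hT) hT.le
    rw [e, idx] at this
    omega
  · have := orderOf_dvd_card hy
    rw [← card_mul_relIndex (Op_le 2 L), idx, y3] at this
    obtain ⟨k, hk⟩ := IsPGroup.iff_card.1 Q2
    rw [hk] at this
    exact absurd ((Nat.Coprime.pow_right k (by decide)).dvd_of_dvd_mul_left this) (by decide)

theorem nsol (hE : E6 G) (hc : Ch L) (h1 : Op 2 L ≠ ⊥) (el : ∀ q ∈ Op 2 L, q * q = 1)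
    (φ : L →* alternatingGroup (Fin 5)) (hφ : Function.Surjective φ)
    (hk : ∀ a : L, φ a = 1 ↔ (a : G) ∈ Op 2 L) : T5 L := by
  have := Fact.mk Nat.prime_five
  have sq : ∀ T, Syl 2 T L → ∀ t : L, (t : G) ∈ T → φ t * φ t = 1 := fun T hT t ht => a5_sq _ (by
    simp only [← map_mul]
    exact (congrArg φ (Subtype.ext (hE.pow4 hT.isPGroup ht))).trans (map_one φ))
  refine ⟨hc, h1, el, .inr ?_, fun v hv v1 v2 => ?_, fun T hT t ht => (hk (⟨t, hT.le ht⟩ * ⟨t, hT.le ht⟩)).1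
    ((map_mul ..).trans (sq T hT _ ht)), fun T hT e => ?_, fun y hy y3 => ?_⟩
  · rw [relIndex, show (Op 2 L).subgroupOf L = φ.ker from Subgroup.ext fun a => (hk a).symm, index_ker,
      MonoidHom.range_eq_top.2 hφ, card_top, Nat.card_eq_fintype_card]
    decide +kernel
  · obtain ⟨x, x5, x1, e⟩ := a5_inv (φ ⟨v, hv⟩) ((map_mul ..).symm.trans ((hk _).2 v2)) (mt (hk _).1 v1)
    obtain ⟨x, rfl⟩ := hφ x
    refine ⟨x, x.2, ?_, (hk (⟨v, hv⟩ * x * ⟨v, hv⟩⁻¹ * x)).1 (by simpa using e)⟩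
    have h2 := orderOf_map_dvd φ x
    have h3 := hE.cases (x : G)
    rw [orderOf_eq_prime x5 x1, ← orderOf_coe] at h2
    omega
  · obtain ⟨a, ha, a1⟩ := SetLike.not_le_iff_exists.1 fun h : T ≤ Op 2 L => by
      rw [relIndex_eq_one.2 h] at e; omega
    obtain ⟨k, k3, e⟩ := a5_rot (φ ⟨a, hT.le ha⟩) (sq T hT _ ha) (mt (hk _).1 a1)
    obtain ⟨k₀, rfl⟩ := hφ k
    have k6 : (k₀ : G) ^ 3 * k₀ ^ 3 = 1 := el _ ((hk (k₀ ^ 3)).1 (by rw [map_pow, k3]))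
    have h4 : φ (k₀ ^ 4) = φ k₀ := by rw [map_pow, pow_succ, k3, one_mul]
    rw [← h4] at e
    have cm : ∀ t : L, (t : G) ∈ T → φ t * φ ⟨a, hT.le ha⟩ = φ ⟨a, hT.le ha⟩ * φ t := fun t ht => by
      have := sq T hT (t * ⟨a, hT.le ha⟩) (mul_mem ht ha)
      rw [map_mul] at this
      rw [← inv_eq_of_sq this, mul_inv_rev, inv_eq_of_sq (sq T hT t ht), inv_eq_of_sq (sq T hT _ ha)]
    have hT' := hT.eq_of_le (U := (𝐂[φ ⟨a, hT.le ha⟩].comap φ).map L.subtype)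
      (fun t ht => ⟨⟨t, hT.le ht⟩, mem_cent1.2 (cm _ ht), rfl⟩) (map_subtype_le _) (by
        rintro ⟨_, t, ht, rfl⟩
        refine ⟨2, Subtype.ext ?_⟩
        have := el _ ((hk (t * t)).1 ((map_mul ..).trans (e _ (mem_cent1.1 ht)).1))
        simpa [pow_succ, mul_assoc] using this)
    refine ⟨(k₀ ^ 4 : L), ⟨(k₀ ^ 4).2, mem_norm_of_conj_mem fun t ht => hT'.le
      ⟨k₀ ^ 4 * ⟨t, hT.le ht⟩ * (k₀ ^ 4)⁻¹, mem_cent1.2 ?_, rfl⟩⟩, ?_, fun t ht t1 h => ?_⟩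
    · rw [map_mul, map_mul, map_inv]
      exact (e _ (cm _ ht)).2.1
    · rw [coe_pow, ← pow_mul, show 4 * 3 = (3 + 3) * 2 from rfl, pow_mul, pow_add, k6, one_pow]
    · refine (e _ (cm ⟨t, hT.le ht⟩ ht)).2.2 (mt (hk _).1 t1) ?_
      rw [← map_inv, ← map_inv, ← map_mul, ← map_mul, ← map_mul]
      exact (hk _).2 h
  · obtain ⟨j, j2, e⟩ := a5_real (φ ⟨y, hy⟩) (by
      rw [← map_pow, show (⟨y, hy⟩ : L) ^ 3 = 1 from Subtype.ext (y3 ▸ pow_orderOf_eq_one y), map_one])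
    obtain ⟨j, rfl⟩ := hφ j
    exact ⟨j, j.2, (hk (j * j)).1 ((map_mul ..).trans j2),
      (hk (j * ⟨y, hy⟩ * j⁻¹ * ⟨y, hy⟩)).1 (by simpa using e)⟩

end ST5

theorem st5 (ns0 : NS0.{u}) : ST5.{u} := fun G _ _ L hE ih hc h1 h5 => by
  by_cases hs : Sol L
  · exact ST5.sol hE hc h1 h5 hs
  obtain ⟨N, -, -, -, h⟩ := ns0 L (hE.sub L) ih hs
  obtain ⟨rfl, ⟨e⟩, el⟩ := h fun e => h1 (by rw [Op, pCoreOf, e, Subgroup.map_bot])
  refine .inr (ST5.nsol hE hc h1 ?_ (e.toMonoidHom.comp (topEquiv.symm.toMonoidHom.comp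
    (QuotientGroup.mk' _))) (e.surjective.comp (topEquiv.symm.surjective.comp
      (QuotientGroup.mk'_surjective _))) fun a => ?_)
  · rintro _ ⟨q, hq, rfl⟩
    exact congrArg Subtype.val (el q hq)
  · simp [Op, pCoreOf]

end Cfsg.Agent.OE
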